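import Cfsg.Agent.Lib.J4Local.AutSylowChecks
import Cfsg.Agent.Lib.J4Local.LocalData
import Cfsg.Agent.S2062

/-!
# Kernel checks for the classes, centralisers and normalisers in Aut M22
-/

set_option autoImplicit false
set_option maxRecDepth 4000

namespace Cfsg.Agent.Lib.J4Local.AutLocal

open Cfsg.Agent.Lib.Golay Cfsg.Agent.Lib.Computation
open Cfsg.Agent.Lib.FusionAlperin.MathieuCert
open Cfsg.Agent.Lib.J4Local.AutModel
open Cfsg.Agent.Lib.J4Local.SylTable (allL)

/-- The element with index 9 of the Sylow subgroup: the central involution. -/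
def zCode : ℕ := SylData.els.getD 9 0

/-- The indices of the subgroup of exponent two and order 32. -/
def eIdx : List ℕ := SylData.elem5.headD []

/-- The three generators of M22. -/
def innGens : List ℕ :=
  [OutTrivial.M22Cert.data.x, OutTrivial.M22Cert.data.s, OutTrivial.M22Cert.data.t]

/-- An element of the class list. -/
def orbElem (i : ℕ) : ℕ := getW 120 (LocalData.orbitPieces.getD (i / 35) 0) (i % 35)

/-- The generators and z. -/
def baseOk : Bool :=
  (innGens.all fun g => inBig g && Nat.beq (getW 5 g 23) 23) &&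
    inBig zCode && Nat.beq (canon zCode) zCode && Nat.beq (getW 5 zCode 23) 23 &&
    Nat.beq (orbElem 0) zCode && Nat.beq LocalData.orbitRows.length 1155 &&
    inBig LocalData.wInv && !Nat.beq (getW 5 LocalData.wInv 23) 23 &&
    Nat.beq (mulP 24 5 LocalData.wInv zCode) (mulP 24 5 zCode LocalData.wInv)

/-- The class is closed. -/
def orbitClosedOk : Bool :=
  allL (fun e => forceNat (orbElem e.2) fun c => okCode c && Nat.beq (canon c) c &&
    allL (fun gk => forceNat (e.1.getD gk.2 0) fun t =>
      Nat.blt t 1155 && Nat.beq (mulP 24 5 gk.1 c) (mulP 24 5 (orbElem t) gk.1)) (innGens.zip [0, 1, 2]))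
    (LocalData.orbitRows.zip (List.range 1155))

/-- Every member is reached. -/
def orbitParentOk : Bool :=
  allL (fun e => Nat.beq e.2 0 || (forceNat (e.1.getD 3 0) fun p => forceNat (e.1.getD 4 0) fun k =>
    Nat.blt p e.2 && Nat.blt k 3 && Nat.beq ((LocalData.orbitRows.getD p []).getD k 0) e.2))
    (LocalData.orbitRows.zip (List.range 1155))

/-- The members are distinct. -/
def orbitSortOk : Bool :=
  Nat.beq LocalData.orbitSort.length 1155 && (LocalData.orbitSort.all fun i => Nat.blt i 1155) &&
    allL (fun q => Nat.blt (orbElem q.1) (orbElem q.2))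
      (LocalData.orbitSort.zip LocalData.orbitSort.tail)

/-- The involutions of the inner part of the Sylow subgroup are conjugate to z. -/
def invConjOk : Bool :=
  (LocalData.invConj.all fun p => Nat.blt p.1 256 && inBig p.2 &&
    Nat.beq (mulP 24 5 p.2 zCode) (mulP 24 5 (SylData.els.getD p.1 0) p.2)) &&
  (List.range 256).all fun i => Nat.beq i 0 || !Nat.beq (getW 5 (SylData.els.getD i 0) 23) 23 ||
    !Nat.beq (getW 8 (SylData.rows.getD i 0) i) 0 || LocalData.invConj.any fun p => Nat.beq p.1 i

/-- The square root. -/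
def rootOk : Bool :=
  Nat.blt LocalData.rootIdx 256 && Nat.beq (getW 5 (SylData.els.getD LocalData.rootIdx 0) 23) 23 &&
    Nat.beq (getW 8 (SylData.rows.getD LocalData.rootIdx 0) LocalData.rootIdx) 9

/-- The subgroup of exponent two and order 32. -/
def eGroupOk : Bool :=
  Nat.beq eIdx.length 32 && (eIdx.any fun i => Nat.beq i 0) &&
  (eIdx.all fun j => Nat.blt j 256 && forceNat (SylData.rows.getD j 0) fun r =>
    Nat.beq (getW 8 r j) 0 && eIdx.all fun i => eIdx.any fun k => Nat.beq (getW 8 r i) k) &&
  Nat.beq ((eIdx.filter fun i => Nat.beq (getW 5 (SylData.els.getD i 0) 23) 23).length) 16 &&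
  eIdx.any fun i => Nat.beq i 9

/-- Transitivity of the normaliser on the inner involutions of it. -/
def eConjOk : Bool :=
  (LocalData.eConj.all fun p => inBig p.2.1 && Nat.beq p.2.2.length 32 &&
    Nat.beq (mulP 24 5 p.2.1 zCode) (mulP 24 5 (SylData.els.getD p.1 0) p.2.1) &&
    (p.2.2.all fun t => eIdx.any fun k => Nat.beq t k) &&
    (eIdx.zip p.2.2).all fun it =>
      Nat.beq (mulP 24 5 p.2.1 (SylData.els.getD it.1 0)) (mulP 24 5 (SylData.els.getD it.2 0) p.2.1)) &&
  eIdx.all fun i => Nat.beq i 0 || !Nat.beq (getW 5 (SylData.els.getD i 0) 23) 23 ||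
    LocalData.eConj.any fun p => Nat.beq p.1 i

/-- An element of the centraliser outside the normaliser. -/
def eOutOk : Bool :=
  inBig LocalData.eOut && (eIdx.any fun i => Nat.beq i LocalData.eOutIdx) &&
    Nat.beq (mulP 24 5 LocalData.eOut zCode) (mulP 24 5 zCode LocalData.eOut) &&
    forceNat (mulP 24 5 LocalData.eOut (SylData.els.getD LocalData.eOutIdx 0)) fun w =>
      eIdx.all fun i => !Nat.beq w (mulP 24 5 (SylData.els.getD i 0) LocalData.eOut)

/-- A code of the model in canonical form. -/
def goodCode (c : ℕ) : Bool := inBig c && Nat.beq (canon c) c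

/-- The Sylow 3-subgroup. -/
def rGroupOk : Bool :=
  Nat.beq LocalData.r9.length 9 &&
    (LocalData.r9.all fun a => goodCode a && Nat.beq (getW 5 a 23) 23 &&
      Nat.beq (mulP 24 5 a (mulP 24 5 a a)) oneCode &&
      (LocalData.r9.all fun b => forceNat (mulP 24 5 a b) fun c => LocalData.r9.any fun d => Nat.beq c d) &&
      (List.range 3).any fun i => (List.range 3).any fun j =>
        Nat.beq (mulP 24 5 (OutTrivial.cpow LocalData.yCode i) (OutTrivial.cpow LocalData.bCode j)) a) &&
    (LocalData.r9.any fun a => Nat.beq a oneCode) && (LocalData.r9.any fun a => Nat.beq a LocalData.yCode) &&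
    (LocalData.r9.any fun a => Nat.beq a LocalData.bCode) && !Nat.beq LocalData.yCode oneCode &&
    inBig LocalData.wThree && !Nat.beq (getW 5 LocalData.wThree 23) 23 &&
    Nat.beq (mulP 24 5 LocalData.wThree LocalData.yCode) (mulP 24 5 LocalData.yCode LocalData.wThree)

/-- Transitivity of the normaliser of the Sylow 3-subgroup. -/
def rConjOk : Bool :=
  (LocalData.rConj.all fun p => inBig p.2.1 && Nat.beq p.2.2.length 9 &&
    (p.2.2.all fun t => Nat.blt t 9) &&
    Nat.beq (mulP 24 5 p.2.1 LocalData.yCode) (mulP 24 5 (LocalData.r9.getD p.1 0) p.2.1) &&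
    (LocalData.r9.zip p.2.2).all fun it =>
      Nat.beq (mulP 24 5 p.2.1 it.1) (mulP 24 5 (LocalData.r9.getD it.2 0) p.2.1)) &&
  (List.range 9).all fun i => Nat.beq (LocalData.r9.getD i 0) oneCode ||
    LocalData.rConj.any fun p => Nat.beq p.1 i

/-- The levels for the search of the centraliser of the element of order three. -/
def levY : List OutTrivial.Level :=
  [
    ⟨23, 1, [(23, 0)], []⟩,
    ⟨0, 1, [(0, 0)], []⟩,
    ⟨5, 3, [(5, 0), (14, 1), (17, 2)], []⟩,
    ⟨6, 3, [(6, 0), (15, 1), (18, 2)], []⟩,
    ⟨7, 3, [(7, 0), (10, 1), (12, 2)], [8688833]⟩,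
    ⟨8, 3, [(8, 0), (21, 1), (9, 2)], [168928, 2409888, 2512448]⟩,
    ⟨11, 3, [(11, 0), (19, 1), (20, 2)], [580704, 675712, 1351424]⟩,
    ⟨13, 3, [(13, 0), (22, 1), (16, 2)], [15777, 175681, 334433]⟩,
    ⟨1, 1, [(1, 0)], [18147, 31554, 185603]⟩,
    ⟨2, 1, [(2, 0)], [36294, 45159, 52005]⟩,
    ⟨3, 1, [(3, 0)], [72588, 75309, 90318]⟩,
    ⟨4, 1, [(4, 0)], [5279, 10558, 21116]⟩]
/-- The centraliser of the element of order three. -/
def centYOk : Bool :=
  Nat.beq LocalData.centY.length 36 &&
    OutTrivial.searchOk OutTrivial.M22Cert.data.spec LocalData.yCode LocalData.yCode LocalData.centY levY &&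
    LocalData.centY.all fun c => goodCode c && Nat.beq (getW 5 c 23) 23 &&
      Nat.beq (mulP 24 5 c LocalData.yCode) (mulP 24 5 LocalData.yCode c)

/-- The whole centraliser. -/
def cent72 : List ℕ := LocalData.centY ++ LocalData.centY.map (mulP 24 5 LocalData.wThree)

/-- Membership in the normaliser, for centralising elements. -/
def normR (x : ℕ) : Bool :=
  forceNat (mulP 24 5 x LocalData.bCode) fun w => LocalData.r9.any fun r => Nat.beq w (mulP 24 5 r x)

/-- The count. -/
def cent72Ok : Bool :=
  (cent72.all fun c => goodCode c) && Nat.beq ((cent72.filter normR).length) 18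

/-- The Sylow 2-subgroup of the centraliser. -/
def s8Ok : Bool :=
  Nat.beq LocalData.s8.length 8 && (LocalData.s8.any fun a => Nat.beq a oneCode) &&
    (LocalData.s8.all fun a => goodCode a &&
      Nat.beq (mulP 24 5 a LocalData.yCode) (mulP 24 5 LocalData.yCode a) &&
      (LocalData.s8.all fun b => forceNat (mulP 24 5 a b) fun c => LocalData.s8.any fun d => Nat.beq c d) &&
      ((LocalData.s8.any fun b => !Nat.beq (mulP 24 5 a b) (mulP 24 5 b a)) ||
        LocalData.comms.any fun p => Nat.beq p.1 a)) &&
    LocalData.comms.all fun p => (LocalData.s8.any fun d => Nat.beq d p.2.1) &&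
      (LocalData.s8.any fun d => Nat.beq d p.2.2) && goodCode p.1 &&
      Nat.beq (mulP 24 5 p.1 (mulP 24 5 p.2.2 p.2.1)) (mulP 24 5 p.2.1 p.2.2)

theorem baseOk_eq : baseOk = true := by decide +kernel
theorem orbitClosedOk_eq : orbitClosedOk = true := by decide +kernel
theorem orbitParentOk_eq : orbitParentOk = true := by decide +kernel
theorem orbitSortOk_eq : orbitSortOk = true := by decide +kernel
theorem invConjOk_eq : invConjOk = true := by decide +kernel
theorem rootOk_eq : rootOk = true := by decide +kernel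
theorem eGroupOk_eq : eGroupOk = true := by decide +kernel
theorem eIdx_nodup : eIdx.Nodup := by decide +kernel
theorem eConjOk_eq : eConjOk = true := by decide +kernel
theorem eOutOk_eq : eOutOk = true := by decide +kernel
theorem rGroupOk_eq : rGroupOk = true := by decide +kernel
theorem r9_nodup : LocalData.r9.Nodup := by decide +kernel
theorem rConjOk_eq : rConjOk = true := by decide +kernel
theorem centYOk_eq : centYOk = true := by decide +kernel
theorem cent72_nodup : cent72.Nodup := by decide +kernel
theorem cent72Ok_eq : cent72Ok = true := by decide +kernel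
theorem s8Ok_eq : s8Ok = true := by decide +kernel
theorem s8_nodup : LocalData.s8.Nodup := by decide +kernel

end Cfsg.Agent.Lib.J4Local.AutLocal
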