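import Cfsg.Agent.Lib.J4Local.AutTwo
import Cfsg.Agent.Lib.J4Local.AutLocalChecks

/-!
# Classes, centralisers and normalisers in Aut M22
-/

set_option autoImplicit false
set_option maxRecDepth 4000
set_option linter.style.haveILetI false

namespace Cfsg.Agent.Lib.J4Local.AutLocal

open Cfsg Cfsg.Agent.Lib.Golay Cfsg.Agent.Lib.Computation
open Cfsg.Agent.Lib.FusionAlperin.MathieuCert
open Cfsg.Agent.Lib.J4Local.AutModel
open Cfsg.Agent.Lib.J4Local.AutSylow
open Cfsg.Agent.Lib.J4Local.AutTwo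
open Cfsg.Agent.Lib.J4Local.SylTable (allL allL_iff)
open scoped commutatorElement

/-! ### generalities -/

theorem card_orbit {G : Type*} [Group G] [Finite G] (N : Subgroup G) (t : G) :
    Nat.card ↥N = ((fun n => n * t * n⁻¹) '' (N : Set G)).ncard *
      Nat.card ↥(N ⊓ Subgroup.centralizer ({t} : Set G)) := by
  set K := (Subgroup.centralizer ({t} : Set G)).subgroupOf N with hK
  have hKc : Nat.card ↥K = Nat.card ↥(N ⊓ Subgroup.centralizer ({t} : Set G)) := by
    refine Nat.card_congr ⟨fun x => ⟨x.1.1, x.1.2, x.2⟩, fun y => ⟨⟨y.1, y.2.1⟩, y.2.2⟩,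
      fun _ => rfl, fun _ => rfl⟩
  rw [← hKc, ← K.card_mul_index, mul_comm]
  congr 1
  rw [Subgroup.index_eq_card, ← Nat.card_coe_set_eq]
  have key : ∀ a b : ↥N, (a : G) * t * (a : G)⁻¹ = b * t * (b : G)⁻¹ ↔ a⁻¹ * b ∈ K := by
    intro a b
    rw [hK, Subgroup.mem_subgroupOf, Subgroup.mem_centralizer_singleton_iff]
    push_cast
    constructor
    · intro h
      calc (a : G)⁻¹ * b * t = (a : G)⁻¹ * (b * t * (b : G)⁻¹) * b := by group
        _ = t * ((a : G)⁻¹ * b) := by rw [← h]; group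
    · intro h
      calc (a : G) * t * (a : G)⁻¹ = a * (t * ((a : G)⁻¹ * b)) * (b : G)⁻¹ := by group
        _ = b * t * (b : G)⁻¹ := by rw [← h]; group
  let f : ↥N ⧸ K → ↥((fun n => n * t * n⁻¹) '' (N : Set G)) :=
    Quotient.lift (fun a : ↥N => ⟨(a : G) * t * (a : G)⁻¹, a, a.2, rfl⟩)
      (fun a b hab => Subtype.ext ((key a b).mpr (QuotientGroup.leftRel_apply.mp hab)))
  refine Nat.card_congr (Equiv.ofBijective f ⟨?_, ?_⟩)
  · intro p q h
    induction p using QuotientGroup.induction_on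
    induction q using QuotientGroup.induction_on
    exact QuotientGroup.eq.mpr ((key _ _).mp (congrArg Subtype.val h))
  · rintro ⟨_, n, hn, rfl⟩
    exact ⟨(⟨n, hn⟩ : ↥N), rfl⟩

theorem inn_index : inn.index = 2 := Cfsg.Agent.S2062.result

theorem inn_normal : inn.Normal := Cfsg.innNormal ↥Spor.M22

theorem card_double {S : Subgroup AutM22} {w : AutM22} (hw : w ∈ S) (hwn : w ∉ inn) :
    Nat.card ↥S = 2 * Nat.card ↥(S ⊓ inn) := by
  haveI := inn_normal
  have h1 : inn.relIndex S ∣ 2 := inn_index ▸ Subgroup.relIndex_dvd_index_of_normal inn S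
  have h2 : inn.relIndex S ≠ 1 := fun h => hwn (Subgroup.relIndex_eq_one.mp h hw)
  have h3 : inn.relIndex S = 2 := ((Nat.dvd_prime Nat.prime_two).mp h1).resolve_left h2
  rw [← (inn.subgroupOf S).card_mul_index, show (inn.subgroupOf S).index = 2 from h3, mul_comm]
  congr 1
  exact Nat.card_congr ⟨fun x => ⟨x.1.1, x.1.2, x.2⟩, fun y => ⟨⟨y.1, y.2.1⟩, y.2.2⟩,
    fun _ => rfl, fun _ => rfl⟩

theorem card_set {G : Type*} [Group G] (S : Subgroup G) {l : List ℕ} {f : ℕ → G} (hn : l.Nodup)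
    (hf : ∀ a ∈ l, ∀ b ∈ l, f a = f b → a = b) (h : (S : Set G) = f '' {i | i ∈ l}) :
    Nat.card ↥S = l.length := by
  classical
  rw [show Nat.card ↥S = (S : Set G).ncard from Nat.card_coe_set_eq _, h,
    Set.InjOn.ncard_image (show Set.InjOn f {i | i ∈ l} from fun a ha b hb => hf a ha b hb),
    show {i | i ∈ l} = (↑l.toFinset : Set ℕ) by ext; simp, Set.ncard_coe_finset,
    List.toFinset_card_of_nodup hn]

/-- A subgroup given by a finite set of indices. -/
def listGrp {G : Type*} [Group G] [Finite G] (f : ℕ → G) (l : List ℕ) (h1 : ∃ i ∈ l, f i = 1)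
    (hm : ∀ a ∈ l, ∀ b ∈ l, ∃ c ∈ l, f c = f a * f b) : Subgroup G where
  carrier := f '' {i | i ∈ l}
  one_mem' := h1
  mul_mem' := by
    rintro _ _ ⟨a, ha, rfl⟩ ⟨b, hb, rfl⟩
    exact hm a ha b hb
  inv_mem' := by
    intro x hx
    have hpow : ∀ k : ℕ, x ^ k ∈ f '' {i | i ∈ l} := by
      intro k
      induction k with
      | zero => rw [pow_zero]; exact h1
      | succ k ih =>
        obtain ⟨a, ha, hae⟩ := ih
        obtain ⟨b, hb, hbe⟩ := hx
        rw [pow_succ, ← hae, ← hbe]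
        exact hm a ha b hb
    rw [show x⁻¹ = x ^ (orderOf x - 1) by
      rw [inv_eq_iff_mul_eq_one, ← pow_succ', Nat.sub_add_cancel (orderOf_pos x), pow_orderOf_eq_one]]
    exact hpow _

theorem aut_commute {a b : ℕ} (ha : inBig a = true) (hb : inBig b = true)
    (h : mulP 24 5 a b = mulP 24 5 b a) : aut a * aut b = aut b * aut a := by
  rw [aut_eq ha, aut_eq hb, ← map_mul, ← map_mul]
  refine congrArg toAut (Subtype.ext ?_)
  show gperm a * gperm b = gperm b * gperm a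
  rw [← gperm_mul (inBig_spec ha).1 (inBig_spec hb).1, h, gperm_mul (inBig_spec hb).1 (inBig_spec ha).1]

theorem aut_conj {g a b : ℕ} (hg : inBig g = true) (ha : inBig a = true) (hb : inBig b = true)
    (h : mulP 24 5 g a = mulP 24 5 b g) : aut g * aut a * (aut g)⁻¹ = aut b := by
  rw [mul_inv_eq_iff_eq_mul, aut_eq hg, aut_eq ha, aut_eq hb, ← map_mul, ← map_mul]
  refine congrArg toAut (Subtype.ext ?_)
  show gperm g * gperm a = gperm b * gperm g
  rw [← gperm_mul (inBig_spec hg).1 (inBig_spec ha).1, h,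
    gperm_mul (inBig_spec hb).1 (inBig_spec hg).1]

theorem canon_mulP {a b : ℕ} : canon (mulP 24 5 a b) = mulP 24 5 a b := by
  simp only [canon, mulP, forceNat_eq]
  exact packW_congr fun i hi => getW_packW (w := 5) (fun x _ => by
    rw [getW_eq]; exact Nat.mod_lt _ (Nat.two_pow_pos 5)) hi

theorem val_eq {i : ℕ} : val i = aut (SylData.els.getD i 0) := rfl

theorem val_code_inn {i : ℕ} (hi : i < 256) : val i ∈ inn ↔ getW 5 (SylData.els.getD i 0) 23 = 23 :=
  aut_mem_inn (els_spec hi).1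

theorem sq_val {i : ℕ} (hi : i < 256) : val i * val i = val (getW 8 (SylData.rows.getD i 0) i) :=
  (row_spec i hi i hi).symm

/-! ### the central involution -/

/-- The central involution of the Sylow subgroup. -/
noncomputable def zA : AutM22 := val 9

theorem base : (∀ g ∈ innGens, inBig g = true ∧ getW 5 g 23 = 23) ∧ inBig zCode = true ∧
    canon zCode = zCode ∧ getW 5 zCode 23 = 23 ∧ orbElem 0 = zCode ∧
    LocalData.orbitRows.length = 1155 ∧ inBig LocalData.wInv = true ∧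
    getW 5 LocalData.wInv 23 ≠ 23 ∧ mulP 24 5 LocalData.wInv zCode = mulP 24 5 zCode LocalData.wInv := by
  have h := baseOk_eq
  simp only [baseOk, Bool.and_eq_true, List.all_eq_true, Nat.beq_eq, Bool.not_eq_true',
    Bool.eq_false_iff, ne_eq] at h
  obtain ⟨⟨⟨⟨⟨⟨⟨⟨h1, h2⟩, h3⟩, h4⟩, h5⟩, h6⟩, h7⟩, h8⟩, h9⟩ := h
  exact ⟨h1, h2, h3, h4, h5, h6, h7, h8, h9⟩

theorem zA_eq : zA = aut zCode := rfl

theorem zA_mem_inn : zA ∈ inn := (aut_mem_inn base.2.1).mpr base.2.2.2.1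

theorem closure_gens : Spor.M22 = Subgroup.closure (gperm '' {c | c ∈ innGens}) := by
  have h : innGens = OutTrivial.M22Cert.g_gens := OutTrivial.M22Cert.gens_eq.symm
  rw [h]
  refine Golay.closure_eq_of_cert OutTrivial.M22Cert.g_check (fun c hc => ?_)
    (Golay.card_spor_M22.trans OutTrivial.M22Cert.order_eq.symm)
  rw [← h] at hc
  obtain ⟨h1, h2⟩ := base.1 c hc
  refine (mem_m22_iff (inBig_spec h1).2).mpr (idx_injective ?_)
  rw [idx_gperm (inBig_spec h1).1]
  exact h2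

theorem orb_spec {i : ℕ} (hi : i < 1155) : okCode (orbElem i) = true ∧ canon (orbElem i) = orbElem i ∧
    ∀ k < 3, (LocalData.orbitRows.getD i []).getD k 0 < 1155 ∧
      gperm (innGens.getD k 0) * gperm (orbElem i) =
        gperm (orbElem ((LocalData.orbitRows.getD i []).getD k 0)) * gperm (innGens.getD k 0) := by
  have h := orbitClosedOk_eq
  simp only [orbitClosedOk, allL_iff, forceNat_eq, Bool.and_eq_true, Nat.beq_eq, Nat.blt_eq] at h
  have hmem : ∀ j < 1155,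
      (LocalData.orbitRows.getD j [], j) ∈ LocalData.orbitRows.zip (List.range 1155) := by
    intro j hj
    refine List.mem_iff_getElem.mpr ⟨j, by simp [base.2.2.2.2.2.1, hj], ?_⟩
    simp only [List.getElem_zip, List.getElem_range, Prod.mk.injEq, and_true]
    exact (List.getD_eq_getElem _ _ _).symm
  have hall : ∀ j < 1155, okCode (orbElem j) = true := fun j hj => (h _ (hmem j hj)).1.1
  obtain ⟨⟨h1, h2⟩, h3⟩ := h _ (hmem i hi)
  refine ⟨h1, h2, fun k hk => ?_⟩
  have hgk : (innGens.getD k 0, k) ∈ innGens.zip [0, 1, 2] := by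
    interval_cases k <;> simp [innGens]
  obtain ⟨ht, he⟩ := h3 _ hgk
  have hg : okCode (innGens.getD k 0) = true :=
    (inBig_spec (base.1 _ (List.of_mem_zip hgk).1).1).1
  refine ⟨ht, ?_⟩
  rw [← gperm_mul hg h1, ← gperm_mul (hall _ ht) hg, he]

/-- The class in M22. -/
theorem class_eq : (fun n => n * gperm zCode * n⁻¹) '' (Spor.M22 : Set (Equiv.Perm GolayPt)) =
    (fun i => gperm (orbElem i)) '' Set.Iio 1155 := by
  have hgen : ∀ c ∈ innGens, gperm c ∈ Spor.M22 := fun c hc => by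
    rw [closure_gens]; exact Subgroup.subset_closure ⟨c, hc, rfl⟩
  apply Set.Subset.antisymm
  · rintro _ ⟨n, hn, rfl⟩
    show n * gperm zCode * n⁻¹ ∈ (fun i => gperm (orbElem i)) '' Set.Iio 1155
    suffices H : ∀ i < 1155, ∃ j < 1155, n * gperm (orbElem i) * n⁻¹ = gperm (orbElem j) by
      obtain ⟨j, hj, he⟩ := H 0 (by norm_num)
      rw [base.2.2.2.2.1] at he
      exact ⟨j, hj, he.symm⟩
    rw [SetLike.mem_coe, closure_gens, ← Subgroup.mem_toSubmonoid,
      Subgroup.closure_toSubmonoid_of_finite] at hn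
    induction hn using Submonoid.closure_induction with
    | mem g hg =>
      obtain ⟨c, hc, rfl⟩ := hg
      intro i hi
      obtain ⟨k, hk, rfl⟩ : ∃ k < 3, innGens.getD k 0 = c := by
        simp only [innGens, List.mem_cons, List.not_mem_nil, or_false, Set.mem_ofPred_eq] at hc
        rcases hc with rfl | rfl | rfl
        exacts [⟨0, by norm_num, rfl⟩, ⟨1, by norm_num, rfl⟩, ⟨2, by norm_num, rfl⟩]
      obtain ⟨ht, he⟩ := (orb_spec hi).2.2 k hk
      exact ⟨_, ht, by rw [mul_inv_eq_iff_eq_mul, he]⟩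
    | one => exact fun i hi => ⟨i, hi, by simp⟩
    | mul a b _ _ iha ihb =>
      intro i hi
      obtain ⟨j, hj, hje⟩ := ihb i hi
      obtain ⟨l, hl, hle⟩ := iha j hj
      exact ⟨l, hl, by rw [← hle, ← hje]; group⟩
  · rintro _ ⟨i, hi, rfl⟩
    induction i using Nat.strongRecOn with
    | ind i ih =>
      rcases Nat.eq_zero_or_pos i with rfl | hpos
      · exact ⟨1, one_mem _, by simp [base.2.2.2.2.1]⟩
      · have hp := orbitParentOk_eq
        simp only [orbitParentOk, allL_iff, forceNat_eq, Bool.or_eq_true, Bool.and_eq_true,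
          Nat.beq_eq, Nat.blt_eq] at hp
        have hi' : i < 1155 := hi
        rcases hp (LocalData.orbitRows.getD i [], i) (List.mem_iff_getElem.mpr
            ⟨i, by simp [base.2.2.2.2.2.1, hi'], by
              simp only [List.getElem_zip, List.getElem_range, Prod.mk.injEq, and_true]
              exact (List.getD_eq_getElem _ _ _).symm⟩) with h0 | ⟨⟨hlt, hk⟩, he⟩
        · exact absurd (show i = 0 from h0) (by omega)
        · simp only at hlt hk he
          obtain ⟨n, hn, hne⟩ := ih _ hlt (hlt.trans hi')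
          obtain ⟨-, he'⟩ := (orb_spec (hlt.trans hi')).2.2 _ hk
          rw [he] at he'
          refine ⟨gperm (innGens.getD ((LocalData.orbitRows.getD i []).getD 4 0) 0) * n,
            mul_mem (hgen _ ?_) hn, ?_⟩
          · rw [List.getD_eq_getElem _ _ (by simpa [innGens] using hk)]
            exact List.getElem_mem _
          · simp only at hne ⊢
            rw [← mul_inv_eq_iff_eq_mul] at he'
            rw [← he', ← hne]
            group

theorem class_card : ((fun i => gperm (orbElem i)) '' Set.Iio 1155).ncard = 1155 := by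
  rw [Set.InjOn.ncard_image ?_]
  · simp
  have hs := orbitSortOk_eq
  simp only [orbitSortOk, Bool.and_eq_true, Nat.beq_eq, List.all_eq_true, allL_iff, Nat.blt_eq] at hs
  obtain ⟨⟨hl, hb⟩, hm⟩ := hs
  have hsorted : (LocalData.orbitSort.map orbElem).Pairwise (· < ·) := by
    refine sortedLT_of_zip ?_
    rw [List.all_eq_true]
    intro q hq
    rw [← List.map_tail, List.zip_map] at hq
    obtain ⟨p, hp, rfl⟩ := List.mem_map.mp hq
    exact Nat.blt_eq.mpr (hm p hp)
  have hnd : (LocalData.orbitSort.map orbElem).Nodup := hsorted.imp (fun h => Nat.ne_of_lt h)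
  have hsub : LocalData.orbitSort.toFinset = Finset.range 1155 := by
    refine Finset.eq_of_subset_of_card_le (fun x hx => Finset.mem_range.mpr (hb x (List.mem_toFinset.mp hx))) ?_
    rw [Finset.card_range, List.toFinset_card_of_nodup (hnd.of_map _), hl]
  intro i hi j hj he
  have hin : ∀ x < 1155, x ∈ LocalData.orbitSort := fun x hx => by
    rw [← List.mem_toFinset, hsub, Finset.mem_range]; exact hx
  refine List.inj_on_of_nodup_map hnd (hin i hi) (hin j hj) ?_
  exact eq_of_gperm (orb_spec hi).1 (orb_spec hj).1 (orb_spec hi).2.1 (orb_spec hj).2.1 he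

theorem cent_inn_z : Nat.card ↥(inn ⊓ Subgroup.centralizer ({zA} : Set AutM22)) = 384 := by
  have h := card_orbit Spor.M22 (gperm zCode)
  rw [class_eq, class_card, Golay.card_spor_M22] at h
  have hz := (inBig_spec base.2.1).2
  have hzA : zA = toAut ⟨gperm zCode, hz⟩ := aut_eq base.2.1
  have hmap : ((Spor.M22 ⊓ Subgroup.centralizer ({gperm zCode} : Set (Equiv.Perm GolayPt))).subgroupOf
      big).map toAut.toMonoidHom = inn ⊓ Subgroup.centralizer ({zA} : Set AutM22) := by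
    ext x
    obtain ⟨g, rfl⟩ := toAut.surjective x
    rw [show toAut g = toAut.toMonoidHom g from rfl, Subgroup.mem_map_iff_mem (f := toAut.toMonoidHom) toAut.injective,
      Subgroup.mem_subgroupOf, Subgroup.mem_inf, Subgroup.mem_inf, mem_m22_iff g.2]
    show _ ∧ _ ↔ toAut g ∈ inn ∧ _
    rw [toAut_mem_inn, Subgroup.mem_centralizer_singleton_iff, Subgroup.mem_centralizer_singleton_iff,
      hzA, show (toAut.toMonoidHom g) = toAut g from rfl, ← map_mul, ← map_mul, toAut.injective.eq_iff,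
      Subtype.ext_iff]
    rfl
  have hc : Nat.card ↥(Spor.M22 ⊓ Subgroup.centralizer ({gperm zCode} : Set (Equiv.Perm GolayPt))) = 384 := by
    omega
  rw [← hmap, Subgroup.card_map_of_injective (f := toAut.toMonoidHom) toAut.injective,
    Nat.card_congr (Subgroup.subgroupOfEquivOfLe (inf_le_left.trans m22_le)).toEquiv, hc]

theorem wInv_spec : aut LocalData.wInv ∉ inn ∧ aut LocalData.wInv * zA = zA * aut LocalData.wInv := by
  obtain ⟨-, hz, -, -, -, -, hw, hw', hc⟩ := base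
  exact ⟨fun h => hw' ((aut_mem_inn hw).mp h), aut_commute hw hz hc⟩

theorem cent_z : Nat.card ↥(Subgroup.centralizer ({zA} : Set AutM22)) = 768 := by
  rw [card_double (Subgroup.mem_centralizer_singleton_iff.mpr wInv_spec.2) wInv_spec.1, inf_comm,
    cent_inn_z]

theorem inner_of_outer {c w t : AutM22} (hw : w ∉ inn) (hwt : w * t = t * w) :
    ∃ c' ∈ inn, c' * t * c'⁻¹ = c * t * c⁻¹ := by
  by_cases hc : c ∈ inn
  · exact ⟨c, hc, rfl⟩
  · refine ⟨c * w, (Subgroup.mul_mem_iff_of_index_two inn_index).mpr (by simp [hc, hw]), ?_⟩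
    calc c * w * t * (c * w)⁻¹ = c * (w * t) * w⁻¹ * c⁻¹ := by group
      _ = c * t * c⁻¹ := by rw [hwt]; group

theorem conj_zA {a : AutM22} (ha : a ∈ inn) (ho : orderOf a = 2) :
    ∃ c ∈ inn, c * zA * c⁻¹ = a := by
  obtain ⟨g, hg⟩ := exists_conj_le (S := Subgroup.zpowers a) (k := 1) (by rw [Nat.card_zpowers, ho]; rfl)
  have hmem : g * a * g⁻¹ ∈ syl := hg ⟨a, Subgroup.mem_zpowers a, rfl⟩
  obtain ⟨i, hi, hie⟩ := mem_syl.mp hmem
  have hinn : val i ∈ inn := hie ▸ inn_normal.conj_mem a ha g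
  have hsq : val i * val i = 1 := by
    rw [hie, show g * a * g⁻¹ * (g * a * g⁻¹) = g * (a * a) * g⁻¹ by group,
      show a * a = 1 by rw [← sq, ← ho, pow_orderOf_eq_one]]
    group
  have hne : val i ≠ 1 := by
    rw [hie]
    intro h
    rw [conj_eq_one_iff] at h
    rw [h, orderOf_one] at ho
    exact absurd ho (by norm_num)
  have h := invConjOk_eq
  simp only [invConjOk, Bool.and_eq_true, List.all_eq_true, List.mem_range, Bool.or_eq_true,
    Nat.beq_eq, Bool.not_eq_true', Bool.eq_false_iff, ne_eq, List.any_eq_true, Nat.blt_eq] at h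
  rcases h.2 i hi with ((h0 | h0) | h0) | ⟨p, hp, rfl⟩
  · exact absurd (h0 ▸ val_zero) hne
  · exact absurd ((val_code_inn hi).mp hinn) h0
  · refine absurd (model.inj _ (getW8_lt _ _) 0 (Nat.succ_pos _) ?_) h0
    rw [← sq_val hi, hsq, val_zero]
  · obtain ⟨⟨-, hgm⟩, hrel⟩ := h.1 p hp
    have he : aut p.2 * zA * (aut p.2)⁻¹ = val p.1 := aut_conj hgm base.2.1 (els_spec hi).1 hrel
    obtain ⟨c, hc, hce⟩ := inner_of_outer (c := g⁻¹ * aut p.2) (t := zA) wInv_spec.1 wInv_spec.2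
    refine ⟨c, hc, hce.trans ?_⟩
    rw [mul_inv_rev, inv_inv, show g⁻¹ * aut p.2 * zA * ((aut p.2)⁻¹ * g) =
      g⁻¹ * (aut p.2 * zA * (aut p.2)⁻¹) * g by group, he, hie]
    group

theorem root_spec : ∃ s ∈ inn, s * s = zA := by
  have h := rootOk_eq
  simp only [rootOk, Bool.and_eq_true, Nat.blt_eq, Nat.beq_eq] at h
  obtain ⟨⟨h1, h2⟩, h3⟩ := h
  exact ⟨val LocalData.rootIdx, (val_code_inn h1).mpr h2, by rw [sq_val h1, h3]; rfl⟩

/-! ### the subgroup of exponent two and order 32 -/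

theorem eIdx_spec : eIdx.length = 32 ∧ 0 ∈ eIdx ∧ 9 ∈ eIdx ∧
    (∀ j ∈ eIdx, j < 256 ∧ getW 8 (SylData.rows.getD j 0) j = 0 ∧
      ∀ i ∈ eIdx, getW 8 (SylData.rows.getD j 0) i ∈ eIdx) ∧
    (eIdx.filter fun i => Nat.beq (getW 5 (SylData.els.getD i 0) 23) 23).length = 16 := by
  have h := eGroupOk_eq
  simp only [eGroupOk, Bool.and_eq_true, Nat.beq_eq, List.any_eq_true, List.all_eq_true,
    forceNat_eq, Nat.blt_eq] at h
  obtain ⟨⟨⟨⟨h1, x, hx, rfl⟩, h3⟩, h4⟩, y, hy, rfl⟩ := h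
  refine ⟨h1, hx, hy, fun j hj => ⟨(h3 j hj).1, (h3 j hj).2.1, fun i hi => ?_⟩, h4⟩
  obtain ⟨k, hk, he⟩ := (h3 j hj).2.2 i hi
  rwa [he]

theorem eIdx_lt {i : ℕ} (hi : i ∈ eIdx) : i < 256 := (eIdx_spec.2.2.2.1 i hi).1

theorem eIdx_inj : ∀ a ∈ eIdx, ∀ b ∈ eIdx, val a = val b → a = b :=
  fun a ha b hb h => model.inj a (eIdx_lt ha) b (eIdx_lt hb) h

/-- The subgroup of exponent two and order 32. -/
noncomputable def eGrp : Subgroup AutM22 :=
  listGrp val eIdx ⟨0, eIdx_spec.2.1, val_zero⟩ fun a ha b hb =>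
    ⟨_, (eIdx_spec.2.2.2.1 b hb).2.2 a ha, row_spec b (eIdx_lt hb) a (eIdx_lt ha)⟩

theorem coe_eGrp : (eGrp : Set AutM22) = val '' {i | i ∈ eIdx} := rfl

theorem mem_eGrp {x : AutM22} : x ∈ eGrp ↔ ∃ i ∈ eIdx, val i = x := Iff.rfl

theorem card_eGrp : Nat.card ↥eGrp = 32 := by
  rw [card_set eGrp eIdx_nodup eIdx_inj coe_eGrp, eIdx_spec.1]

theorem exp2_eGrp : IsExp2 eGrp := by
  rintro _ ⟨i, hi, rfl⟩
  rw [sq_val (eIdx_lt hi), (eIdx_spec.2.2.2.1 i hi).2.1, val_zero]

theorem eGrp_le : eGrp ≤ syl := by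
  rintro _ ⟨i, hi, rfl⟩
  exact val_mem (eIdx_lt hi)

theorem exp2_in_syl {S : Subgroup AutM22} (hS : S ≤ syl) (h : IsExp2 S) (hc : Nat.card ↥S = 32) :
    S = eGrp := by
  obtain ⟨K, hK, W, hWle, hW⟩ := model.reach_top elem_ok5 S hS (isExp2_comm h) (fun _ => h)
    (by rw [hc]; rfl)
  rw [show (SylData.elemAll.take 5).getLastD [[0]] = SylData.elem5 from rfl,
    show SylData.elem5 = [eIdx] from rfl, List.mem_singleton] at hK
  subst hK
  have hWE : W = eGrp := SetLike.coe_injective (hW.trans coe_eGrp.symm)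
  rw [← hWE]
  exact (Subgroup.eq_of_le_of_card_ge hWle (by rw [hWE, card_eGrp, hc])).symm

theorem exists_conj_eGrp {S : Subgroup AutM22} (h : IsExp2 S) (hc : Nat.card ↥S = 32) :
    ∃ g : AutM22, S.map (MulAut.conj g).toMonoidHom = eGrp := by
  obtain ⟨g, hg⟩ := exists_conj_le (k := 5) (S := S) (by rw [hc]; norm_num)
  exact ⟨g, exp2_in_syl hg (isExp2_conj h g) (by rw [card_conj, hc])⟩

theorem card_eGrp_inn : Nat.card ↥(eGrp ⊓ inn) = 16 := by
  rw [card_set (eGrp ⊓ inn) (eIdx_nodup.filter fun i => Nat.beq (getW 5 (SylData.els.getD i 0) 23) 23)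
    (fun a ha b hb => eIdx_inj a (List.mem_filter.mp ha).1 b (List.mem_filter.mp hb).1) ?_,
    eIdx_spec.2.2.2.2]
  ext x
  simp only [SetLike.mem_coe, Subgroup.mem_inf, mem_eGrp, Set.mem_image, Set.mem_ofPred_eq,
    List.mem_filter, Nat.beq_eq]
  constructor
  · rintro ⟨⟨i, hi, rfl⟩, h⟩
    exact ⟨i, ⟨hi, (val_code_inn (eIdx_lt hi)).mp h⟩, rfl⟩
  · rintro ⟨i, ⟨hi, h⟩, rfl⟩
    exact ⟨⟨i, hi, rfl⟩, (val_code_inn (eIdx_lt hi)).mpr h⟩

theorem mem_normalizer_of_conj {H : Subgroup AutM22} {g : AutM22}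
    (h : ∀ x ∈ H, g * x * g⁻¹ ∈ H) : g ∈ Subgroup.normalizer (H : Set AutM22) := by
  have hmap : H.map (MulAut.conj g).toMonoidHom = H :=
    Subgroup.eq_of_le_of_card_ge (by rintro _ ⟨x, hx, rfl⟩; exact h x hx) (by rw [card_conj])
  rw [Subgroup.mem_normalizer_iff]
  intro x
  refine ⟨fun hx => h x hx, fun hx => ?_⟩
  rw [← hmap] at hx
  obtain ⟨y, hy, hye⟩ := hx
  rwa [← (MulAut.conj g).injective (show MulAut.conj g y = MulAut.conj g x from hye)]

theorem normalizer_eGrp : Nat.card ↥(Subgroup.normalizer (eGrp : Set AutM22)) = 3840 := by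
  set N := Subgroup.normalizer (eGrp : Set AutM22) with hN
  have hsylN : syl ≤ N := fun s hs => by
    refine mem_normalizer_of_conj fun x hx => ?_
    have heq : eGrp.map (MulAut.conj s).toMonoidHom = eGrp :=
      exp2_in_syl (by
        rintro _ ⟨y, hy, rfl⟩
        exact mul_mem (mul_mem hs (eGrp_le hy)) (inv_mem hs))
        (isExp2_conj exp2_eGrp s) (by rw [card_conj, card_eGrp])
    rw [← heq]
    exact ⟨x, hx, rfl⟩
  have hsylC : syl ≤ Subgroup.centralizer ({zA} : Set AutM22) := by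
    rintro _ ⟨i, hi, rfl⟩
    rw [Subgroup.mem_centralizer_singleton_iff]
    have hfull : SylData.cents.getD 9 0 = 2 ^ 256 - 1 := by decide +kernel
    have h := (model.cent_iff (i := 9) (j := i) (by norm_num)).mp (by
      rw [hfull, Nat.testBit_two_pow_sub_one]; simpa using hi)
    exact h.2.symm
  have hstab : Nat.card ↥(N ⊓ Subgroup.centralizer ({zA} : Set AutM22)) = 256 := by
    set M := N ⊓ Subgroup.centralizer ({zA} : Set AutM22) with hM
    have h1 := Subgroup.card_dvd_of_le (inf_le_right : M ≤ Subgroup.centralizer ({zA} : Set AutM22))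
    have h2 := Subgroup.card_dvd_of_le (le_inf hsylN hsylC : syl ≤ M)
    rw [cent_z] at h1
    rw [card_syl] at h2
    have hne : Nat.card ↥M ≠ 768 := by
      intro h768
      have heq : M = Subgroup.centralizer ({zA} : Set AutM22) :=
        Subgroup.eq_of_le_of_card_ge inf_le_right (by rw [cent_z, h768])
      have h := eOutOk_eq
      simp only [eOutOk, Bool.and_eq_true, List.any_eq_true, List.all_eq_true, Nat.beq_eq,
        forceNat_eq, Bool.not_eq_true', Bool.eq_false_iff, ne_eq] at h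
      obtain ⟨⟨⟨hu, j, hj, rfl⟩, hc⟩, hnot⟩ := h
      have huC : aut LocalData.eOut ∈ Subgroup.centralizer ({zA} : Set AutM22) :=
        Subgroup.mem_centralizer_singleton_iff.mpr (aut_commute hu base.2.1 hc)
      rw [← heq] at huC
      obtain ⟨k, hk, hke⟩ := mem_eGrp.mp
        ((Subgroup.mem_normalizer_iff.mp huC.1 (val LocalData.eOutIdx)).mp ⟨_, hj, rfl⟩)
      apply hnot k hk
      rw [val_eq, val_eq, eq_comm, mul_inv_eq_iff_eq_mul, aut_eq hu, aut_eq (els_spec (eIdx_lt hj)).1,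
        aut_eq (els_spec (eIdx_lt hk)).1, ← map_mul, ← map_mul, toAut.injective.eq_iff,
        Subtype.ext_iff] at hke
      have hke' : gperm (mulP 24 5 LocalData.eOut (SylData.els.getD LocalData.eOutIdx 0)) =
          gperm (mulP 24 5 (SylData.els.getD k 0) LocalData.eOut) := by
        rw [gperm_mul (inBig_spec hu).1 (inBig_spec (els_spec (eIdx_lt hj)).1).1,
          gperm_mul (inBig_spec (els_spec (eIdx_lt hk)).1).1 (inBig_spec hu).1]
        exact hke
      exact eq_of_gperm (okCode_mulP (inBig_spec hu).1 (inBig_spec (els_spec (eIdx_lt hj)).1).1)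
        (okCode_mulP (inBig_spec (els_spec (eIdx_lt hk)).1).1 (inBig_spec hu).1) canon_mulP canon_mulP hke'
    obtain ⟨m, hm⟩ := h2
    rw [hm] at h1 hne ⊢
    have := Nat.le_of_dvd (by norm_num) (Nat.dvd_of_mul_dvd_mul_left (by norm_num) (show 256 * m ∣ 256 * 3 from h1))
    have hm0 : m ≠ 0 := fun h0 => absurd hm (by rw [h0, mul_zero]; exact Nat.card_pos.ne')
    have hdvd := Nat.dvd_of_mul_dvd_mul_left (by norm_num) (show 256 * m ∣ 256 * 3 from h1)
    rcases (Nat.dvd_prime Nat.prime_three).mp hdvd with rfl | rfl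
    · norm_num
    · exact absurd rfl hne
  have horb : ((fun n => n * zA * n⁻¹) '' (N : Set AutM22)).ncard = 15 := by
    have hset : (fun n => n * zA * n⁻¹) '' (N : Set AutM22) =
        ((eGrp ⊓ inn : Subgroup AutM22) : Set AutM22) \ {1} := by
      ext x
      constructor
      · rintro ⟨n, hn, rfl⟩
        refine ⟨⟨(Subgroup.mem_normalizer_iff.mp hn zA).mp ⟨9, eIdx_spec.2.2.1, rfl⟩,
          inn_normal.conj_mem _ zA_mem_inn n⟩, ?_⟩
        intro h
        simp only [Set.mem_singleton_iff, conj_eq_one_iff] at h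
        exact absurd (model.inj 9 (by norm_num) 0 (by norm_num) (h.trans val_zero.symm)) (by norm_num)
      · rintro ⟨⟨⟨i, hi, rfl⟩, hinn⟩, hne⟩
        have h := eConjOk_eq
        simp only [eConjOk, Bool.and_eq_true, List.all_eq_true, Bool.or_eq_true, Nat.beq_eq,
          Bool.not_eq_true', Bool.eq_false_iff, ne_eq, List.any_eq_true] at h
        rcases h.2 i hi with (h0 | h0) | ⟨p, hp, rfl⟩
        · exact absurd (h0 ▸ val_zero) hne
        · exact absurd ((val_code_inn (eIdx_lt hi)).mp hinn) h0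
        · obtain ⟨⟨⟨⟨hg, hlen⟩, hrel⟩, htg⟩, hzip⟩ := h.1 p hp
          refine ⟨aut p.2.1, mem_normalizer_of_conj ?_, aut_conj hg base.2.1 (els_spec (eIdx_lt hi)).1 hrel⟩
          rintro _ ⟨j, hj, rfl⟩
          obtain ⟨k, hk, hkj⟩ := List.mem_iff_getElem.mp hj
          have hk' : k < p.2.2.length := by rw [hlen]; rw [eIdx_spec.1] at hk; exact hk
          have hmem : (j, p.2.2[k]) ∈ eIdx.zip p.2.2 := List.mem_iff_getElem.mpr
            ⟨k, by rw [List.length_zip]; omega, by simp [hkj]⟩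
          obtain ⟨t, ht, hte⟩ := htg _ (List.getElem_mem hk')
          refine ⟨t, ht, ?_⟩
          rw [val_eq, val_eq]
          refine (aut_conj hg (els_spec (eIdx_lt hj)).1 (els_spec (eIdx_lt ht)).1 ?_).symm
          rw [hzip _ hmem, hte]
    rw [hset, Set.ncard_sdiff_singleton_of_mem (one_mem _), ← Nat.card_coe_set_eq]
    show Nat.card ↥(eGrp ⊓ inn) - 1 = 15
    rw [card_eGrp_inn]
  rw [card_orbit N zA, horb, hstab]

/-! ### elements of order three -/

/-- The element of order three. -/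
noncomputable def yA : AutM22 := aut LocalData.yCode

theorem rBase : LocalData.r9.length = 9 ∧
    (∀ a ∈ LocalData.r9, inBig a = true ∧ canon a = a ∧ getW 5 a 23 = 23 ∧
      mulP 24 5 a (mulP 24 5 a a) = oneCode ∧
      (∀ b ∈ LocalData.r9, mulP 24 5 a b ∈ LocalData.r9) ∧
      ∃ i < 3, ∃ j < 3, mulP 24 5 (OutTrivial.cpow LocalData.yCode i)
        (OutTrivial.cpow LocalData.bCode j) = a) ∧
    oneCode ∈ LocalData.r9 ∧ LocalData.yCode ∈ LocalData.r9 ∧ LocalData.bCode ∈ LocalData.r9 ∧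
    LocalData.yCode ≠ oneCode ∧ inBig LocalData.wThree = true ∧ getW 5 LocalData.wThree 23 ≠ 23 ∧
    mulP 24 5 LocalData.wThree LocalData.yCode = mulP 24 5 LocalData.yCode LocalData.wThree := by
  have h := rGroupOk_eq
  simp only [rGroupOk, goodCode, Bool.and_eq_true, List.all_eq_true, List.any_eq_true, List.mem_range,
    Nat.beq_eq, forceNat_eq, Bool.not_eq_true', Bool.eq_false_iff, ne_eq] at h
  obtain ⟨⟨⟨⟨⟨⟨⟨⟨h1, h2⟩, a, ha, rfl⟩, b, hb, rfl⟩, c, hc, rfl⟩, h6⟩, h7⟩, h8⟩, h9⟩ := h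
  refine ⟨h1, fun x hx => ?_, ha, hb, hc, h6, h7, h8, h9⟩
  obtain ⟨⟨⟨⟨⟨g1, g2⟩, g3⟩, g4⟩, g5⟩, g6⟩ := h2 x hx
  exact ⟨g1, g2, g3, g4, fun y hy => by obtain ⟨d, hd, e⟩ := g5 y hy; rwa [e], g6⟩

/-- The Sylow 3-subgroup. -/
noncomputable def rGrp : Subgroup AutM22 :=
  listGrp aut LocalData.r9 ⟨_, rBase.2.2.1, aut_one⟩ fun a ha b hb =>
    ⟨_, (rBase.2.1 a ha).2.2.2.2.1 b hb,
      (aut_mul (rBase.2.1 a ha).1 (rBase.2.1 b hb).1
        (rBase.2.1 _ ((rBase.2.1 a ha).2.2.2.2.1 b hb)).1 rfl).symm⟩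

theorem r9_inj : ∀ a ∈ LocalData.r9, ∀ b ∈ LocalData.r9, aut a = aut b → a = b := fun a ha b hb h =>
  aut_inj (rBase.2.1 a ha).1 (rBase.2.1 b hb).1 (rBase.2.1 a ha).2.1 (rBase.2.1 b hb).2.1 h

theorem mem_rGrp {x : AutM22} : x ∈ rGrp ↔ ∃ a ∈ LocalData.r9, aut a = x := Iff.rfl

theorem card_rGrp : Nat.card ↥rGrp = 9 := by
  rw [card_set rGrp r9_nodup r9_inj rfl, rBase.1]

theorem rGrp_cube {x : AutM22} (hx : x ∈ rGrp) : x ^ 3 = 1 := by
  obtain ⟨a, ha, rfl⟩ := hx
  obtain ⟨h1, -, -, h4, h5, -⟩ := rBase.2.1 a ha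
  have h2 := h5 a ha
  rw [pow_succ', sq, ← aut_one, aut_mul h1 h1 (rBase.2.1 _ h2).1 rfl,
    aut_mul h1 (rBase.2.1 _ h2).1 (rBase.2.1 _ rBase.2.2.1).1 h4]

theorem rGrp_le_inn : rGrp ≤ inn := by
  rintro _ ⟨a, ha, rfl⟩
  exact (aut_mem_inn (rBase.2.1 a ha).1).mpr (rBase.2.1 a ha).2.2.1

theorem yA_mem : yA ∈ rGrp := ⟨_, rBase.2.2.2.1, rfl⟩

theorem yA_ne : yA ≠ 1 := by
  rw [← aut_one]
  exact fun h => rBase.2.2.2.2.2.1 (r9_inj _ rBase.2.2.2.1 _ rBase.2.2.1 h)

theorem wThree_spec : aut LocalData.wThree ∉ inn ∧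
    aut LocalData.wThree * yA = yA * aut LocalData.wThree := by
  obtain ⟨-, h2, -, hy, -, -, hw, hw', hc⟩ := rBase
  exact ⟨fun h => hw' ((aut_mem_inn hw).mp h), aut_commute hw (h2 _ hy).1 hc⟩

theorem rConj_spec {x : AutM22} (hx : x ∈ rGrp) (hx1 : x ≠ 1) :
    ∃ g ∈ Subgroup.normalizer (rGrp : Set AutM22), g * yA * g⁻¹ = x := by
  obtain ⟨a, ha, rfl⟩ := hx
  obtain ⟨i, hi, hia⟩ := List.mem_iff_getElem.mp ha
  rw [rBase.1] at hi
  have h := rConjOk_eq
  simp only [rConjOk, Bool.and_eq_true, List.all_eq_true, List.mem_range, Bool.or_eq_true, Nat.beq_eq,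
    Nat.blt_eq, List.any_eq_true] at h
  have hget : LocalData.r9.getD i 0 = a := by
    rw [List.getD_eq_getElem _ _ (by rw [rBase.1]; exact hi)]; exact hia
  rcases h.2 i hi with h0 | ⟨p, hp, rfl⟩
  · rw [hget] at h0
    exact absurd (h0 ▸ aut_one) hx1
  · obtain ⟨⟨⟨⟨hg, hlen⟩, htg⟩, hrel⟩, hzip⟩ := h.1 p hp
    rw [hget] at hrel
    refine ⟨aut p.2.1, mem_normalizer_of_conj ?_,
      aut_conj hg (rBase.2.1 _ rBase.2.2.2.1).1 (rBase.2.1 a ha).1 hrel⟩
    rintro _ ⟨b, hb, rfl⟩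
    obtain ⟨k, hk, hkb⟩ := List.mem_iff_getElem.mp hb
    have hk' : k < p.2.2.length := by rw [hlen]; rw [rBase.1] at hk; exact hk
    have hmem : (b, p.2.2[k]) ∈ LocalData.r9.zip p.2.2 := List.mem_iff_getElem.mpr
      ⟨k, by rw [List.length_zip]; omega, by simp [hkb]⟩
    have ht := htg _ (List.getElem_mem hk')
    have htm : LocalData.r9.getD p.2.2[k] 0 ∈ LocalData.r9 := by
      rw [List.getD_eq_getElem _ _ (by rw [rBase.1]; exact ht)]
      exact List.getElem_mem _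
    exact ⟨_, htm, (aut_conj hg (rBase.2.1 b hb).1 (rBase.2.1 _ htm).1 (hzip _ hmem)).symm⟩

theorem exists_conj_rGrp {S : Subgroup AutM22} {k : ℕ} (hS : Nat.card ↥S = 3 ^ k) :
    ∃ g : AutM22, S.map (MulAut.conj g).toMonoidHom ≤ rGrp := by
  haveI : Fact (Nat.Prime 3) := ⟨Nat.prime_three⟩
  let P : Sylow 3 AutM22 := Sylow.ofCard rGrp (by
    rw [card_rGrp, AutModel.card_autM22]
    rw [show (887040 : ℕ) = 3 ^ 2 * 98560 by norm_num, Nat.factorization_mul (by norm_num)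
      (by norm_num), Finsupp.add_apply, Nat.Prime.factorization_pow Nat.prime_three,
      Finsupp.single_eq_same, Nat.factorization_eq_zero_of_not_dvd (by norm_num : ¬ 3 ∣ 98560)]
    norm_num)
  obtain ⟨Q, hQ⟩ := (IsPGroup.of_card hS).exists_le_sylow
  obtain ⟨g, hg⟩ := MulAction.exists_smul_eq AutM22 Q P
  refine ⟨g, ?_⟩
  rintro _ ⟨x, hx, rfl⟩
  have : (MulAut.conj g).toMonoidHom x ∈ ((g • Q : Sylow 3 AutM22) : Subgroup AutM22) := by
    rw [Sylow.coe_subgroup_smul]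
    exact ⟨x, hQ hx, rfl⟩
  rw [hg] at this
  exact this

/-- Every element of order three is conjugate to `yA` under an inner automorphism. -/
theorem conj_yA {a : AutM22} (ho : orderOf a = 3) : ∃ c ∈ inn, c * yA * c⁻¹ = a := by
  obtain ⟨g, hg⟩ := exists_conj_rGrp (S := Subgroup.zpowers a) (k := 1) (by rw [Nat.card_zpowers, ho]; rfl)
  have hmem : g * a * g⁻¹ ∈ rGrp := hg ⟨a, Subgroup.mem_zpowers a, rfl⟩
  have hne : g * a * g⁻¹ ≠ 1 := by
    intro h
    rw [conj_eq_one_iff] at h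
    rw [h, orderOf_one] at ho
    exact absurd ho (by norm_num)
  obtain ⟨n, -, hn⟩ := rConj_spec hmem hne
  obtain ⟨c, hc, hce⟩ := inner_of_outer (c := g⁻¹ * n) (t := yA) wThree_spec.1 wThree_spec.2
  refine ⟨c, hc, hce.trans ?_⟩
  rw [mul_inv_rev, inv_inv, show g⁻¹ * n * yA * (n⁻¹ * g) = g⁻¹ * (n * yA * n⁻¹) * g by group, hn]
  group

theorem centY_spec : LocalData.centY.length = 36 ∧
    ∀ c ∈ LocalData.centY, inBig c = true ∧ canon c = c ∧ getW 5 c 23 = 23 ∧
      mulP 24 5 c LocalData.yCode = mulP 24 5 LocalData.yCode c := by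
  have h := centYOk_eq
  simp only [centYOk, goodCode, Bool.and_eq_true, Nat.beq_eq, List.all_eq_true] at h
  exact ⟨h.1.1, fun c hc => ⟨(h.2 c hc).1.1.1, (h.2 c hc).1.1.2, (h.2 c hc).1.2, (h.2 c hc).2⟩⟩

theorem cent_inn_y_set : ((inn ⊓ Subgroup.centralizer ({yA} : Set AutM22) : Subgroup AutM22) : Set AutM22) =
    aut '' {c | c ∈ LocalData.centY} := by
  ext x
  constructor
  · rintro ⟨hxi, hxc⟩
    obtain ⟨g, rfl⟩ := toAut.surjective x
    have hn : (g : Equiv.Perm GolayPt) none = none := (toAut_mem_inn g).mp hxi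
    have hy : inBig LocalData.yCode = true := (rBase.2.1 _ rBase.2.2.2.1).1
    have hc := Subgroup.mem_centralizer_singleton_iff.mp hxc
    rw [yA, aut_eq hy, ← map_mul, ← map_mul] at hc
    have hc' : (g : Equiv.Perm GolayPt) * gperm LocalData.yCode = gperm LocalData.yCode * g :=
      congrArg Subtype.val (toAut.injective hc)
    have h := centYOk_eq
    simp only [centYOk, Bool.and_eq_true] at h
    obtain ⟨m1, m2, m3⟩ := mem_m22.mp ((mem_m22_iff g.2).mpr hn)
    have hholds : OutTrivial.M22Cert.data.spec.Holds (g : Equiv.Perm GolayPt) := by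
      refine ⟨m1, fun i hi => ?_, fun m hm => ?_⟩
      · simp only [OutTrivial.M22Cert.data, List.mem_cons, List.not_mem_nil, or_false] at hi
        rcases hi with rfl | rfl
        · rw [show pt 23 = none from rfl, m2]; rfl
        · rw [show pt 0 = some 0 from rfl, m3]; rfl
      · simp [OutTrivial.M22Cert.data] at hm
    obtain ⟨u, hu, hue⟩ := OutTrivial.searchOk_spec h.1.2 hholds hc'
    exact ⟨u, hu, by rw [aut_eq (centY_spec.2 u hu).1]; exact congrArg toAut (Subtype.ext hue.symm)⟩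
  · rintro ⟨c, hc, rfl⟩
    obtain ⟨h1, -, h3, h4⟩ := centY_spec.2 c hc
    exact ⟨(aut_mem_inn h1).mpr h3,
      Subgroup.mem_centralizer_singleton_iff.mpr (aut_commute h1 (rBase.2.1 _ rBase.2.2.2.1).1 h4)⟩

theorem cent_inn_y : Nat.card ↥(inn ⊓ Subgroup.centralizer ({yA} : Set AutM22)) = 36 := by
  rw [card_set _ (List.Nodup.of_append_left cent72_nodup) (fun a ha b hb =>
    aut_inj (centY_spec.2 a ha).1 (centY_spec.2 b hb).1 (centY_spec.2 a ha).2.1 (centY_spec.2 b hb).2.1)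
    cent_inn_y_set, centY_spec.1]

theorem cent_y : Nat.card ↥(Subgroup.centralizer ({yA} : Set AutM22)) = 72 := by
  rw [card_double (Subgroup.mem_centralizer_singleton_iff.mpr wThree_spec.2) wThree_spec.1, inf_comm,
    cent_inn_y]

theorem cent72_spec : (∀ c ∈ cent72, inBig c = true ∧ canon c = c) ∧ (cent72.filter normR).length = 18 := by
  have h := cent72Ok_eq
  simp only [cent72Ok, goodCode, Bool.and_eq_true, List.all_eq_true, Nat.beq_eq] at h
  exact h

theorem cent_y_set : (Subgroup.centralizer ({yA} : Set AutM22) : Set AutM22) = aut '' {c | c ∈ cent72} := by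
  symm
  have hmem : ∀ c ∈ cent72, aut c ∈ Subgroup.centralizer ({yA} : Set AutM22) := by
    intro c hc
    rcases List.mem_append.mp hc with hc' | hc'
    · exact ((Set.ext_iff.mp cent_inn_y_set (aut c)).mpr ⟨c, hc', rfl⟩).2
    · obtain ⟨d, hd, rfl⟩ := List.mem_map.mp hc'
      rw [← aut_mul rBase.2.2.2.2.2.2.1 (centY_spec.2 d hd).1 (cent72_spec.1 _ hc).1 rfl]
      exact mul_mem (Subgroup.mem_centralizer_singleton_iff.mpr wThree_spec.2)
        ((Set.ext_iff.mp cent_inn_y_set (aut d)).mpr ⟨d, hd, rfl⟩).2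
  refine Set.eq_of_subset_of_ncard_le ?_ ?_
  · rintro _ ⟨c, hc, rfl⟩
    exact hmem c hc
  · rw [← Nat.card_coe_set_eq]
    show Nat.card ↥(Subgroup.centralizer ({yA} : Set AutM22)) ≤ _
    rw [cent_y, Set.InjOn.ncard_image (show Set.InjOn aut {c | c ∈ cent72} from fun a ha b hb =>
      aut_inj (cent72_spec.1 a ha).1 (cent72_spec.1 b hb).1 (cent72_spec.1 a ha).2 (cent72_spec.1 b hb).2),
      show {c | c ∈ cent72} = (↑cent72.toFinset : Set ℕ) by ext; simp, Set.ncard_coe_finset,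
      List.toFinset_card_of_nodup cent72_nodup, cent72, List.length_append, List.length_map,
      centY_spec.1]

theorem normR_iff {c : ℕ} (hc : c ∈ cent72) :
    normR c = true ↔ aut c ∈ Subgroup.normalizer (rGrp : Set AutM22) := by
  obtain ⟨hg, -⟩ := cent72_spec.1 c hc
  obtain ⟨-, hr, -, hy, hb, -⟩ := rBase
  simp only [normR, forceNat_eq, List.any_eq_true, Nat.beq_eq]
  constructor
  · rintro ⟨r, hrm, he⟩
    have hcy : aut c * yA * (aut c)⁻¹ = yA := by
      have := (Set.ext_iff.mp cent_y_set (aut c)).mpr ⟨c, hc, rfl⟩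
      rw [Subgroup.mem_centralizer_singleton_iff.mp this, mul_inv_cancel_right]
    have hcb : aut c * aut LocalData.bCode * (aut c)⁻¹ = aut r := aut_conj hg (hr _ hb).1 (hr r hrm).1 he
    refine mem_normalizer_of_conj ?_
    rintro _ ⟨a, ha, rfl⟩
    obtain ⟨-, -, -, -, -, i, hi, j, hj, hij⟩ := hr a ha
    have hpow : ∀ (u : ℕ), u ∈ LocalData.r9 → ∀ n, OutTrivial.cpow u n ∈ LocalData.r9 ∧
        aut (OutTrivial.cpow u n) = aut u ^ n := by
      intro u hu n
      induction n with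
      | zero => exact ⟨rBase.2.2.1, by rw [pow_zero]; exact aut_one⟩
      | succ n ih =>
        have hmem : OutTrivial.cpow u (n + 1) ∈ LocalData.r9 := (hr u hu).2.2.2.2.1 _ ih.1
        refine ⟨hmem, ?_⟩
        rw [pow_succ', ← ih.2]
        exact (aut_mul (hr u hu).1 (hr _ ih.1).1 (hr _ hmem).1 rfl).symm
    rw [← hij, ← aut_mul (hr _ (hpow _ hy i).1).1 (hr _ (hpow _ hb j).1).1
      (hr _ ((hr _ (hpow _ hy i).1).2.2.2.2.1 _ (hpow _ hb j).1)).1 rfl, (hpow _ hy i).2, (hpow _ hb j).2]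
    rw [show aut c * (aut LocalData.yCode ^ i * aut LocalData.bCode ^ j) * (aut c)⁻¹ =
      (aut c * aut LocalData.yCode * (aut c)⁻¹) ^ i * (aut c * aut LocalData.bCode * (aut c)⁻¹) ^ j by
        rw [conj_pow, conj_pow]; group, hcb]
    rw [show aut c * aut LocalData.yCode * (aut c)⁻¹ = yA from hcy]
    exact mul_mem (pow_mem yA_mem i) (pow_mem (show aut r ∈ rGrp from ⟨r, hrm, rfl⟩) j)
  · intro h
    obtain ⟨r, hrm, hre⟩ := mem_rGrp.mp
      ((Subgroup.mem_normalizer_iff.mp h (aut LocalData.bCode)).mp ⟨_, hb, rfl⟩)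
    refine ⟨r, hrm, ?_⟩
    rw [eq_comm, mul_inv_eq_iff_eq_mul, aut_eq hg, aut_eq (hr _ hb).1, aut_eq (hr r hrm).1, ← map_mul,
      ← map_mul, toAut.injective.eq_iff, Subtype.ext_iff] at hre
    refine eq_of_gperm (okCode_mulP (inBig_spec hg).1 (inBig_spec (hr _ hb).1).1)
      (okCode_mulP (inBig_spec (hr r hrm).1).1 (inBig_spec hg).1) canon_mulP canon_mulP ?_
    rw [gperm_mul (inBig_spec hg).1 (inBig_spec (hr _ hb).1).1,
      gperm_mul (inBig_spec (hr r hrm).1).1 (inBig_spec hg).1]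
    exact hre

theorem normalizer_rGrp : Nat.card ↥(Subgroup.normalizer (rGrp : Set AutM22)) = 144 := by
  set N := Subgroup.normalizer (rGrp : Set AutM22) with hN
  have horb : ((fun n => n * yA * n⁻¹) '' (N : Set AutM22)).ncard = 8 := by
    have hset : (fun n => n * yA * n⁻¹) '' (N : Set AutM22) = (rGrp : Set AutM22) \ {1} := by
      ext x
      constructor
      · rintro ⟨n, hn, rfl⟩
        refine ⟨(Subgroup.mem_normalizer_iff.mp hn yA).mp yA_mem, ?_⟩
        simp only [Set.mem_singleton_iff, conj_eq_one_iff]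
        exact yA_ne
      · rintro ⟨hx, hx1⟩
        exact rConj_spec hx hx1
    rw [hset, Set.ncard_sdiff_singleton_of_mem (one_mem _), ← Nat.card_coe_set_eq]
    show Nat.card ↥rGrp - 1 = 8
    rw [card_rGrp]
  have hstab : Nat.card ↥(N ⊓ Subgroup.centralizer ({yA} : Set AutM22)) = 18 := by
    rw [card_set _ (cent72_nodup.filter normR) (fun a ha b hb =>
      aut_inj (cent72_spec.1 a (List.mem_filter.mp ha).1).1 (cent72_spec.1 b (List.mem_filter.mp hb).1).1
        (cent72_spec.1 a (List.mem_filter.mp ha).1).2 (cent72_spec.1 b (List.mem_filter.mp hb).1).2) ?_,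
      cent72_spec.2]
    ext x
    simp only [SetLike.mem_coe, Subgroup.mem_inf, Set.mem_image, Set.mem_ofPred_eq, List.mem_filter]
    constructor
    · rintro ⟨hn, hc⟩
      obtain ⟨c, hc', rfl⟩ := (Set.ext_iff.mp cent_y_set x).mp hc
      exact ⟨c, ⟨hc', (normR_iff hc').mpr hn⟩, rfl⟩
    · rintro ⟨c, ⟨hc, hn⟩, rfl⟩
      exact ⟨(normR_iff hc).mp hn, (Set.ext_iff.mp cent_y_set (aut c)).mpr ⟨c, hc, rfl⟩⟩
  rw [card_orbit N yA, horb, hstab]

theorem s8Spec : LocalData.s8.length = 8 ∧ oneCode ∈ LocalData.s8 ∧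
    (∀ a ∈ LocalData.s8, inBig a = true ∧ canon a = a ∧
      mulP 24 5 a LocalData.yCode = mulP 24 5 LocalData.yCode a ∧
      (∀ b ∈ LocalData.s8, mulP 24 5 a b ∈ LocalData.s8) ∧
      ((∃ b ∈ LocalData.s8, mulP 24 5 a b ≠ mulP 24 5 b a) ∨ ∃ p ∈ LocalData.comms, p.1 = a)) ∧
    ∀ p ∈ LocalData.comms, p.2.1 ∈ LocalData.s8 ∧ p.2.2 ∈ LocalData.s8 ∧ inBig p.1 = true ∧
      mulP 24 5 p.1 (mulP 24 5 p.2.2 p.2.1) = mulP 24 5 p.2.1 p.2.2 := by
  have h := s8Ok_eq
  simp only [s8Ok, goodCode, Bool.and_eq_true, List.all_eq_true, List.any_eq_true, Bool.or_eq_true,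
    Nat.beq_eq, forceNat_eq, Bool.not_eq_true', Bool.eq_false_iff, ne_eq] at h
  obtain ⟨⟨⟨h1, a, ha, rfl⟩, h3⟩, h4⟩ := h
  refine ⟨h1, ha, fun x hx => ?_, fun p hp => ?_⟩
  · obtain ⟨⟨⟨⟨g1, g2⟩, g3⟩, g4⟩, g5⟩ := h3 x hx
    exact ⟨g1, g2, g3, fun y hy => by obtain ⟨d, hd, e⟩ := g4 y hy; rwa [e], g5⟩
  · obtain ⟨⟨⟨⟨d, hd, rfl⟩, e, he, rfl⟩, g1, -⟩, g2⟩ := h4 p hp
    exact ⟨hd, he, g1, g2⟩

/-- A Sylow 2-subgroup of the centraliser of `yA`. -/
noncomputable def sGrp : Subgroup AutM22 :=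
  listGrp aut LocalData.s8 ⟨_, s8Spec.2.1, aut_one⟩ fun a ha b hb =>
    ⟨_, (s8Spec.2.2.1 a ha).2.2.2.1 b hb,
      (aut_mul (s8Spec.2.2.1 a ha).1 (s8Spec.2.2.1 b hb).1
        (s8Spec.2.2.1 _ ((s8Spec.2.2.1 a ha).2.2.2.1 b hb)).1 rfl).symm⟩

theorem card_sGrp : Nat.card ↥sGrp = 8 := by
  rw [card_set sGrp s8_nodup (fun a ha b hb => aut_inj (s8Spec.2.2.1 a ha).1 (s8Spec.2.2.1 b hb).1
    (s8Spec.2.2.1 a ha).2.1 (s8Spec.2.2.1 b hb).2.1) rfl, s8Spec.1]

theorem sGrp_le : sGrp ≤ Subgroup.centralizer ({yA} : Set AutM22) := by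
  rintro _ ⟨a, ha, rfl⟩
  exact Subgroup.mem_centralizer_singleton_iff.mpr
    (aut_commute (s8Spec.2.2.1 a ha).1 (rBase.2.1 _ rBase.2.2.2.1).1 (s8Spec.2.2.1 a ha).2.2.1)

theorem sGrp_centre : centreIn sGrp ≤ ⁅sGrp, sGrp⁆ := by
  intro x hx
  obtain ⟨hx, hc⟩ := mem_centreIn.mp hx
  obtain ⟨a, ha, rfl⟩ := hx
  obtain ⟨hga, -, -, -, hcase⟩ := s8Spec.2.2.1 a ha
  rcases hcase with ⟨b, hb, hne⟩ | ⟨p, hp, rfl⟩
  · exfalso
    apply hne
    have hgb := (s8Spec.2.2.1 b hb).1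
    have h := hc (aut b) ⟨b, hb, rfl⟩
    rw [aut_eq hga, aut_eq hgb, ← map_mul, ← map_mul, toAut.injective.eq_iff, Subtype.ext_iff] at h
    refine eq_of_gperm (okCode_mulP (inBig_spec hga).1 (inBig_spec hgb).1)
      (okCode_mulP (inBig_spec hgb).1 (inBig_spec hga).1) canon_mulP canon_mulP ?_
    rw [gperm_mul (inBig_spec hga).1 (inBig_spec hgb).1, gperm_mul (inBig_spec hgb).1 (inBig_spec hga).1]
    exact h.symm
  · obtain ⟨hb, hc', hgp, hrel⟩ := s8Spec.2.2.2 p hp
    have g1 := s8Spec.2.2.1 _ hb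
    have g2 := s8Spec.2.2.1 _ hc'
    have m21 := g2.2.2.2.1 _ hb
    have m12 := g1.2.2.2.1 _ hc'
    have e : aut p.1 * (aut p.2.2 * aut p.2.1) = aut p.2.1 * aut p.2.2 := by
      rw [aut_mul g2.1 g1.1 (s8Spec.2.2.1 _ m21).1 rfl, aut_mul g1.1 g2.1 (s8Spec.2.2.1 _ m12).1 rfl]
      exact aut_mul hgp (s8Spec.2.2.1 _ m21).1 (s8Spec.2.2.1 _ m12).1 hrel
    rw [show aut p.1 = ⁅aut p.2.1, aut p.2.2⁆ by
      rw [commutatorElement_def, ← e]; group]
    exact Subgroup.commutator_mem_commutator ⟨_, hb, rfl⟩ ⟨_, hc', rfl⟩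

end Cfsg.Agent.Lib.J4Local.AutLocal
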