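import Cfsg.Agent.Lib.J4Local.AutLocal

/-!
# The finite facts about Aut M22
-/

set_option autoImplicit false
set_option linter.style.haveILetI false

namespace Cfsg.Agent.Lib.J4Local

open Cfsg
open Cfsg.Agent.Lib.J4Local.AutLocal
open Cfsg.Agent.Lib.J4Local.AutTwo
open scoped commutatorElement

namespace AutAssembly

theorem conj_inj : Function.Injective (MulAut.conj : ↥Spor.M22 →* AutM22) := by
  rw [← MonoidHom.ker_eq_bot_iff, eq_bot_iff, ← AutModel.center_eq_bot]
  intro x hx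
  rw [MonoidHom.mem_ker] at hx
  refine Subgroup.mem_center_iff.mpr fun k => ?_
  have := DFunLike.congr_fun hx k
  simp only [MulAut.conj_apply, MulAut.one_apply] at this
  exact (mul_inv_eq_iff_eq_mul.mp this).symm

theorem card_inn : Nat.card ↥inn = 443520 := by
  rw [← Golay.card_spor_M22]
  exact (Nat.card_congr (MonoidHom.ofInjective conj_inj).toEquiv).symm

theorem simple : IsSimpleGroup ↥inn :=
  haveI := AutModel.isSimple
  (MonoidHom.ofInjective conj_inj).symm.isSimpleGroup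

theorem odd_mem_inn {x : AutM22} {n : ℕ} (hn : Odd n) (hx : orderOf x = n) : x ∈ inn := by
  obtain ⟨m, rfl⟩ := hn
  have hsq : x * x ∈ inn := (Subgroup.mul_mem_iff_of_index_two inn_index).mpr Iff.rfl
  have h : x = (x * x) ^ (m + 1) := by
    rw [← sq, ← pow_mul, show 2 * (m + 1) = 2 * m + 1 + 1 by ring, pow_succ, ← hx,
      pow_orderOf_eq_one, one_mul]
  rw [h]
  exact pow_mem hsq _

theorem index_two (S : Subgroup AutM22) (hS : S.index = 2) : S = inn := by
  haveI := simple
  have hn : S.Normal := Subgroup.normal_of_index_eq_two hS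
  have hcard : Nat.card ↥S * 2 = 887040 := by
    rw [← hS, S.card_mul_index, AutModel.card_autM22]
  rcases Subgroup.Normal.eq_bot_or_eq_top (hn.subgroupOf inn) with h | h
  · exfalso
    have hdisj : ∀ x ∈ inn, x ∈ S → x = 1 := by
      intro x hx hxS
      have : (⟨x, hx⟩ : ↥inn) ∈ S.subgroupOf inn := hxS
      rw [h, Subgroup.mem_bot] at this
      exact congrArg Subtype.val this
    have hbot : S ⊓ inn = ⊥ :=
      (Subgroup.eq_bot_iff_forall _).mpr fun x hx => hdisj x hx.2 hx.1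
    by_cases hle : S ≤ inn
    · rw [inf_eq_left.mpr hle] at hbot
      rw [hbot, Subgroup.card_bot] at hcard
      omega
    · obtain ⟨w, hw, hwn⟩ := SetLike.not_le_iff_exists.mp hle
      rw [card_double hw hwn, hbot, Subgroup.card_bot] at hcard
      omega
  · have hle : inn ≤ S := Subgroup.subgroupOf_eq_top.mp h
    exact (Subgroup.eq_of_le_of_card_ge hle (by rw [card_inn]; omega)).symm

theorem conj_involution : ∀ a ∈ inn, ∀ b ∈ inn, orderOf a = 2 → orderOf b = 2 →
    ∃ c ∈ inn, c * a * c⁻¹ = b := by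
  intro a ha b hb hoa hob
  obtain ⟨c, hc, rfl⟩ := conj_zA ha hoa
  obtain ⟨d, hd, rfl⟩ := conj_zA hb hob
  exact ⟨d * c⁻¹, mul_mem hd (inv_mem hc), by group⟩

theorem square : ∀ a ∈ inn, orderOf a = 2 → ∃ s ∈ inn, s * s = a := by
  intro a ha ho
  obtain ⟨c, hc, rfl⟩ := conj_zA ha ho
  obtain ⟨s, hs, hss⟩ := root_spec
  refine ⟨c * s * c⁻¹, mul_mem (mul_mem hc hs) (inv_mem hc), ?_⟩
  rw [← hss]
  group

theorem card_inf_centralizer_conj {H : Subgroup AutM22} (hn : H.Normal) (c t : AutM22) :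
    Nat.card ↥(H ⊓ Subgroup.centralizer ({c * t * c⁻¹} : Set AutM22)) =
      Nat.card ↥(H ⊓ Subgroup.centralizer ({t} : Set AutM22)) := by
  have hmap : (H ⊓ Subgroup.centralizer ({t} : Set AutM22)).map (MulAut.conj c).toMonoidHom =
      H ⊓ Subgroup.centralizer ({c * t * c⁻¹} : Set AutM22) := by
    ext x
    simp only [Subgroup.mem_map, Subgroup.mem_inf, Subgroup.mem_centralizer_singleton_iff]
    constructor
    · rintro ⟨y, ⟨hy, hyt⟩, rfl⟩
      refine ⟨hn.conj_mem y hy c, ?_⟩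
      show MulAut.conj c y * MulAut.conj c t = MulAut.conj c t * MulAut.conj c y
      rw [← map_mul, hyt, map_mul]
    · rintro ⟨hx, hxt⟩
      refine ⟨c⁻¹ * x * c⁻¹⁻¹, ⟨hn.conj_mem x hx c⁻¹, ?_⟩, by simp [mul_assoc]⟩
      rw [inv_inv]
      calc c⁻¹ * x * c * t = c⁻¹ * (x * (c * t * c⁻¹)) * c := by group
        _ = t * (c⁻¹ * x * c) := by rw [hxt]; group
  rw [← hmap, card_conj]

theorem cent_involution : ∀ a ∈ inn, orderOf a = 2 →
    Nat.card ↥(inn ⊓ Subgroup.centralizer ({a} : Set AutM22)) = 384 := by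
  intro a ha ho
  obtain ⟨c, -, rfl⟩ := conj_zA ha ho
  rw [card_inf_centralizer_conj inn_normal, cent_inn_z]

theorem five_not_commute : ∀ x : AutM22, orderOf x = 5 → ∀ a ∈ inn, orderOf a = 2 → ¬ Commute x a := by
  intro x hx a ha ho hc
  have hmem : x ∈ inn ⊓ Subgroup.centralizer ({a} : Set AutM22) :=
    ⟨odd_mem_inn ⟨2, rfl⟩ hx, Subgroup.mem_centralizer_singleton_iff.mpr hc⟩
  have h := Subgroup.orderOf_dvd_natCard _ hmem
  rw [hx, cent_involution a ha ho] at h
  norm_num at h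

theorem exp2_inn : ∀ S : Subgroup AutM22, IsExp2 S → Nat.card ↥S = 32 →
    Nat.card ↥(S ⊓ inn) = 16 := by
  intro S h hc
  obtain ⟨g, hg⟩ := exists_conj_eGrp h hc
  rw [← card_eGrp_inn, ← hg, ← card_conj g (S ⊓ inn)]
  congr 2
  ext x
  simp only [Subgroup.mem_map, Subgroup.mem_inf]
  constructor
  · rintro ⟨y, ⟨hy, hyi⟩, rfl⟩
    exact ⟨⟨y, hy, rfl⟩, inn_normal.conj_mem y hyi g⟩
  · rintro ⟨⟨y, hy, rfl⟩, hx⟩
    refine ⟨y, ⟨hy, ?_⟩, rfl⟩
    have h2 := inn_normal.conj_mem _ hx g⁻¹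
    simpa [mul_assoc] using h2

theorem card_normalizer_conj (g : AutM22) (S : Subgroup AutM22) :
    Nat.card ↥(Subgroup.normalizer ((S.map (MulAut.conj g).toMonoidHom : Subgroup AutM22) : Set AutM22)) =
      Nat.card ↥(Subgroup.normalizer (S : Set AutM22)) := by
  rw [← card_conj g (Subgroup.normalizer (S : Set AutM22)),
    Subgroup.map_equiv_normalizer_eq S (MulAut.conj g)]

theorem exp2_normalizer : ∀ S : Subgroup AutM22, IsExp2 S → Nat.card ↥S = 32 →
    Nat.card ↥(Subgroup.normalizer (S : Set AutM22)) ∣ 3840 := by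
  intro S h hc
  obtain ⟨g, hg⟩ := exists_conj_eGrp h hc
  rw [← card_normalizer_conj g S, hg, normalizer_eGrp]

theorem conj_three : ∀ a ∈ inn, ∀ b ∈ inn, orderOf a = 3 → orderOf b = 3 →
    ∃ c ∈ inn, c * a * c⁻¹ = b := by
  intro a _ b _ hoa hob
  obtain ⟨c, hc, rfl⟩ := conj_yA hoa
  obtain ⟨d, hd, rfl⟩ := conj_yA hob
  exact ⟨d * c⁻¹, mul_mem hd (inv_mem hc), by group⟩

theorem cent_three : ∀ y : AutM22, orderOf y = 3 →
    Nat.card ↥(Subgroup.centralizer ({y} : Set AutM22)) = 72 ∧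
    Nat.card ↥(inn ⊓ Subgroup.centralizer ({y} : Set AutM22)) = 36 := by
  intro y hy
  obtain ⟨c, -, rfl⟩ := conj_yA hy
  refine ⟨?_, by rw [card_inf_centralizer_conj inn_normal, cent_inn_y]⟩
  have h := card_inf_centralizer_conj (H := ⊤) inferInstance c yA
  simp only [top_inf_eq] at h
  rw [h, cent_y]

theorem cent_three_two : ∀ y : AutM22, orderOf y = 3 →
    ∀ S : Subgroup AutM22, S ≤ Subgroup.centralizer ({y} : Set AutM22) → Nat.card ↥S = 8 →
      centreIn S ≤ ⁅S, S⁆ := by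
  intro y hy S hS h8
  haveI : Fact (Nat.Prime 2) := ⟨Nat.prime_two⟩
  obtain ⟨c, -, rfl⟩ := conj_yA hy
  set C := Subgroup.centralizer ({yA} : Set AutM22) with hC
  set S' := S.map (MulAut.conj c⁻¹).toMonoidHom with hS'
  have hS'C : S' ≤ C := by
    rintro _ ⟨s, hs, rfl⟩
    have h := Subgroup.mem_centralizer_singleton_iff.mp (hS hs)
    rw [hC, Subgroup.mem_centralizer_singleton_iff]
    show c⁻¹ * s * c⁻¹⁻¹ * yA = yA * (c⁻¹ * s * c⁻¹⁻¹)
    rw [inv_inv]
    calc c⁻¹ * s * c * yA = c⁻¹ * (s * (c * yA * c⁻¹)) * c := by group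
      _ = yA * (c⁻¹ * s * c) := by rw [h]; group
  have hf : (Nat.card ↥C).factorization 2 = 3 := by
    rw [show Nat.card ↥C = 72 from cent_y, show (72 : ℕ) = 2 ^ 3 * 9 by norm_num,
      Nat.factorization_mul (by norm_num) (by norm_num), Finsupp.add_apply,
      Nat.Prime.factorization_pow Nat.prime_two, Finsupp.single_eq_same,
      Nat.factorization_eq_zero_of_not_dvd (by norm_num : ¬ 2 ∣ 9)]
  have hcard : ∀ T : Subgroup AutM22, T ≤ C → Nat.card ↥T = 8 →
      Nat.card ↥(T.subgroupOf C) = 2 ^ (Nat.card ↥C).factorization 2 := by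
    intro T hT hT8
    rw [hf, Nat.card_congr (Subgroup.subgroupOfEquivOfLe hT).toEquiv, hT8]
    norm_num
  let P : Sylow 2 ↥C := Sylow.ofCard _ (hcard S' hS'C (by rw [hS', card_conj, h8]))
  let Q : Sylow 2 ↥C := Sylow.ofCard _ (hcard sGrp sGrp_le card_sGrp)
  obtain ⟨d, hd⟩ := MulAction.exists_smul_eq ↥C Q P
  have hmap : sGrp.map (MulAut.conj (c * d)).toMonoidHom = S := by
    refine Subgroup.eq_of_le_of_card_ge ?_ (by rw [card_conj, card_sGrp, h8])
    rintro _ ⟨q, hq, rfl⟩
    have h1 : d * ⟨q, sGrp_le hq⟩ * d⁻¹ ∈ (P : Subgroup ↥C) := by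
      rw [← hd, Sylow.coe_subgroup_smul]
      exact ⟨⟨q, sGrp_le hq⟩, (show (⟨q, sGrp_le hq⟩ : ↥C) ∈ sGrp.subgroupOf C from hq), rfl⟩
    have h2 : ((d : AutM22) * q * (d : AutM22)⁻¹) ∈ S' := h1
    obtain ⟨s, hs, hse⟩ := h2
    have : MulAut.conj (c * (d : AutM22)) q = s := by
      have e : c⁻¹ * s * c⁻¹⁻¹ = (d : AutM22) * q * (d : AutM22)⁻¹ := hse
      show c * d * q * (c * (d : AutM22))⁻¹ = s
      rw [mul_inv_rev, show c * (d : AutM22) * q * ((d : AutM22)⁻¹ * c⁻¹) =
        c * ((d : AutM22) * q * (d : AutM22)⁻¹) * c⁻¹ by group, ← e]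
      group
    show MulAut.conj (c * (d : AutM22)) q ∈ S
    rw [this]
    exact hs
  rw [← hmap, centreIn_conj, ← Subgroup.map_commutator]
  exact Subgroup.map_mono sGrp_centre

theorem sylow_three : ∀ R : Subgroup AutM22, Nat.card ↥R = 9 →
    (∀ a ∈ R, a ^ 3 = 1) ∧ Nat.card ↥(Subgroup.normalizer (R : Set AutM22)) = 144 ∧
    ∀ X : Subgroup AutM22, X ≤ R → Nat.card ↥X = 3 →
      ¬ Subgroup.normalizer (R : Set AutM22) ≤ Subgroup.normalizer (X : Set AutM22) := by
  intro R hR
  obtain ⟨g, hg⟩ := exists_conj_rGrp (S := R) (k := 2) (by rw [hR]; norm_num)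
  have heq : R.map (MulAut.conj g).toMonoidHom = rGrp :=
    Subgroup.eq_of_le_of_card_ge hg (by rw [card_conj, card_rGrp, hR])
  refine ⟨fun a ha => ?_, ?_, ?_⟩
  · have h := rGrp_cube (x := MulAut.conj g a) (heq ▸ ⟨a, ha, rfl⟩)
    rw [← map_pow] at h
    exact (MulAut.conj g).injective (h.trans (map_one _).symm)
  · rw [← card_normalizer_conj g R, heq, normalizer_rGrp]
  · intro X hXR hX hle
    set Y := X.map (MulAut.conj g).toMonoidHom with hY
    have hYR : Y ≤ rGrp := heq ▸ Subgroup.map_mono hXR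
    have hleY : Subgroup.normalizer (rGrp : Set AutM22) ≤ Subgroup.normalizer (Y : Set AutM22) := by
      rw [← heq, hY, ← Subgroup.map_equiv_normalizer_eq R (MulAut.conj g),
        ← Subgroup.map_equiv_normalizer_eq X (MulAut.conj g)]
      exact Subgroup.map_mono hle
    obtain ⟨y, hy, hy1⟩ : ∃ y ∈ Y, y ≠ 1 := by
      by_contra hcon
      push Not at hcon
      have : Y = ⊥ := (Subgroup.eq_bot_iff_forall Y).mpr hcon
      have hc : Nat.card ↥Y = 3 := by rw [hY, card_conj, hX]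
      rw [this, Subgroup.card_bot] at hc
      omega
    obtain ⟨n, hn, hne⟩ := rConj_spec (hYR hy) hy1
    have hall : rGrp ≤ Y := by
      intro x hx
      by_cases hx1 : x = 1
      · rw [hx1]; exact one_mem _
      obtain ⟨m, hm, hme⟩ := rConj_spec hx hx1
      have hmn : m * n⁻¹ ∈ Subgroup.normalizer (Y : Set AutM22) := hleY (mul_mem hm (inv_mem hn))
      have := (Subgroup.mem_normalizer_iff.mp hmn y).mp hy
      rw [← hne] at this
      rwa [show m * n⁻¹ * (n * yA * n⁻¹) * (m * n⁻¹)⁻¹ = m * yA * m⁻¹ by group, hme] at this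
    have := Subgroup.card_le_of_le hall
    rw [card_rGrp, hY, card_conj, hX] at this
    omega

end AutAssembly

/-- The finite facts hold. -/
theorem autFacts : AutFacts where
  card_aut := AutModel.card_autM22
  card_inn := AutAssembly.card_inn
  index_two := AutAssembly.index_two
  simple := AutAssembly.simple
  conj_involution := AutAssembly.conj_involution
  square := AutAssembly.square
  cent_involution := AutAssembly.cent_involution
  exp2_card := AutTwo.exp2_card
  exp2_inn := AutAssembly.exp2_inn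
  exp2_normalizer := AutAssembly.exp2_normalizer
  centre_256 := AutTwo.centre_256
  centre_128 := AutTwo.centre_128
  centre_small := AutTwo.centre_small
  five_not_commute := AutAssembly.five_not_commute
  conj_three := AutAssembly.conj_three
  cent_three := AutAssembly.cent_three
  cent_three_two := AutAssembly.cent_three_two
  sylow_three := AutAssembly.sylow_three

end Cfsg.Agent.Lib.J4Local
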