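import Cfsg.Agent.Lib.J4Local.Fusion
import Cfsg.Agent.Lib.ZStar.Consequences

/-!
# The outer case and the existence of a conjugate of `z` in `O₂(C(z)) - ⟨z⟩`
-/

set_option autoImplicit false
set_option linter.unusedSectionVars false
set_option linter.unusedVariables false

namespace Cfsg.Agent.Lib.J4Local

open Cfsg.Agent.Lib.LargeExtraspecial.Basic

variable {G : Type*} [Group G]

namespace Setting

variable [Finite G] {z p u q : G}

/-- `p⁻¹ b p ≡ b (p b p⁻¹)` modulo `z`. -/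
theorem inv_conj_modZ (S : Setting z p) {b : G} (hb : b ∈ Q z) :
    ModZ z (p⁻¹ * b * p) (b * (p * b * p⁻¹)) := by
  have hb' : p * b * p⁻¹ ∈ Q z := S.conj_mem S.p_mem_cz hb
  have hb'' : p⁻¹ * b * p ∈ Q z := S.conj_mem' S.p_mem_cz hb
  set a := p * b * p⁻¹ with ha
  set c := p⁻¹ * b * p with hc
  have hpb : p * (b * a) * p⁻¹ = a * c := by
    have : p * a * p⁻¹ = c := by
      calc p * a * p⁻¹ = p⁻¹ * (p ^ 3 * b * (p ^ 3)⁻¹) * p := by rw [ha, pow_succ, pow_two]; group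
        _ = c := by rw [S.p_cube, hc]; group
    calc p * (b * a) * p⁻¹ = p * b * p⁻¹ * (p * a * p⁻¹) := by group
      _ = _ := by rw [this]
  have hpc : p * c * p⁻¹ = b := by rw [hc]; group
  -- `w = b a c` is fixed modulo `z`
  have hw : p * (b * a * c) * p⁻¹ = a * c * b := by
    calc p * (b * a * c) * p⁻¹ = p * (b * a) * p⁻¹ * (p * c * p⁻¹) := by group
      _ = _ := by rw [hpb, hpc]
  have hwQ : b * a * c ∈ Q z := mul_mem (mul_mem hb hb') hb''
  have hfix := S.fix_mod hwQ (by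
    rw [hw]
    rcases S.conj_eq_of_mem (inv_mem hb) hwQ with h | h
    · left; rw [← h]; group
    · right; rw [← h]; group)
  have hba : b * a ∈ Q z := mul_mem hb hb'
  rcases hfix with h | h
  · have hc' : c = (b * a)⁻¹ := eq_inv_of_mul_eq_one_right h
    rcases S.es.sq_cases hba with hs | hs
    · left; rw [hc', inv_eq_of_mul_eq_one_right hs]
    · right; rw [hc']; exact inv_eq_of_mul_eq_one_right (by rw [← mul_assoc, hs, S.z_sq])
  · have hc' : c = (b * a)⁻¹ * z := eq_inv_mul_of_mul_eq h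
    rcases S.es.sq_cases hba with hs | hs
    · right; rw [hc', inv_eq_of_mul_eq_one_right hs]
    · left; rw [hc', inv_eq_of_mul_eq_one_right (b := b * a * z) (by rw [← mul_assoc, hs, S.z_sq]),
        mul_assoc (b * a), S.z_sq, mul_one]

theorem chi_modZ (S : Setting z p) {a b b' : G} (ha : a ∈ Q z) (hb : b ∈ Q z)
    (h : ModZ z b' b) : chi a b' = chi a b := by
  rcases h with rfl | rfl
  · rfl
  · rw [S.es.chi_mul_right ha hb S.es.mem, S.es.chi_center_right ha, add_zero]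

/-- The form `(a, b) ↦ chi a (p b p⁻¹)` is symmetric on an abelian subgroup. -/
theorem chi_p_symm (S : Setting z p) {a b : G} (ha : a ∈ Q z) (hb : b ∈ Q z) (hab : Commute a b) :
    chi a (p * b * p⁻¹) = chi b (p * a * p⁻¹) := by
  rw [S.es.chi_comm (q := b)]
  have h1 : chi (p * a * p⁻¹) b = chi a (p⁻¹ * b * p) := by
    rw [← chi_conj p⁻¹ (p * a * p⁻¹) b]
    congr 1 <;> group
  rw [h1, S.chi_modZ ha (mul_mem hb (S.conj_mem S.p_mem_cz hb)) (S.inv_conj_modZ hb),
    S.es.chi_mul_right ha hb (S.conj_mem S.p_mem_cz hb), chi_eq_zero.mpr hab, zero_add]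

/-- For an outer involution `C_E(u)` has exponent two. -/
theorem cQ_exp_two (S : Setting z p) (hu : u ∈ cz z) (ho : u ∉ inner z p) (h2 : u * u = 1)
    {c : G} (hc : c ∈ cQ z u) : c * c = 1 := by
  have hA := (S.card_outer hu ho h2).1
  have hca : c ∈ aSub z u := hA ▸ S.cQ_le_ySub hu hc
  exact (S.commute_iff_sq hu h2 hca).mp (mem_cQ.mp hc).2

theorem cQ_comm (S : Setting z p) (hu : u ∈ cz z) (ho : u ∉ inner z p) (h2 : u * u = 1)
    {a b : G} (ha : a ∈ cQ z u) (hb : b ∈ cQ z u) : Commute a b := by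
  have hA := (S.card_outer hu ho h2).1
  exact S.commute_aSub hu h2 (hA ▸ S.cQ_le_ySub hu ha) (hA ▸ S.cQ_le_ySub hu hb)

/-- The functionals on `C` given by the elements of `D`. -/
theorem exists_dual {C D : Subgroup G} {f : G → G → ZMod 2}
    (hlin : ∀ d ∈ D, ∀ a ∈ C, ∀ b ∈ C, f d (a * b) = f d a + f d b)
    (hadd : ∀ a ∈ C, ∀ d ∈ D, ∀ d' ∈ D, f (d * d') a = f d a + f d' a)
    (hnz : ∀ d ∈ D, d ≠ 1 → ∃ c ∈ C, f d c ≠ 0)
    {d₁ d₂ : G} (h₁ : d₁ ∈ D) (h₂ : d₂ ∈ D) (hne₁ : d₁ ≠ 1) (hne₂ : d₂ ≠ 1) (hne : d₁ * d₂ ≠ 1) :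
    ∃ c ∈ C, f d₁ c = 1 ∧ f d₂ c = 0 := by
  obtain ⟨a, ha, ha'⟩ := hnz d₁ h₁ hne₁
  obtain ⟨c, hc, hc'⟩ := hnz _ (mul_mem h₁ h₂) hne
  have h01 : ∀ x : ZMod 2, x = 0 ∨ x = 1 := by decide
  have ha1 := ESCount.zmod_two _ ha'
  rcases h01 (f d₂ a) with h | h
  · exact ⟨a, ha, ha1, h⟩
  · rw [hadd c hc d₁ h₁ d₂ h₂] at hc'
    rcases h01 (f d₁ c) with hx | hx
    · rw [hx, zero_add] at hc'
      have hy := ESCount.zmod_two _ hc'
      refine ⟨a * c, mul_mem ha hc, ?_, ?_⟩
      · rw [hlin d₁ h₁ a ha c hc, ha1, hx]; decide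
      · rw [hlin d₂ h₂ a ha c hc, h, hy]; decide
    · rcases h01 (f d₂ c) with hy | hy
      · exact ⟨c, hc, hx, hy⟩
      · exact absurd (by rw [hx, hy]; decide) hc'

/-- The intersection of order four is impossible. -/
theorem not_four (S : Setting z p) (F : AutFacts) (T : Setting u q) (hu : u ∈ cz z)
    (ho : u ∉ inner z p) (ho' : z ∉ inner u q) (huQ : u ∉ Q z) (hzQ : z ∉ Q u)
    (hC : Nat.card ↥(cQ z u) = 2 ^ 7) (hC' : Nat.card ↥(cQ u z) = 2 ^ 7)
    (hD : Nat.card ↥(Q z ⊓ Q u) = 4) : False := by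
  classical
  have hzu : z ∈ cz u := mem_cz.mpr (mem_cz.mp hu).symm
  have h2 : u * u = 1 := T.es.sq
  obtain ⟨hAY, hY⟩ := S.card_outer hu ho h2
  have hCA : cQ z u = aSub z u := by
    rw [hAY]
    exact Subgroup.eq_of_le_of_card_ge (S.cQ_le_ySub hu) (le_of_eq (by rw [hC, hY]))
  -- the image of `C_{E_u}(z)` is elementary of order 32
  have hswap : Q u ⊓ Q z = Q z ⊓ Q u := inf_comm _ _
  have him := T.card_img_cQ S
  rw [hswap, hD, hC'] at him
  have hexp : IsExp2 (S.imgS (cQ u z)) := by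
    intro a ha
    obtain ⟨x, hx, rfl⟩ := (S.mem_imgS (inf_le_right : cQ u z ≤ cz z)).mp ha
    rw [← S.img_mul hx.2 hx.2, T.cQ_exp_two hzu ho' S.es.sq hx, S.img_Q (one_mem _)]
  have hinn := F.exp2_inn _ hexp (by omega)
  set C0 := cQ u z ⊓ inner z p with hC0
  have hC0card : Nat.card ↥C0 = 64 := by
    have hle : C0 ≤ cz z := inf_le_right.trans (inner_le_cz z p)
    have h := S.card_imgS hle (T.isPGroup_Q.to_le (inf_le_left.trans inf_le_left))
    have e1 : S.imgS C0 = S.imgS (cQ u z) ⊓ inn := by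
      ext a
      constructor
      · intro ha
        obtain ⟨x, hx, rfl⟩ := (S.mem_imgS hle).mp ha
        exact ⟨(S.mem_imgS (inf_le_right : cQ u z ≤ cz z)).mpr ⟨x, hx.1, rfl⟩,
          (S.img_mem_inn F (hle hx)).mpr hx.2⟩
      · rintro ⟨ha, hi⟩
        obtain ⟨x, hx, rfl⟩ := (S.mem_imgS (inf_le_right : cQ u z ≤ cz z)).mp ha
        exact (S.mem_imgS hle).mpr ⟨x, ⟨hx, (S.img_mem_inn F hx.2).mp hi⟩, rfl⟩
    have e2 : C0 ⊓ Q z = Q z ⊓ Q u := by
      refine le_antisymm (fun x hx => ⟨hx.2, hx.1.1.1⟩) fun x hx => ⟨⟨⟨hx.2, ?_⟩, ?_⟩, hx.1⟩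
      · exact Q_le_cz z hx.1
      · exact S.Q_le_inner hx.1
    rw [e1, e2, hinn, hD] at h
    omega
  set D := Q z ⊓ Q u with hDdef
  -- the form on `C`
  let f : G → G → ZMod 2 := fun d c => chi d (p * c * p⁻¹)
  have hCQ : ∀ {c}, c ∈ cQ z u → c ∈ Q z := fun hc => hc.1
  have hpc : ∀ {c}, c ∈ Q z → p * c * p⁻¹ ∈ Q z := fun hc => S.conj_mem S.p_mem_cz hc
  have hlin : ∀ d ∈ D, ∀ a ∈ cQ z u, ∀ b ∈ cQ z u, f d (a * b) = f d a + f d b := by
    intro d hd a ha b hb
    show chi d (p * (a * b) * p⁻¹) = _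
    rw [show p * (a * b) * p⁻¹ = p * a * p⁻¹ * (p * b * p⁻¹) by group,
      S.es.chi_mul_right hd.1 (hpc (hCQ ha)) (hpc (hCQ hb))]
  have hadd : ∀ a ∈ cQ z u, ∀ d ∈ D, ∀ d' ∈ D, f (d * d') a = f d a + f d' a :=
    fun a ha d hd d' hd' => S.es.chi_mul_left hd.1 hd'.1 (hpc (hCQ ha))
  -- `A p A p⁻¹ = E`
  set A' := (aSub z u).map (MulAut.conj p).toMonoidHom with hA'
  have hA'le : A' ≤ Q z := by
    rintro _ ⟨a, ha, rfl⟩
    exact hpc (S.aSub_le hu ha)
  have hA128 : Nat.card ↥(aSub z u) = 2 ^ 7 := by rw [hAY, hY]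
  have hcA' : Nat.card ↥A' = 2 ^ 7 := by
    rw [hA', Subgroup.card_map_of_injective (MulAut.conj p).injective, hA128]
  have hinter : ∀ x ∈ aSub z u, p * x * p⁻¹ ∈ aSub z u → x = 1 ∨ x = z := fun x hx hx' =>
    S.ySub_inf_conj hu ho (hAY ▸ hx) (hAY ▸ hx')
  have hnz : ∀ d ∈ D, d ≠ 1 → ∃ c ∈ cQ z u, f d c ≠ 0 := by
    intro d hd hd1
    by_contra hall
    push Not at hall
    -- `d` commutes with `p A p⁻¹`, hence lies in it
    have hperp := ESCount.card_perp S.es hA'le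
      ⟨z, z_mem_aSub z u, by simp [S.p_z.eq]⟩
    rw [S.card_E, hcA'] at hperp
    have hle : A' ≤ Q z ⊓ Subgroup.centralizer (A' : Set G) := fun x hx =>
      ⟨hA'le hx, Subgroup.mem_centralizer_iff.mpr fun y hy => by
        obtain ⟨a, ha, rfl⟩ := hx
        obtain ⟨b, hb, rfl⟩ := hy
        exact ((S.commute_aSub hu h2 hb ha).map (MulAut.conj p)).eq⟩
    have heq := Subgroup.eq_of_le_of_card_ge hle (by
      rw [hcA']
      omega)
    have hdA' : d ∈ A' := by
      rw [heq]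
      refine ⟨hd.1, Subgroup.mem_centralizer_iff.mpr fun y hy => ?_⟩
      obtain ⟨a, ha, rfl⟩ := hy
      exact (chi_eq_zero.mp (hall a (hCA ▸ ha))).eq.symm
    obtain ⟨a, ha, had⟩ := hdA'
    have had' : p * a * p⁻¹ = d := had
    have hdA : d ∈ aSub z u := hCA ▸ inter_le_cQ T hd
    rcases hinter a ha (had' ▸ hdA) with haz | haz <;> rw [haz] at had'
    · exact hd1 (by rw [← had']; group)
    · refine hzQ ?_
      rw [S.p_z.eq, mul_inv_cancel_right] at had'
      rw [had']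
      exact hd.2
  -- two independent elements of `D`
  obtain ⟨d₁, hd₁, hne₁⟩ : ∃ d ∈ D, d ≠ 1 := by
    by_contra h
    push Not at h
    have : D = ⊥ := by rw [Subgroup.eq_bot_iff_forall]; exact h
    rw [this, Subgroup.card_bot] at hD
    omega
  obtain ⟨d₂, hd₂, hne₂, hne₁₂⟩ : ∃ d ∈ D, d ≠ 1 ∧ d₁ * d ≠ 1 := by
    by_contra h
    push Not at h
    have hsub : (D : Set G) ⊆ {1, d₁⁻¹} := fun d hd => by
      by_cases h1 : d = 1
      · exact Or.inl h1
      · exact Or.inr (eq_inv_of_mul_eq_one_right (h d hd h1))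
    have := Set.ncard_le_ncard hsub
    rw [Set.ncard_pair (Ne.symm (inv_ne_one.mpr hne₁)), ← Nat.card_coe_set_eq,
      SetLike.coe_sort_coe] at this
    omega
  have hDelts : ∀ d ∈ D, d = 1 ∨ d = d₁ ∨ d = d₂ ∨ d = d₁ * d₂ := by
    intro d hd
    have h11 : d₁ * d₁ = 1 := S.sq_inter T hzQ hd₁
    have hsub : ({1, d₁, d₂, d₁ * d₂} : Set G) ⊆ D := by
      rintro x (rfl | rfl | rfl | rfl)
      exacts [one_mem _, hd₁, hd₂, mul_mem hd₁ hd₂]
    have hne3 : d₁ ≠ d₂ := fun h => hne₁₂ (by rw [← h, h11])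
    have hn : ({1, d₁, d₂, d₁ * d₂} : Set G).ncard = 4 := by
      rw [Set.ncard_insert_of_notMem (by simp [Ne.symm hne₁, Ne.symm hne₂, Ne.symm hne₁₂]),
        Set.ncard_eq_three.mpr ⟨d₁, d₂, d₁ * d₂, hne3, by simpa using hne₂, by simpa using hne₁,
          rfl⟩]
    have heq := Set.eq_of_subset_of_ncard_le hsub (by
      rw [hn, ← Nat.card_coe_set_eq, SetLike.coe_sort_coe, hD]) (Set.toFinite _)
    have : d ∈ ({1, d₁, d₂, d₁ * d₂} : Set G) := heq ▸ hd
    simpa using this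
  obtain ⟨c₁, hc₁, hf11, hf21⟩ := exists_dual hlin hadd hnz hd₁ hd₂ hne₁ hne₂ hne₁₂
  obtain ⟨c₂, hc₂, hf22, hf12⟩ := exists_dual hlin hadd hnz hd₂ hd₁ hne₂ hne₁
    (fun h => hne₁₂ (by
      calc d₁ * d₂ = d₁ * (d₂ * d₁) * d₁⁻¹ := by group
        _ = 1 := by rw [h]; group))
  have sep : ∀ d ∈ D, f d c₁ = 0 → f d c₂ = 0 → d = 1 := by
    intro d hd e1 e2
    rcases hDelts d hd with rfl | rfl | rfl | rfl
    · rfl
    · exact absurd (hf11.symm.trans e1) (by decide)
    · exact absurd (hf22.symm.trans e2) (by decide)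
    · rw [hadd _ hc₁ _ hd₁ _ hd₂, hf11, hf21] at e1
      exact absurd e1 (by decide)
  -- commutators with elements of `C0`
  have hcomm : ∀ v ∈ C0, ∀ c ∈ cQ z u, v * c * v⁻¹ * c⁻¹ ∈ D := fun v hv c hc =>
    Subgroup.mem_inf.mpr ⟨mul_mem (isQ.normal (mem_cQ.mp hv.1).2 (mem_cQ.mp hc).1) (inv_mem (mem_cQ.mp hc).1), by
      rw [show v * c * v⁻¹ * c⁻¹ = v * (c * v⁻¹ * c⁻¹) by group]
      exact mul_mem (mem_cQ.mp hv.1).1 (isQ.normal (mem_cQ.mp hc).2 (inv_mem (mem_cQ.mp hv.1).1))⟩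
  have hfix : ∀ v ∈ C0, ∀ d ∈ D, v * d * v⁻¹ = d := fun v hv d hd =>
    mul_inv_eq_iff_eq_mul.mpr (T.cQ_comm hzu ho' S.es.sq hv.1
      (⟨hd.2, Q_le_cz z hd.1⟩ : d ∈ cQ u z)).eq
  have hv2 : ∀ v ∈ C0, v⁻¹ = v := fun v hv =>
    inv_eq_of_mul_eq_one_right (T.cQ_exp_two hzu ho' S.es.sq hv.1)
  let β : G → G → G → ZMod 2 := fun v c c' => f (v * c * v⁻¹ * c⁻¹) c'
  have hsymm : ∀ v ∈ C0, ∀ c ∈ cQ z u, ∀ c' ∈ cQ z u, β v c c' = β v c' c := by
    intro v hv c hc c' hc'
    have hvc : ∀ {x}, x ∈ cQ z u → v * x * v⁻¹ ∈ cQ z u := by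
      intro x hx
      have h := hcomm v hv x hx
      have := mul_mem (inter_le_cQ T h) hx
      rwa [show v * x * v⁻¹ * x⁻¹ * x = v * x * v⁻¹ by group] at this
    have expand : ∀ {a b}, a ∈ cQ z u → b ∈ cQ z u →
        β v a b = chi (v * a * v⁻¹) (p * b * p⁻¹) + chi a (p * b * p⁻¹) := by
      intro a b ha hb
      show chi (v * a * v⁻¹ * a⁻¹) _ = _
      rw [S.es.chi_mul_left (hCQ (hvc ha)) (inv_mem (hCQ ha)) (hpc (hCQ hb)),
        inv_eq_of_mul_eq_one_right (S.cQ_exp_two hu ho h2 ha)]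
    have key : ∀ {a b}, a ∈ cQ z u → b ∈ cQ z u →
        chi (v * a * v⁻¹) (p * b * p⁻¹) = chi a (p * (v * b * v⁻¹) * p⁻¹) := by
      intro a b ha hb
      rw [← chi_conj v (v * a * v⁻¹) (p * b * p⁻¹),
        show v * (v * a * v⁻¹) * v⁻¹ = a by
          rw [hv2 v hv]
          calc v * (v * a * v) * v = (v * v) * a * (v * v) := by group
            _ = a := by rw [T.cQ_exp_two hzu ho' S.es.sq hv.1]; group]
      refine S.chi_modZ (hCQ ha) (hpc (hCQ (hvc hb))) ?_
      obtain ⟨-, hi⟩ := (hv.2 : v ∈ inner z p)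
      set g := v * p * v⁻¹ * p⁻¹ with hg
      rw [show v * (p * b * p⁻¹) * v⁻¹ = g * (p * (v * b * v⁻¹) * p⁻¹) * g⁻¹ by rw [hg]; group]
      exact S.conj_eq_of_mem hi (hpc (hCQ (hvc hb)))
    rw [expand hc hc', expand hc' hc, key hc hc',
      S.chi_p_symm (hCQ hc) (hCQ (hvc hc')) (S.cQ_comm hu ho h2 hc (hvc hc')),
      S.chi_p_symm (hCQ hc) (hCQ hc') (S.cQ_comm hu ho h2 hc hc')]
  have hmem1 : ∀ v ∈ C0, ∀ v' ∈ C0, β v c₁ c₁ = β v' c₁ c₁ → β v c₁ c₂ = β v' c₁ c₂ →
      β v c₂ c₂ = β v' c₂ c₂ → v⁻¹ * v' ∈ D := by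
    intro v hv v' hv' e11 e12 e22
    have e21 : β v c₂ c₁ = β v' c₂ c₁ := by
      rw [hsymm v hv c₂ hc₂ c₁ hc₁, hsymm v' hv' c₂ hc₂ c₁ hc₁, e12]
    -- the two commutator maps agree
    have hδ : ∀ c ∈ cQ z u, v * c * v⁻¹ * c⁻¹ = v' * c * v'⁻¹ * c⁻¹ := by
      intro c hc
      set x := v * c * v⁻¹ * c⁻¹ with hx
      set y := v' * c * v'⁻¹ * c⁻¹ with hy
      have hxD := hcomm v hv c hc
      have hyD := hcomm v' hv' c hc
      rw [← hx] at hxD
      rw [← hy] at hyD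
      have fx : ∀ i, (i = c₁ ∨ i = c₂) → f x i = f y i := by
        intro i hi
        have hiC : i ∈ cQ z u := by rcases hi with rfl | rfl <;> assumption
        show β v c i = β v' c i
        rw [hsymm v hv c hc i hiC, hsymm v' hv' c hc i hiC]
        -- commutators with `c_i` agree
        have hi' : v * i * v⁻¹ * i⁻¹ = v' * i * v'⁻¹ * i⁻¹ := by
          have hxi := hcomm v hv i hiC
          have hyi := hcomm v' hv' i hiC
          have := sep _ (mul_mem hxi hyi) (by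
              rw [hadd _ hc₁ _ hxi _ hyi]
              rcases hi with rfl | rfl
              · show β v i i + β v' i i = 0
                rw [e11]; exact CharTwo.add_self_eq_zero _
              · show β v i c₁ + β v' i c₁ = 0
                rw [e21]; exact CharTwo.add_self_eq_zero _) (by
              rw [hadd _ hc₂ _ hxi _ hyi]
              rcases hi with rfl | rfl
              · show β v i c₂ + β v' i c₂ = 0
                rw [e12]; exact CharTwo.add_self_eq_zero _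
              · show β v i i + β v' i i = 0
                rw [e22]; exact CharTwo.add_self_eq_zero _)
          calc v * i * v⁻¹ * i⁻¹ = v * i * v⁻¹ * i⁻¹ *
                ((v' * i * v'⁻¹ * i⁻¹) * (v' * i * v'⁻¹ * i⁻¹)) := by
                rw [S.sq_inter T hzQ hyi, mul_one]
            _ = _ := by rw [← mul_assoc, this, one_mul]
        show f (v * i * v⁻¹ * i⁻¹) c = f (v' * i * v'⁻¹ * i⁻¹) c
        rw [hi']
      have := sep _ (mul_mem hxD hyD) (by
          rw [hadd _ hc₁ _ hxD _ hyD, fx c₁ (Or.inl rfl)]; exact CharTwo.add_self_eq_zero _) (by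
          rw [hadd _ hc₂ _ hxD _ hyD, fx c₂ (Or.inr rfl)]; exact CharTwo.add_self_eq_zero _)
      calc x = x * (y * y) := by rw [S.sq_inter T hzQ hyD, mul_one]
        _ = y := by rw [← mul_assoc, this, one_mul]
    set w := v⁻¹ * v' with hw
    have hwA : ∀ c ∈ aSub z u, w * c * w⁻¹ = c := by
      intro c hc
      rw [← hCA] at hc
      have h := hδ c hc
      have h' : v' * c * v'⁻¹ = v * c * v⁻¹ := mul_right_cancel h.symm
      calc w * c * w⁻¹ = v⁻¹ * (v' * c * v'⁻¹) * v := by rw [hw]; group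
        _ = c := by rw [h']; group
    have hwi : w ∈ inner z p := mul_mem (inv_mem hv.2) hv'.2
    have hwz : w ∈ cz z := inner_le_cz z p hwi
    have hwu : w ∈ Q u := mul_mem (inv_mem (mem_cQ.mp hv.1).1) (mem_cQ.mp hv'.1).1
    refine ⟨S.mem_Q_of_fix_mod hwz fun e he => ?_, hwu⟩
    let K : Subgroup G :=
      { carrier := {e | e ∈ Q z ∧ ModZ z (w * e * w⁻¹) e}
        one_mem' := ⟨one_mem _, Or.inl (by group)⟩
        mul_mem' := by
          rintro a b ⟨ha, ha'⟩ ⟨hb, hb'⟩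
          refine ⟨mul_mem ha hb, ?_⟩
          rw [show w * (a * b) * w⁻¹ = (w * a * w⁻¹) * (w * b * w⁻¹) by group]
          exact S.modZ_mul hb ha' hb'
        inv_mem' := by
          rintro a ⟨ha, ha'⟩
          refine ⟨inv_mem ha, ?_⟩
          rcases ha' with h | h
          · left
            calc w * a⁻¹ * w⁻¹ = (w * a * w⁻¹)⁻¹ := by group
              _ = a⁻¹ := by rw [h]
          · right
            calc w * a⁻¹ * w⁻¹ = (w * a * w⁻¹)⁻¹ := by group
              _ = a⁻¹ * z := by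
                rw [h, mul_inv_rev, S.es.zinv, S.z_comm (inv_mem ha)] }
    have hAK : aSub z u ≤ K := fun a ha => ⟨S.aSub_le hu ha, Or.inl (hwA a ha)⟩
    have hA'K : A' ≤ K := by
      rintro _ ⟨a, ha, rfl⟩
      refine ⟨hpc (S.aSub_le hu ha), ?_⟩
      show ModZ z (w * (p * a * p⁻¹) * w⁻¹) (p * a * p⁻¹)
      obtain ⟨-, hi⟩ := hwi
      set g := w * p * w⁻¹ * p⁻¹ with hg
      rw [show w * (p * a * p⁻¹) * w⁻¹ = g * (p * (w * a * w⁻¹) * p⁻¹) * g⁻¹ by rw [hg]; group,
        hwA a ha]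
      exact S.conj_eq_of_mem hi (hpc (S.aSub_le hu ha))
    have hKQ : K ≤ Q z := fun e he => he.1
    have hKall : Q z ≤ K := by
      have hinf : Nat.card ↥(aSub z u ⊓ A') ≤ 2 := by
        have hsub : ((aSub z u ⊓ A' : Subgroup G) : Set G) ⊆ {1, z} := by
          rintro x ⟨hx, a, ha, rfl⟩
          rcases hinter a ha hx with haz | haz
          · left; simp [haz]
          · right
            show p * a * p⁻¹ = z
            rw [haz, S.p_z.eq, mul_inv_cancel_right]
        have := Set.ncard_le_ncard hsub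
        rw [Set.ncard_pair (Ne.symm S.z_ne_one), ← Nat.card_coe_set_eq, SetLike.coe_sort_coe]
          at this
        exact this
      have hmul := card_mul_card_le hAK hA'K
      rw [hcA', hA128] at hmul
      have : 2 ^ 13 ≤ Nat.card ↥K := by
        have h3 := hmul.trans (Nat.mul_le_mul_left _ hinf)
        omega
      exact (Subgroup.eq_of_le_of_card_ge hKQ (S.card_E ▸ this)).ge
    exact (hKall he).2
  -- counting
  let bits : ↥C0 → ZMod 2 × ZMod 2 × ZMod 2 := fun v =>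
    (β v c₁ c₁, β v c₁ c₂, β v c₂ c₂)
  have := Fintype.ofFinite ↥C0
  have hfib : ∀ b ∈ (Finset.univ : Finset (ZMod 2 × ZMod 2 × ZMod 2)),
      ((Finset.univ : Finset ↥C0).filter fun v => bits v = b).card ≤ 4 := by
    intro b _
    rcases ((Finset.univ : Finset ↥C0).filter fun v => bits v = b).eq_empty_or_nonempty with
      he | ⟨v₀, hv₀⟩
    · rw [he]; simp
    · rw [Finset.mem_filter] at hv₀
      have hle : ((Finset.univ : Finset ↥C0).filter fun v => bits v = b).card ≤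
          Nat.card ↥D := by
        have := Fintype.ofFinite ↥D
        rw [Nat.card_eq_fintype_card, ← Finset.card_univ]
        refine Finset.card_le_card_of_injOn (fun v : ↥C0 => if h : (v₀ : G)⁻¹ * v ∈ D then
          (⟨_, h⟩ : ↥D) else 1) (fun _ _ => Finset.mem_univ _) ?_
        intro v hv v' hv' he
        simp only [Finset.coe_filter, Set.mem_ofPred_eq, Finset.mem_univ, true_and] at hv hv'
        have h1 : (v₀ : G)⁻¹ * v ∈ D := by
          have h := hv.trans hv₀.2.symm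
          simp only [bits, Prod.mk.injEq] at h
          exact hmem1 _ v₀.2 _ v.2 h.1.symm h.2.1.symm h.2.2.symm
        have h1' : (v₀ : G)⁻¹ * v' ∈ D := by
          have h := hv'.trans hv₀.2.symm
          simp only [bits, Prod.mk.injEq] at h
          exact hmem1 _ v₀.2 _ v'.2 h.1.symm h.2.1.symm h.2.2.symm
        simp only [dif_pos h1, dif_pos h1', Subtype.mk.injEq] at he
        exact Subtype.ext (mul_left_cancel he)
      omega
  have hcount := Finset.card_le_mul_card_image_of_maps_to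
    (s := (Finset.univ : Finset ↥C0)) (t := (Finset.univ : Finset (ZMod 2 × ZMod 2 × ZMod 2)))
    (f := bits) (fun _ _ => Finset.mem_univ _) 4 hfib
  rw [Finset.card_univ, ← Nat.card_eq_fintype_card, hC0card] at hcount
  simp at hcount

theorem img_exp_two (S : Setting z p) (T : Setting u q) (hu : u ∈ cz z) (ho : u ∉ inner z p) :
    IsExp2 (T.imgS (cQ z u)) := by
  intro a ha
  obtain ⟨x, hx, rfl⟩ := (T.mem_imgS (inf_le_right : cQ z u ≤ cz u)).mp ha
  rw [← T.img_mul hx.2 hx.2, S.cQ_exp_two hu ho T.es.sq hx, T.img_Q (one_mem _)]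

/-- An outer conjugate: index two is impossible. -/
theorem not_outer_index_two (S : Setting z p) (F : AutFacts) (T : Setting u q) (hu : IsConj z u)
    (hn : NotFused z) (huc : u ∈ cz z) (ho : u ∉ inner z p) (hzQ : z ∉ Q u)
    (hC : Nat.card ↥(cQ z u) = 2 ^ 6) (hz : InS z u z) : False := by
  have him := S.card_img_cQ T
  have h32 := F.exp2_card _ (S.img_exp_two T huc ho)
  have hD : 2 ≤ Nat.card ↥(Q z ⊓ Q u) := by
    by_contra hlt
    push Not at hlt
    interval_cases hc : Nat.card ↥(Q z ⊓ Q u)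
    · simp at him; omega
    · omega
  obtain ⟨d, hd, hd1⟩ : ∃ d ∈ Q z ⊓ Q u, d ≠ 1 := by
    by_contra h
    push Not at h
    have : Q z ⊓ Q u = ⊥ := by rw [Subgroup.eq_bot_iff_forall]; exact h
    rw [this, Subgroup.card_bot] at hD
    omega
  have hdA : d ∈ aSub z u := by
    rw [(S.card_outer huc ho T.es.sq).1]
    exact S.cQ_le_ySub huc (inter_le_cQ T hd)
  exact hd1 (S.no_inS T hu T.es.sq hn hd (S.inS_of_inS_z huc hz hdA))

/-- An outer conjugate commuting with `z` forces fusion in the core. -/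
theorem not_outer (S : Setting z p) (F : AutFacts) (T : Setting u q) (hu : IsConj z u)
    (hne : u ≠ z) (huc : u ∈ cz z) (ho : u ∉ inner z p) (hn : NotFused z) : False := by
  have hzu : z ∈ cz u := mem_cz.mpr (mem_cz.mp huc).symm
  by_cases ho' : z ∈ inner u q
  · exact T.not_inner F S hu.symm (Ne.symm hne) ho' (hn.of_isConj hu)
  have huQ : u ∉ Q z := fun h => hne (hn u h hu)
  have hzQ : z ∉ Q u := fun h => hne (hn.of_isConj hu z h hu.symm).symm
  obtain ⟨-, hY⟩ := S.card_outer huc ho T.es.sq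
  obtain ⟨-, hY'⟩ := T.card_outer hzu ho' S.es.sq
  rcases S.card_cQ huc with hC | ⟨hC, hz⟩
  · rcases T.card_cQ hzu with hC' | ⟨hC', hz'⟩
    · rw [hY] at hC
      rw [hY'] at hC'
      have him := S.card_img_cQ T
      have h32 := F.exp2_card _ (S.img_exp_two T huc ho)
      obtain ⟨d, hd⟩ := two_pow_of_le S.isPGroup_Q (inf_le_left : Q z ⊓ Q u ≤ Q z)
      rw [← hC, hd] at him
      rcases Nat.lt_or_ge d 3 with hlt | hge
      · interval_cases d
        · omega
        · omega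
        · exact S.not_four F T huc ho ho' huQ hzQ hC.symm hC'.symm (by rw [hd]; norm_num)
      · have hDA : Q z ⊓ Q u ≤ aSub z u := by
          rw [(S.card_outer huc ho T.es.sq).1]
          exact (inter_le_cQ T).trans (S.cQ_le_ySub huc)
        obtain ⟨x, hx, hx1, hS⟩ := S.exists_inS huc T.es.sq hDA (by
          rw [hd]
          exact le_trans (by norm_num) (Nat.pow_le_pow_right (n := 2) (by norm_num) hge))
        exact hx1 (S.no_inS T hu T.es.sq hn hx hS)
    · rw [hY'] at hC'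
      exact T.not_outer_index_two F S hu.symm (hn.of_isConj hu) hzu ho' huQ (by omega) hz'
  · rw [hY] at hC
    exact S.not_outer_index_two F T hu hn huc ho hzQ (by omega) hz

/-- Some conjugate of `z` other than `z` lies in the core. -/
theorem exists_fused [IsSimpleGroup G] (hG : ¬ IsMulCommutative G) (S : Setting z p)
    (F : AutFacts) : ∃ e ∈ Q z, IsConj z e ∧ e ≠ z := by
  by_contra hcon
  push Not at hcon
  have hn : NotFused z := hcon
  have hall : ∀ g : G, Commute (g * z * g⁻¹) z → g * z * g⁻¹ = z := by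
    intro g hc
    by_contra hne
    have hconj : IsConj z (g * z * g⁻¹) := isConj_iff.mpr ⟨g, rfl⟩
    by_cases hi : g * z * g⁻¹ ∈ inner z p
    · exact S.not_inner F (S.conj g) hconj hne hi hn
    · exact S.not_outer F (S.conj g) hconj hne (mem_cz.mpr hc) hi hn
  obtain ⟨P, hP⟩ := (IsPGroup.of_card (p := 2) (n := 1)
    (by rw [Nat.card_zpowers, S.ord_z, pow_one]) :
      IsPGroup 2 (Subgroup.zpowers z)).exists_le_sylow
  have hzP : z ∈ (P : Subgroup G) := hP (Subgroup.mem_zpowers z)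
  have hiso := (ZStar.Consequences.isolatedIn_of_involution (z := z)
    ⟨S.ord_z, fun g hc => hall g hc.symm⟩ P hzP).2
  obtain ⟨N, hN, hodd, hmem⟩ := ZStar.UniqueCase.zstar P z S.ord_z hzP hiso
  rcases hN.eq_bot_or_eq_top with hb | ht
  · have hcen : z ∈ Subgroup.center G := by
      rw [Subgroup.mem_center_iff]
      intro g
      have h := hmem g
      rw [hb, Subgroup.mem_bot, mul_inv_eq_one] at h
      exact (mul_inv_eq_iff_eq_mul.1 h).symm
    rcases (inferInstance : (Subgroup.center G).Normal).eq_bot_or_eq_top with hc | hc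
    · rw [hc, Subgroup.mem_bot] at hcen
      exact S.z_ne_one hcen
    · exact hG ⟨⟨fun a b => (Subgroup.mem_center_iff.mp (hc ▸ Subgroup.mem_top b) a)⟩⟩
  · have h2 : 2 ∣ Nat.card G := S.ord_z ▸ orderOf_dvd_natCard z
    rw [ht, Nat.card_congr Subgroup.topEquiv.toEquiv] at hodd
    exact (Nat.not_even_iff_odd.mpr hodd) (even_iff_two_dvd.mpr h2)

end Setting

end Cfsg.Agent.Lib.J4Local
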