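import Mathlib
import Cfsg.Agent.Lib.FusionAlperin.MathieuCert

/-!
# A 2-group of order 256 given by multiplication rows: certified subgroup searches

`rows` has one entry per element `j`: the packed (8 bits) permutation `i ↦ i * j`.  `cents` has the
bit masks of commuting elements.  `levels` lists abelian (or exponent two) subgroups of order
2, 4, 8, ... closed under extension by a suitable involution modulo the subgroup.
-/

set_option autoImplicit false

namespace Cfsg.Agent.Lib.J4Local.SylTable

open Cfsg.Agent.Lib.Computation Cfsg.Agent.Lib.FusionAlperin.MathieuCert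

/-- The mask of a list of indices. -/
def maskOf (l : List ℕ) : ℕ := l.foldr (fun i acc => Nat.lor (Nat.shiftLeft 1 i) acc) 0

theorem testBit_maskOf {l : List ℕ} {i : ℕ} : (maskOf l).testBit i = true ↔ i ∈ l := by
  induction l with
  | nil => simp [maskOf]
  | cons a l ih =>
    have h : maskOf (a :: l) = 2 ^ a ||| maskOf l := congrArg (· ||| maskOf l) (Nat.one_shiftLeft a)
    rw [h]
    simp [Nat.testBit_two_pow, ih, eq_comm (a := a)]

/-- The data: index, row, commutation mask. -/
def ents (rows cents : List ℕ) : List (ℕ × ℕ × ℕ) := (List.range 256).zip (rows.zip cents)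

/-- One commutation mask is right. -/
def centOk (es : List (ℕ × ℕ × ℕ)) : Bool :=
  es.all fun e => forceNat e.2.1 fun r => Nat.beq e.2.2
    (maskOf ((es.filter fun d => Nat.beq (getW 8 d.2.1 e.1) (getW 8 r d.1)).map Prod.fst))

/-- `List.all` written with the recursor, which the kernel evaluates faster. -/
def allL {α : Type} (f : α → Bool) (l : List α) : Bool :=
  List.rec (motive := fun _ => Bool) true (fun a _ ih => bif f a then ih else false) l

theorem allL_iff {α : Type} {f : α → Bool} : ∀ {l : List α}, allL f l = true ↔ ∀ a ∈ l, f a = true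
  | [] => by simp [allL]
  | a :: l => by
    have h : allL f (a :: l) = bif f a then allL f l else false := rfl
    rw [h, List.forall_mem_cons, ← allL_iff (l := l)]
    cases f a <;> simp

/-- The bit `i` of `m` is off. -/
def offBit (m i : ℕ) : Bool := Nat.beq (Nat.land (Nat.shiftRight m i) 1) 0

theorem offBit_iff {m i : ℕ} : offBit m i = true ↔ m.testBit i = false := by
  have h : Nat.land (Nat.shiftRight m i) 1 = m / 2 ^ i % 2 := by
    show Nat.shiftRight m i &&& 1 = _
    rw [Nat.and_one_is_mod, show Nat.shiftRight m i = m / 2 ^ i from Nat.shiftRight_eq_div_pow m i]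
  rw [offBit, Nat.beq_eq, h, Nat.testBit_eq_decide_div_mod_eq]
  simp only [decide_eq_false_iff_not]
  omega

/-- The subgroups of the next level contain every extension. -/
def levelOk (elem : Bool) (es : List (ℕ × ℕ × ℕ)) (cur nxt : List (List ℕ)) : Bool :=
  allL (fun H => forceNat (maskOf H) fun m => allL (fun e =>
    bif offBit m e.1 then
      (bif Nat.beq (Nat.land m e.2.2) m then
        (bif (bif elem then Nat.beq (getW 8 e.2.1 e.1) 0 else !offBit m (getW 8 e.2.1 e.1)) then
          (buildTree 10 (nxt.map maskOf)).has (Nat.lor m (maskOf (H.map (getW 8 e.2.1))))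
        else true)
      else true)
    else true) es) cur

/-- All levels, with their sizes. -/
def levelsOk (elem : Bool) (es : List (ℕ × ℕ × ℕ)) : List (List ℕ) → ℕ → List (List (List ℕ)) → Bool
  | _, _, [] => true
  | cur, k, nxt :: rest => levelOk elem es cur nxt &&
      (nxt.all fun K => Nat.ble K.length (2 ^ (k + 1)) && K.all (Nat.blt · 256)) &&
      levelsOk elem es nxt (k + 1) rest

/-- The centralisers of the given subgroups are abelian. -/
def centAbelOk (es : List (ℕ × ℕ × ℕ)) (L : List (List ℕ)) : Bool :=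
  L.all fun H => forceNat (maskOf H) fun m =>
    forceNat (maskOf ((es.filter fun e => Nat.beq (Nat.land m e.2.2) m).map Prod.fst)) fun c =>
      es.all fun e => !c.testBit e.1 || Nat.beq (Nat.land c e.2.2) c

/-- The centre is in the listed indices. -/
def centralOk (es : List (ℕ × ℕ × ℕ)) (Z : List ℕ) : Bool :=
  es.all fun e => !Nat.beq e.2.2 (2 ^ 256 - 1) || Z.any (Nat.beq e.1)

/-- An element with centraliser of order 128 shares it with at most one other. -/
def cent128Ok (es : List (ℕ × ℕ × ℕ)) : Bool :=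
  es.all fun e => forceNat e.2.2 fun c =>
    !Nat.beq ((es.filter fun d => c.testBit d.1).length) 128 ||
      Nat.ble ((es.filter fun d => Nat.beq d.2.2 c).length) 2

theorem land_eq_iff {m c : ℕ} : Nat.land m c = m ↔ ∀ i, m.testBit i = true → c.testBit i = true := by
  show m &&& c = m ↔ _
  constructor
  · intro h i hi
    rw [← h, Nat.testBit_and, Bool.and_eq_true] at hi
    exact hi.2
  · intro h
    refine Nat.eq_of_testBit_eq fun i => ?_
    rw [Nat.testBit_and]
    cases hm : m.testBit i with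
    | false => rfl
    | true => rw [h i hm]; rfl

/-- What the checks say about the values of the indices in a group. -/
structure Model {A : Type*} [Group A] (val : ℕ → A) (rows cents : List ℕ) : Prop where
  inj : ∀ i < 256, ∀ j < 256, val i = val j → i = j
  one : val 0 = 1
  lenR : rows.length = 256
  lenC : cents.length = 256
  row : ∀ i < 256, ∀ j < 256, getW 8 (rows.getD j 0) i < 256 ∧
    val (getW 8 (rows.getD j 0) i) = val i * val j
  cent : centOk (ents rows cents) = true

namespace Model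

variable {A : Type*} [Group A] {val : ℕ → A} {rows cents : List ℕ}

theorem mem_ents (M : Model val rows cents) {e : ℕ × ℕ × ℕ} :
    e ∈ ents rows cents ↔ e.1 < 256 ∧ e.2.1 = rows.getD e.1 0 ∧ e.2.2 = cents.getD e.1 0 := by
  constructor
  · intro h
    obtain ⟨i, hi, rfl⟩ := List.mem_iff_getElem.mp h
    simp only [ents, List.length_zip, List.length_range, M.lenR, M.lenC, Nat.min_self] at hi
    simp only [ents, List.getElem_zip, List.getElem_range]
    refine ⟨hi, ?_, ?_⟩ <;> rw [List.getD_eq_getElem _ _ (by simp [M.lenR, M.lenC, hi])]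
  · rintro ⟨hi, hr, hc⟩
    refine List.mem_iff_getElem.mpr ⟨e.1, by simp [ents, M.lenR, M.lenC, hi], ?_⟩
    simp only [ents, List.getElem_zip, List.getElem_range]
    obtain ⟨i, r, c⟩ := e
    simp only at hi hr hc ⊢
    rw [hr, hc, List.getD_eq_getElem _ _ (by simp [M.lenR, hi]),
      List.getD_eq_getElem _ _ (by simp [M.lenC, hi])]

theorem ent (M : Model val rows cents) {i : ℕ} (hi : i < 256) :
    (i, rows.getD i 0, cents.getD i 0) ∈ ents rows cents := M.mem_ents.mpr ⟨hi, rfl, rfl⟩

theorem cent_iff (M : Model val rows cents) {i j : ℕ} (hi : i < 256) :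
    (cents.getD i 0).testBit j = true ↔ j < 256 ∧ val i * val j = val j * val i := by
  have h := M.cent
  simp only [centOk, List.all_eq_true, forceNat_eq, Nat.beq_eq] at h
  have h' := h _ (M.ent hi)
  simp only at h'
  rw [h', testBit_maskOf]
  simp only [List.mem_map, List.mem_filter, Nat.beq_eq]
  constructor
  · rintro ⟨d, ⟨hd, he⟩, rfl⟩
    obtain ⟨hd1, hd2, -⟩ := M.mem_ents.mp hd
    refine ⟨hd1, ?_⟩
    rw [← (M.row i hi d.1 hd1).2, ← (M.row d.1 hd1 i hi).2, ← hd2, he]
  · rintro ⟨hj, he⟩
    refine ⟨_, ⟨M.ent hj, ?_⟩, rfl⟩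
    exact M.inj _ (M.row i hi j hj).1 _ (M.row j hj i hi).1
      (by rw [(M.row i hi j hj).2, (M.row j hj i hi).2, he])

/-- The group of the values. -/
def syl [Finite A] (M : Model val rows cents) : Subgroup A where
  carrier := val '' Set.Iio 256
  one_mem' := ⟨0, Nat.succ_pos 255, M.one⟩
  mul_mem' := by
    rintro _ _ ⟨i, hi, rfl⟩ ⟨j, hj, rfl⟩
    exact ⟨_, (M.row i hi j hj).1, (M.row i hi j hj).2⟩
  inv_mem' := by
    intro x hx
    have hpow : ∀ k : ℕ, x ^ k ∈ val '' Set.Iio 256 := by
      intro k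
      induction k with
      | zero => exact ⟨0, Nat.succ_pos 255, by rw [M.one, pow_zero]⟩
      | succ k ih =>
        obtain ⟨i, hi, hie⟩ := ih
        obtain ⟨j, hj, hje⟩ := hx
        exact ⟨_, (M.row i hi j hj).1, by rw [(M.row i hi j hj).2, hie, hje, pow_succ]⟩
    have h1 : x⁻¹ = x ^ (orderOf x - 1) := by
      rw [inv_eq_iff_mul_eq_one, ← pow_succ', Nat.sub_add_cancel (orderOf_pos x), pow_orderOf_eq_one]
    rw [h1]
    exact hpow _

theorem mem_syl [Finite A] (M : Model val rows cents) {x : A} :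
    x ∈ M.syl ↔ ∃ i < 256, val i = x := Iff.rfl

theorem card_syl [Finite A] (M : Model val rows cents) : Nat.card ↥M.syl = 256 := by
  show Nat.card ↥(val '' Set.Iio 256) = 256
  rw [Nat.card_coe_set_eq,
    Set.InjOn.ncard_image (show Set.InjOn val (Set.Iio 256) from fun i hi j hj h => M.inj i hi j hj h)]
  simp

/-- An abelian subgroup containing an index set as a subgroup. -/
def Holds (val : ℕ → A) (Z : Subgroup A) (K : List ℕ) : Prop :=
  ∃ W : Subgroup A, W ≤ Z ∧ (W : Set A) = val '' {i | i ∈ K}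

theorem card_holds [Finite A] {W : Subgroup A} {K : List ℕ} (h : (W : Set A) = val '' {i | i ∈ K}) :
    Nat.card ↥W ≤ K.length := by
  classical
  have h2 : (W : Set A) = ↑(K.toFinset.image val) := by simp [h, Finset.coe_image]
  rw [show Nat.card ↥W = Nat.card ↥(W : Set A) from rfl, h2, Nat.card_coe_set_eq, Set.ncard_coe_finset]
  exact Finset.card_image_le.trans (List.toFinset_card_le K)

/-- One step of the search. -/
theorem step [Finite A] (M : Model val rows cents) {elem : Bool} {cur nxt : List (List ℕ)}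
    (hok : levelOk elem (ents rows cents) cur nxt = true)
    {Z : Subgroup A} (hZ : Z ≤ M.syl) (hab : ∀ a ∈ Z, ∀ b ∈ Z, a * b = b * a)
    (hexp : elem = true → ∀ a ∈ Z, a * a = 1)
    {H : List ℕ} (hHc : H ∈ cur) (hH : ∀ i ∈ H, i < 256) (hlt : H.length < Nat.card ↥Z)
    (hh : Holds val Z H) : ∃ K ∈ nxt, Holds val Z K := by
  obtain ⟨W, hWZ, hW⟩ := hh
  have hmemW : ∀ x, x ∈ W ↔ ∃ i ∈ H, val i = x := fun x => by
    rw [← SetLike.mem_coe, hW]; rfl
  obtain ⟨y, hyZ, hyW⟩ : ∃ y ∈ Z, y ∉ W := by
    by_contra hcon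
    push Not at hcon
    have := Subgroup.card_le_of_le (show Z ≤ W from hcon)
    exact absurd (this.trans (card_holds hW)) (by omega)
  obtain ⟨z, hzZ, hzW, hz2⟩ : ∃ z ∈ Z, z ∉ W ∧ z * z ∈ W ∧ (elem = true → z * z = 1) := by
    cases helem : elem with
    | true => exact ⟨y, hyZ, hyW, by rw [hexp helem y hyZ]; exact ⟨one_mem _, fun _ => rfl⟩⟩
    | false =>
      have h256 : y ^ 2 ^ 8 = 1 := by
        have h := Subgroup.orderOf_dvd_natCard M.syl (hZ hyZ)
        rw [M.card_syl] at h
        exact orderOf_dvd_iff_pow_eq_one.mp h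
      classical
      have hex : ∃ m, y ^ 2 ^ m ∈ W := ⟨8, by rw [h256]; exact one_mem _⟩
      obtain ⟨m, hm⟩ : ∃ m, Nat.find hex = m + 1 := by
        refine Nat.exists_eq_succ_of_ne_zero fun h0 => hyW ?_
        have := Nat.find_spec hex
        rwa [h0, pow_zero, pow_one] at this
      refine ⟨y ^ 2 ^ m, pow_mem hyZ _, Nat.find_min hex (by omega), ?_, fun h => absurd h (by simp)⟩
      rw [← pow_add, ← two_mul, ← pow_succ', ← hm]
      exact Nat.find_spec hex
  obtain ⟨i, hi, hie⟩ := hZ hzZ
  have hi : i < 256 := hi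
  simp only [levelOk, allL_iff, forceNat_eq] at hok
  have hk0 := hok H hHc _ (M.ent hi)
  simp only at hk0
  have hk : (((maskOf H).testBit i = true ∨ Nat.beq (Nat.land (maskOf H) (cents.getD i 0)) (maskOf H) = false) ∨
      (bif elem then Nat.beq (getW 8 (rows.getD i 0) i) 0
        else (maskOf H).testBit (getW 8 (rows.getD i 0) i)) = false) ∨
      (buildTree 10 (nxt.map maskOf)).has
        (Nat.lor (maskOf H) (maskOf (H.map (getW 8 (rows.getD i 0))))) = true := by
    have hoff : ∀ j, offBit (maskOf H) j = !(maskOf H).testBit j := fun j => by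
      rw [Bool.eq_iff_iff, offBit_iff, Bool.not_eq_true']
    rw [hoff, hoff, Bool.not_not] at hk0
    revert hk0
    cases (maskOf H).testBit i <;>
      cases Nat.beq (Nat.land (maskOf H) (cents.getD i 0)) (maskOf H) <;>
        cases (bif elem then Nat.beq (getW 8 (rows.getD i 0) i) 0
          else (maskOf H).testBit (getW 8 (rows.getD i 0) i)) <;> simp
  obtain ⟨hr1, hr2⟩ := M.row i hi i hi
  rcases hk with ((hk | hk) | hk) | hk
  · exact absurd ((hmemW z).mpr ⟨i, testBit_maskOf.mp hk, hie⟩) hzW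
  · exfalso
    rw [Bool.eq_false_iff, ne_eq, Nat.beq_eq, land_eq_iff] at hk
    refine hk fun h hh => ?_
    have hh := testBit_maskOf.mp hh
    refine (M.cent_iff hi).mpr ⟨hH h hh, ?_⟩
    rw [hie]
    exact hab z hzZ _ (hWZ ((hmemW _).mpr ⟨h, hh, rfl⟩))
  · exfalso
    revert hk
    cases helem : elem with
    | true =>
      simp only [cond_true, Bool.eq_false_iff, ne_eq, Nat.beq_eq]
      exact not_not.mpr (M.inj _ hr1 0 (Nat.succ_pos _) (by rw [hr2, hie, hz2.2 helem, M.one]))
    | false =>
      simp only [cond_false, Bool.eq_false_iff, ne_eq, testBit_maskOf]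
      obtain ⟨j, hj, hje⟩ := (hmemW _).mp hz2.1
      refine not_not.mpr ?_
      rwa [← M.inj j (hH j hj) _ hr1 (by rw [hje, hr2, hie])]
  · obtain ⟨K, hK, hKm⟩ := List.mem_map.mp (mem_of_has hk)
    have hmem : ∀ j, j ∈ K ↔ j ∈ H ∨ ∃ h ∈ H, getW 8 (rows.getD i 0) h = j := by
      intro j
      rw [← testBit_maskOf, hKm]
      show (maskOf H ||| maskOf _).testBit j = true ↔ _
      simp [testBit_maskOf]
    have hmem' : ∀ x, (∃ j ∈ K, val j = x) ↔ x ∈ W ∨ x * z⁻¹ ∈ W := by
      intro x
      constructor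
      · rintro ⟨j, hj, rfl⟩
        rcases (hmem j).mp hj with hj | ⟨h, hh, rfl⟩
        · exact Or.inl ((hmemW _).mpr ⟨j, hj, rfl⟩)
        · exact Or.inr ((hmemW _).mpr ⟨h, hh, by rw [(M.row h (hH h hh) i hi).2, hie, mul_inv_cancel_right]⟩)
      · rintro (hx | hx)
        · obtain ⟨j, hj, rfl⟩ := (hmemW x).mp hx
          exact ⟨j, (hmem j).mpr (Or.inl hj), rfl⟩
        · obtain ⟨h, hh, hx⟩ := (hmemW _).mp hx
          refine ⟨_, (hmem _).mpr (Or.inr ⟨h, hh, rfl⟩), ?_⟩
          rw [(M.row h (hH h hh) i hi).2, hx, hie, inv_mul_cancel_right]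
    have hcomm : ∀ a ∈ W, z * a = a * z := fun a ha => hab z hzZ a (hWZ ha)
    refine ⟨K, hK, (W ⊔ Subgroup.zpowers z), sup_le hWZ ((Subgroup.zpowers_le).mpr hzZ), ?_⟩
    ext x
    rw [SetLike.mem_coe, show (x ∈ val '' {j | j ∈ K}) = ∃ j ∈ K, val j = x from rfl, hmem']
    constructor
    · intro hx
      rw [Subgroup.sup_eq_closure] at hx
      induction hx using Subgroup.closure_induction with
      | mem w hw =>
        rcases hw with hw | hw
        · exact Or.inl hw
        · obtain ⟨k, rfl⟩ := Subgroup.mem_zpowers_iff.mp hw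
          rcases Int.even_or_odd' k with ⟨l, rfl | rfl⟩
          · left
            rw [zpow_mul, zpow_two]
            exact zpow_mem hz2.1 l
          · right
            rw [zpow_add_one, zpow_mul, zpow_two, mul_inv_cancel_right]
            exact zpow_mem hz2.1 l
      | one => exact Or.inl (one_mem _)
      | mul a b _ _ iha ihb =>
        rcases iha with ha | ha <;> rcases ihb with hb | hb
        · exact Or.inl (mul_mem ha hb)
        · exact Or.inr (by rw [mul_assoc]; exact mul_mem ha hb)
        · refine Or.inr ?_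
          have := mul_mem ha hb
          rw [mul_assoc, show z⁻¹ * b = b * z⁻¹ from
            (show Commute z b from hcomm b hb).inv_left, ← mul_assoc] at this
          exact this
        · refine Or.inl ?_
          have := mul_mem (mul_mem ha hb) hz2.1
          have hcb : z⁻¹ * (b * z⁻¹) = (b * z⁻¹) * z⁻¹ := (show Commute z (b * z⁻¹) from hcomm _ hb).inv_left
          rw [show a * b = (a * z⁻¹) * (b * z⁻¹) * (z * z) by
            rw [mul_assoc a z⁻¹ (b * z⁻¹), hcb]; group]
          exact this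
      | inv a _ iha =>
        rcases iha with ha | ha
        · exact Or.inl (inv_mem ha)
        · refine Or.inr ?_
          have := mul_mem (inv_mem ha) (inv_mem hz2.1)
          have hcb : z⁻¹ * (a * z⁻¹)⁻¹ = (a * z⁻¹)⁻¹ * z⁻¹ :=
            (show Commute z (a * z⁻¹)⁻¹ from hcomm _ (inv_mem ha)).inv_left
          rw [show a⁻¹ * z⁻¹ = (a * z⁻¹)⁻¹ * (z * z)⁻¹ from
            calc a⁻¹ * z⁻¹ = z⁻¹ * (a * z⁻¹)⁻¹ * z⁻¹ := by group
              _ = (a * z⁻¹)⁻¹ * (z * z)⁻¹ := by rw [hcb]; group]
          exact this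
    · rintro (hx | hx)
      · exact Subgroup.mem_sup_left hx
      · have := mul_mem (Subgroup.mem_sup_left (T := Subgroup.zpowers z) hx)
          (Subgroup.mem_sup_right (S := W) (Subgroup.mem_zpowers z))
        rwa [inv_mul_cancel_right] at this

/-- Every sufficiently large subgroup contains a member of a level. -/
theorem reach [Finite A] (M : Model val rows cents) {elem : Bool} :
    ∀ (ls : List (List (List ℕ))) (cur : List (List ℕ)) (k : ℕ),
      levelsOk elem (ents rows cents) cur k ls = true →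
      (∀ H ∈ cur, H.length ≤ 2 ^ k ∧ ∀ i ∈ H, i < 256) →
      ∀ Z : Subgroup A, Z ≤ M.syl → (∀ a ∈ Z, ∀ b ∈ Z, a * b = b * a) →
      (elem = true → ∀ a ∈ Z, a * a = 1) → 2 ^ (k + ls.length) ≤ Nat.card ↥Z →
      ∀ H ∈ cur, Holds val Z H → ∃ K ∈ ls.getLastD cur, Holds val Z K
  | [], cur, k, _, _, Z, _, _, _, _, H, hH, hh => ⟨H, hH, hh⟩
  | nxt :: rest, cur, k, hok, hb, Z, hZ, hab, hexp, hcard, H, hH, hh => by
    simp only [levelsOk, Bool.and_eq_true, List.all_eq_true, Nat.ble_eq, Nat.blt_eq] at hok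
    obtain ⟨⟨h1, h2⟩, h3⟩ := hok
    have hlt : H.length < Nat.card ↥Z := by
      refine lt_of_lt_of_le ((hb H hH).1.trans_lt ?_) hcard
      exact Nat.pow_lt_pow_right (by norm_num) (by simp)
    obtain ⟨K, hK, hKh⟩ := step M h1 hZ hab hexp hH (hb H hH).2 hlt hh
    obtain ⟨K', hK', hK'h⟩ := reach M rest nxt (k + 1) h3 h2 Z hZ hab hexp
      (by rwa [List.length_cons, ← Nat.add_assoc, Nat.add_right_comm] at hcard) K hK hKh
    refine ⟨K', ?_, hK'h⟩
    rw [List.getLastD_cons]
    exact hK'

theorem reach_top [Finite A] (M : Model val rows cents) {elem : Bool} {ls : List (List (List ℕ))}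
    (hok : levelsOk elem (ents rows cents) [[0]] 0 ls = true)
    (Z : Subgroup A) (hZ : Z ≤ M.syl) (hab : ∀ a ∈ Z, ∀ b ∈ Z, a * b = b * a)
    (hexp : elem = true → ∀ a ∈ Z, a * a = 1) (hcard : 2 ^ ls.length ≤ Nat.card ↥Z) :
    ∃ K ∈ ls.getLastD [[0]], Holds val Z K := by
  refine reach M ls [[0]] 0 hok (fun H hH => ?_) Z hZ hab hexp (by rwa [Nat.zero_add]) [0]
    (List.mem_singleton_self _) ⟨⊥, bot_le, ?_⟩
  · rw [List.mem_singleton] at hH
    subst hH
    simp
  · ext x
    simp [M.one]

/-- Subgroups with centralisers of the subgroups in a last level abelian are abelian. -/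
theorem comm_of_centAbel [Finite A] (M : Model val rows cents) {L : List (List ℕ)}
    (hok : centAbelOk (ents rows cents) L = true) (hb : ∀ H ∈ L, ∀ i ∈ H, i < 256)
    {Z : Subgroup A} {K : List ℕ} (hK : K ∈ L) (hh : Holds val Z K) {x y : A}
    (hx : x ∈ M.syl) (hy : y ∈ M.syl) (hxZ : ∀ a ∈ Z, x * a = a * x) (hyZ : ∀ a ∈ Z, y * a = a * y) :
    x * y = y * x := by
  obtain ⟨W, hWZ, hW⟩ := hh
  obtain ⟨i, hi, rfl⟩ := hx
  obtain ⟨j, hj, rfl⟩ := hy
  simp only [centAbelOk, List.all_eq_true, forceNat_eq, Bool.or_eq_true, Bool.not_eq_true',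
    Nat.beq_eq, land_eq_iff] at hok
  have key : ∀ l < 256, (∀ a ∈ Z, val l * a = a * val l) →
      (maskOf (((ents rows cents).filter fun e => Nat.beq (Nat.land (maskOf K) e.2.2) (maskOf K)).map
        Prod.fst)).testBit l = true := by
    intro l hl hlZ
    rw [testBit_maskOf]
    refine List.mem_map.mpr ⟨_, List.mem_filter.mpr ⟨M.ent hl, ?_⟩, rfl⟩
    simp only [Nat.beq_eq, land_eq_iff, testBit_maskOf]
    intro h hh
    refine (M.cent_iff hl).mpr ⟨hb K hK h hh, hlZ _ (hWZ ?_)⟩
    rw [← SetLike.mem_coe, hW]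
    exact ⟨h, hh, rfl⟩
  rcases hok K hK _ (M.ent hi) with h | h
  · exact absurd (key i hi hxZ) (by rw [h]; simp)
  · exact ((M.cent_iff hi).mp (h j (key j hj hyZ))).2

end Model

end Cfsg.Agent.Lib.J4Local.SylTable
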