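import Cfsg.Agent.Lib.LargeExtraspecial.Basic

/-!
# Counting in an extraspecial 2-group seen from the ambient group

Orthogonal subgroups have complementary orders, the number of elements of square one is bounded,
and subgroups invariant under a fixed-point-free element of order three have odd 2-exponent.
-/

set_option autoImplicit false

namespace Cfsg.Agent.Lib.J4Local.ESCount

open Cfsg.Agent.Lib.LargeExtraspecial.Basic

variable {G : Type*} [Group G]

/-- The sign attached to a value in `ZMod 2`. -/
def sgn (a : ZMod 2) : ℤ := if a = 0 then 1 else -1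

theorem sgn_add : ∀ a b : ZMod 2, sgn (a + b) = sgn a * sgn b := by decide

theorem sgn_one : sgn 1 = -1 := by decide

theorem sgn_zero : sgn 0 = 1 := by decide

theorem zmod_two : ∀ a : ZMod 2, a ≠ 0 → a = 1 := by decide

/-- A character sum over a subgroup. -/
theorem sum_sgn [Finite G] {S : Subgroup G} [Fintype ↥S] (f : G → ZMod 2)
    (hf : ∀ a ∈ S, ∀ b ∈ S, f (a * b) = f a + f b) {a : G} (ha : a ∈ S) (hfa : f a ≠ 0) :
    ∑ x : ↥S, sgn (f x) = 0 := by
  have h : ∑ x : ↥S, sgn (f x) = ∑ x : ↥S, sgn (f ((⟨a, ha⟩ : ↥S) * x : ↥S)) :=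
    (Fintype.sum_equiv (Equiv.mulLeft (⟨a, ha⟩ : ↥S)) _ _ (fun _ => rfl)).symm
  have h2 : ∀ x : ↥S, sgn (f ((⟨a, ha⟩ : ↥S) * x : ↥S)) = -sgn (f x) := fun x => by
    rw [Subgroup.coe_mul, hf a ha x x.2, sgn_add, zmod_two _ hfa, sgn_one, neg_one_mul]
  simp only [h2, Finset.sum_neg_distrib] at h
  omega

variable {P : Subgroup G} {z : G}

theorem z_cases [Finite G] (h : ES P z) {e : G} (he : e ∈ P) (hc : ∀ p ∈ P, chi p e = 0) :
    e = 1 ∨ e = z :=
  h.center e he fun p hp => chi_eq_zero.mp (hc p hp)

theorem chi_one_right (_h : ES P z) {e : G} (_he : e ∈ P) : chi e 1 = 0 :=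
  chi_eq_zero.mpr (Commute.one_right e)

/-- The orthogonal of a subgroup containing the centre has complementary order. -/
theorem card_perp [Finite G] (h : ES P z) {S : Subgroup G} (hS : S ≤ P) (hz : z ∈ S) :
    Nat.card ↥(P ⊓ Subgroup.centralizer (S : Set G)) * Nat.card ↥S = 2 * Nat.card ↥P := by
  classical
  have := Fintype.ofFinite G
  have row : ∀ e : ↥P, ∑ s : ↥S, sgn (chi (e : G) (s : G)) =
      if (e : G) ∈ Subgroup.centralizer (S : Set G) then (Nat.card ↥S : ℤ) else 0 := by
    intro e
    split_ifs with hc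
    · have : ∀ s : ↥S, sgn (chi (e : G) (s : G)) = 1 := fun s => by
        rw [chi_eq_zero.mpr ((Subgroup.mem_centralizer_iff.mp hc s s.2).symm : Commute (e : G) s),
          sgn_zero]
      simp [this, Nat.card_eq_fintype_card]
    · rw [Subgroup.mem_centralizer_iff] at hc
      push Not at hc
      obtain ⟨s, hs, hne⟩ := hc
      refine sum_sgn (fun x => chi (e : G) x)
        (fun a ha b hb => h.chi_mul_right e.2 (hS ha) (hS hb)) hs fun h0 => hne ?_
      exact (chi_eq_zero.mp h0).eq.symm
  have col : ∀ s : ↥S, ∑ e : ↥P, sgn (chi (e : G) (s : G)) =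
      if (s : G) = 1 ∨ (s : G) = z then (Nat.card ↥P : ℤ) else 0 := by
    intro s
    split_ifs with hc
    · have : ∀ e : ↥P, sgn (chi (e : G) (s : G)) = 1 := fun e => by
        rcases hc with hc | hc
        · rw [hc, chi_one_right h e.2, sgn_zero]
        · rw [hc, h.chi_center_right e.2, sgn_zero]
      simp [this, Nat.card_eq_fintype_card]
    · push Not at hc
      obtain ⟨q, hq, hqs⟩ : ∃ q ∈ P, chi q (s : G) ≠ 0 := by
        by_contra hall
        push Not at hall
        rcases z_cases h (hS s.2) hall with h1 | h1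
        · exact hc.1 h1
        · exact hc.2 h1
      exact sum_sgn (fun x => chi x (s : G))
        (fun a ha b hb => h.chi_mul_left ha hb (hS s.2)) hq hqs
  have tot := Finset.sum_comm (s := (Finset.univ : Finset ↥P)) (t := (Finset.univ : Finset ↥S))
    (f := fun e s => sgn (chi (e : G) (s : G)))
  simp only [row, col, Finset.sum_ite, Finset.sum_const_zero, add_zero, Finset.sum_const,
    nsmul_eq_mul] at tot
  have c1 : (Finset.univ.filter fun e : ↥P => (e : G) ∈ Subgroup.centralizer (S : Set G)).card =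
      Nat.card ↥(P ⊓ Subgroup.centralizer (S : Set G)) := by
    rw [← Fintype.card_subtype, ← Nat.card_eq_fintype_card]
    exact Nat.card_congr
      ⟨fun x => ⟨x.1.1, x.1.2, x.2⟩, fun x => ⟨⟨x.1, x.2.1⟩, x.2.2⟩, fun _ => rfl, fun _ => rfl⟩
  have c2 : (Finset.univ.filter fun s : ↥S => (s : G) = 1 ∨ (s : G) = z) =
      {(1 : ↥S), ⟨z, hz⟩} := by
    ext s
    simp only [Finset.mem_filter, Finset.mem_univ, true_and, Finset.mem_insert,
      Finset.mem_singleton]
    exact or_congr (OneMemClass.coe_eq_one) ⟨fun hh => Subtype.ext hh, fun hh => congrArg Subtype.val hh⟩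
  have c2' : ({(1 : ↥S), ⟨z, hz⟩} : Finset ↥S).card = 2 := by
    rw [Finset.card_pair]
    intro h1
    exact h.ne (congrArg Subtype.val h1).symm
  rw [c1, c2, c2'] at tot
  exact_mod_cast tot

/-- The sign of the square of an element. -/
noncomputable def sqs (e : G) : ℤ :=
  haveI := Classical.propDecidable (e * e = 1)
  if e * e = 1 then 1 else -1

theorem sq_mul (h : ES P z) {e f : G} (he : e ∈ P) (hf : f ∈ P) :
    sqs (e * f) = sqs e * sqs f * sgn (chi e f) := by
  have hzz : z * z = 1 := h.sq
  have key : e * f * (e * f) = (e * e) * (f * f) * (if chi e f = 0 then 1 else z) := by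
    rcases h.conj f hf e he with hc | hc
    · have hcom : Commute e f := (mul_inv_eq_iff_eq_mul.mp hc).symm
      rw [if_pos (chi_eq_zero.mpr hcom), mul_one]
      exact hcom.symm.mul_mul_mul_comm e f
    · have hne : chi e f ≠ 0 := fun h0 => by
        rw [mul_inv_eq_iff_eq_mul.mpr (chi_eq_zero.mp h0).symm.eq] at hc
        exact h.ne (by simpa using hc.symm)
      rw [if_neg hne]
      have hfe : f * e = e * z * f := mul_inv_eq_iff_eq_mul.mp hc
      have hfz : z * f = f * z := (h.comm f hf).symm.eq
      calc e * f * (e * f) = e * (f * e) * f := by group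
        _ = e * (e * z * f) * f := by rw [hfe]
        _ = (e * e) * (z * f) * f := by group
        _ = (e * e) * (f * z) * f := by rw [hfz]
        _ = (e * e) * f * (z * f) := by group
        _ = (e * e) * f * (f * z) := by rw [hfz]
        _ = (e * e) * (f * f) * z := by group
  have hz1 : z ≠ 1 := h.ne
  unfold sqs sgn
  rw [key]
  rcases h.sq_cases he with a | a <;> rcases h.sq_cases hf with b | b <;>
    by_cases hc : chi e f = 0 <;> simp [a, b, hc, hzz, hz1]

/-- At most half plus `√(|P|/2)` elements have square one. -/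
theorem sq_count [Finite G] (h : ES P z) :
    (2 * (Nat.card {e : ↥P // (e : G) * e = 1} : ℤ) - Nat.card ↥P) ^ 2 =
      2 * Nat.card ↥P := by
  classical
  have := Fintype.ofFinite G
  have hS : ∑ e : ↥P, sqs (e : G) =
      2 * (Nat.card {e : ↥P // (e : G) * e = 1} : ℤ) - Nat.card ↥P := by
    have e1 : ∀ e : ↥P, sqs (e : G) = 2 * (if (e : G) * e = 1 then 1 else 0) - 1 := fun e => by
      unfold sqs
      split_ifs <;> norm_num
    simp only [e1, Finset.sum_sub_distrib, ← Finset.mul_sum, Finset.sum_boole,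
      Nat.card_eq_fintype_card, Finset.sum_const, Finset.card_univ, nsmul_eq_mul, mul_one,
      Fintype.card_subtype]
  have inner : ∀ f : ↥P, ∑ e : ↥P, sqs (e : G) * sqs ((e : G) * f) =
      if (f : G) = 1 ∨ (f : G) = z then (Nat.card ↥P : ℤ) else 0 := by
    intro f
    have e1 : ∀ e : ↥P, sqs (e : G) * sqs ((e : G) * f) = sqs (f : G) * sgn (chi (e : G) (f : G)) := by
      intro e
      have hh : sqs (e : G) * sqs (e : G) = 1 := by unfold sqs; split_ifs <;> norm_num
      rw [sq_mul h e.2 f.2, ← mul_assoc, ← mul_assoc, hh, one_mul]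
    simp only [e1, ← Finset.mul_sum]
    split_ifs with hc
    · have h1 : ∀ e : ↥P, sgn (chi (e : G) (f : G)) = 1 := fun e => by
        rcases hc with hc | hc
        · rw [hc, chi_one_right h e.2, sgn_zero]
        · rw [hc, h.chi_center_right e.2, sgn_zero]
      have h2 : sqs (f : G) = 1 := by
        rcases hc with hc | hc <;> simp [sqs, hc, h.sq]
      simp [h1, h2, Nat.card_eq_fintype_card]
    · push Not at hc
      obtain ⟨q, hq, hqs⟩ : ∃ q ∈ P, chi q (f : G) ≠ 0 := by
        by_contra hall
        push Not at hall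
        rcases z_cases h f.2 hall with h1 | h1
        · exact hc.1 h1
        · exact hc.2 h1
      rw [sum_sgn (fun x => chi x (f : G)) (fun a ha b hb => h.chi_mul_left ha hb f.2) hq hqs,
        mul_zero]
  have sq : (∑ e : ↥P, sqs (e : G)) ^ 2 = 2 * Nat.card ↥P := by
    rw [pow_two, Finset.sum_mul_sum]
    have : ∀ e : ↥P, ∑ f : ↥P, sqs (e : G) * sqs (f : G) =
        ∑ f : ↥P, sqs (e : G) * sqs ((e : G) * f) := fun e =>
      (Fintype.sum_equiv (Equiv.mulLeft e) (fun f => sqs (e : G) * sqs ((e : G) * f))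
        (fun f : ↥P => sqs (e : G) * sqs (f : G)) (fun _ => rfl)).symm
    simp only [this]
    rw [Finset.sum_comm]
    simp only [inner, Finset.sum_ite, Finset.sum_const_zero, add_zero, Finset.sum_const,
      nsmul_eq_mul]
    have c2 : (Finset.univ.filter fun s : ↥P => (s : G) = 1 ∨ (s : G) = z) =
        {(1 : ↥P), ⟨z, h.mem⟩} := by
      ext s
      simp only [Finset.mem_filter, Finset.mem_univ, true_and, Finset.mem_insert,
        Finset.mem_singleton]
      exact or_congr (OneMemClass.coe_eq_one) ⟨fun hh => Subtype.ext hh, fun hh => congrArg Subtype.val hh⟩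
    rw [c2, Finset.card_pair (fun h1 => h.ne (congrArg Subtype.val h1).symm)]
    norm_num
  rw [← hS]
  exact sq

end Cfsg.Agent.Lib.J4Local.ESCount
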