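import Cfsg.Agent.Lib.J4Local.Facts
import Cfsg.Agent.S2062
import Cfsg.Agent.Lib.Golay.Simple

/-!
# Aut M22 as the stabiliser of a duad in M24

`big` is the setwise stabiliser in M24 of the two points `none`, `some 0`; conjugation gives
`toAut : ↥big ≃* AutM22`, and the inner automorphisms are the elements fixing `none`.
-/

set_option autoImplicit false
set_option linter.style.haveILetI false

namespace Cfsg.Agent.Lib.J4Local.AutModel

open Cfsg Cfsg.Agent.Lib.Golay Cfsg.Agent.Lib.Computation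

/-- The stabiliser of the duad in the group of the code. -/
def big : Subgroup (Equiv.Perm GolayPt) where
  carrier := {g | g ∈ M24 ∧ ((g none = none ∧ g (some 0) = some 0) ∨ (g none = some 0 ∧ g (some 0) = none))}
  one_mem' := ⟨one_mem _, Or.inl ⟨rfl, rfl⟩⟩
  mul_mem' := by
    rintro a b ⟨ha, ha'⟩ ⟨hb, hb'⟩
    refine ⟨mul_mem ha hb, ?_⟩
    simp only [Equiv.Perm.mul_apply]
    rcases ha' with ⟨a1, a2⟩ | ⟨a1, a2⟩ <;> rcases hb' with ⟨b1, b2⟩ | ⟨b1, b2⟩ <;>
      simp [a1, a2, b1, b2]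
  inv_mem' := by
    rintro a ⟨ha, ha'⟩
    refine ⟨inv_mem ha, ?_⟩
    simp only [Equiv.Perm.inv_eq_iff_eq]
    rcases ha' with ⟨a1, a2⟩ | ⟨a1, a2⟩ <;> simp [a1, a2]

theorem mem_big {g : Equiv.Perm GolayPt} : g ∈ big ↔ g ∈ M24 ∧
    ((g none = none ∧ g (some 0) = some 0) ∨ (g none = some 0 ∧ g (some 0) = none)) := Iff.rfl

theorem mem_m22 {g : Equiv.Perm GolayPt} :
    g ∈ Spor.M22 ↔ g ∈ M24 ∧ g none = none ∧ g (some 0) = some 0 :=
  ⟨fun h => ⟨h.1.1, h.1.2, h.2⟩, fun h => ⟨⟨h.1, h.2.1⟩, h.2.2⟩⟩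

theorem m22_le : Spor.M22 ≤ big := fun _ h => ⟨(mem_m22.mp h).1, Or.inl (mem_m22.mp h).2⟩

theorem mem_m22_iff {g : Equiv.Perm GolayPt} (hg : g ∈ big) : g ∈ Spor.M22 ↔ g none = none := by
  refine ⟨fun h => (mem_m22.mp h).2.1, fun h => mem_m22.mpr ⟨hg.1, h, ?_⟩⟩
  rcases hg.2 with ⟨-, h2⟩ | ⟨h1, -⟩
  · exact h2
  · rw [h] at h1
    exact absurd h1 (Option.some_ne_none _).symm

theorem conj_mem {g m : Equiv.Perm GolayPt} (hg : g ∈ big) (hm : m ∈ Spor.M22) :
    g * m * g⁻¹ ∈ Spor.M22 := by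
  have hb : g * m * g⁻¹ ∈ big := mul_mem (mul_mem hg (m22_le hm)) (inv_mem hg)
  rw [mem_m22_iff hb, Equiv.Perm.mul_apply, Equiv.Perm.mul_apply]
  obtain ⟨-, m1, m2⟩ := mem_m22.mp hm
  have hi : g⁻¹ none = none ∨ g⁻¹ none = some 0 := by
    rcases (inv_mem hg : g⁻¹ ∈ big).2 with ⟨h, -⟩ | ⟨h, -⟩
    exacts [Or.inl h, Or.inr h]
  have hf : m (g⁻¹ none) = g⁻¹ none := by rcases hi with h | h <;> rw [h] <;> assumption
  rw [hf]
  exact Equiv.apply_symm_apply g none

/-- The automorphism induced by an element. -/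
def autOf (g : ↥big) : AutM22 where
  toFun m := ⟨g * m * (g : Equiv.Perm GolayPt)⁻¹, conj_mem g.2 m.2⟩
  invFun m := ⟨(g : Equiv.Perm GolayPt)⁻¹ * m * (g : Equiv.Perm GolayPt)⁻¹⁻¹, conj_mem (inv_mem g.2) m.2⟩
  left_inv m := Subtype.ext (by simp [mul_assoc])
  right_inv m := Subtype.ext (by simp [mul_assoc])
  map_mul' a b := Subtype.ext (by simp [mul_assoc])

/-- Conjugation as a homomorphism. -/
def autHom : ↥big →* AutM22 where
  toFun := autOf
  map_one' := MulEquiv.ext fun m => Subtype.ext (by simp [autOf])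
  map_mul' g h := MulEquiv.ext fun m => Subtype.ext (by simp [autOf, mul_assoc])

theorem autHom_apply (g : ↥big) (m : ↥Spor.M22) :
    (autHom g m : Equiv.Perm GolayPt) = g * m * (g : Equiv.Perm GolayPt)⁻¹ := rfl

theorem autHom_m22 (m : ↥Spor.M22) : autHom ⟨m, m22_le m.2⟩ = MulAut.conj m :=
  MulEquiv.ext fun _ => Subtype.ext (by simp [autHom_apply])

/-- The outer element. -/
def oCode : ℕ := OutTrivial.M22Cert.outer

theorem oCode_ok : (inM24 oCode && Nat.beq (getW 5 oCode 23) 0 && Nat.beq (getW 5 oCode 0) 23 &&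
    Nat.beq (mulP 24 5 oCode oCode) oneCode) = true := by decide +kernel

theorem oPerm_mem : gperm oCode ∈ big ∧ gperm oCode none = some 0 ∧
    gperm oCode * gperm oCode = 1 := by
  have h := oCode_ok
  simp only [Bool.and_eq_true, Nat.beq_eq] at h
  obtain ⟨⟨⟨h1, h2⟩, h3⟩, h4⟩ := h
  have hok := okCode_of_inM24 h1
  have e1 : gperm oCode none = some 0 := idx_injective (by
    rw [idx_gperm hok, show idx (none : GolayPt) = 23 from rfl, h2]; rfl)
  have e2 : gperm oCode (some 0) = none := idx_injective (by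
    rw [idx_gperm hok, show idx (some 0 : GolayPt) = 0 from rfl, h3]; rfl)
  refine ⟨⟨gperm_mem_M24 h1, Or.inr ⟨e1, e2⟩⟩, e1, ?_⟩
  rw [← gperm_mul hok hok, h4, gperm_oneCode]

theorem isSimple : IsSimpleGroup ↥Spor.M22 := Golay.isSimple_M22

theorem center_eq_bot : Subgroup.center ↥Spor.M22 = ⊥ := by
  haveI := isSimple
  rcases Subgroup.Normal.eq_bot_or_eq_top (inferInstance : (Subgroup.center ↥Spor.M22).Normal) with
    h | h
  · exact h
  · exfalso
    have hx : OutTrivial.M22Cert.data.spec.mem OutTrivial.M22Cert.data.x = true ∧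
        OutTrivial.M22Cert.data.spec.mem OutTrivial.M22Cert.data.s = true ∧
        (Nat.beq (mulP 24 5 OutTrivial.M22Cert.data.x OutTrivial.M22Cert.data.s)
          (mulP 24 5 OutTrivial.M22Cert.data.s OutTrivial.M22Cert.data.x)) = false := by
      decide +kernel
    obtain ⟨hxm, hsm, hne⟩ := hx
    have hs : OutTrivial.M22Cert.data.spec.ok = true := by decide +kernel
    have mem : ∀ c, OutTrivial.M22Cert.data.spec.mem c = true → okCode c = true ∧ gperm c ∈ Spor.M22 := by
      intro c hc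
      obtain ⟨hok, hM, hfix, -⟩ := OutTrivial.Spec.mem_spec hs hc
      refine ⟨hok, mem_m22.mpr ⟨hM, idx_injective ?_, idx_injective ?_⟩⟩
      · exact hfix 23 (by decide +kernel)
      · exact hfix 0 (by decide +kernel)
    obtain ⟨hxo, hx'⟩ := mem _ hxm
    obtain ⟨hso, hs'⟩ := mem _ hsm
    have hc : (⟨_, hs'⟩ : ↥Spor.M22) * ⟨_, hx'⟩ = ⟨_, hx'⟩ * ⟨_, hs'⟩ :=
      Subgroup.mem_center_iff.mp (show (⟨_, hx'⟩ : ↥Spor.M22) ∈ Subgroup.center _ by rw [h]; trivial) _
    have hc' : gperm OutTrivial.M22Cert.data.s * gperm OutTrivial.M22Cert.data.x =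
        gperm OutTrivial.M22Cert.data.x * gperm OutTrivial.M22Cert.data.s := congrArg Subtype.val hc
    have hd : ∀ q, getW 5 (mulP 24 5 OutTrivial.M22Cert.data.x OutTrivial.M22Cert.data.s) (idx q) =
        getW 5 (mulP 24 5 OutTrivial.M22Cert.data.s OutTrivial.M22Cert.data.x) (idx q) := by
      intro q
      rw [← idx_gperm (okCode_mulP hxo hso), ← idx_gperm (okCode_mulP hso hxo), gperm_mul hxo hso,
        gperm_mul hso hxo, hc']
    have hfin : ((List.range 24).all fun i => Nat.beq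
        (getW 5 (mulP 24 5 OutTrivial.M22Cert.data.x OutTrivial.M22Cert.data.s) i)
        (getW 5 (mulP 24 5 OutTrivial.M22Cert.data.s OutTrivial.M22Cert.data.x) i)) = false := by
      decide +kernel
    rw [← Bool.not_eq_true, List.all_eq_true] at hfin
    exact hfin fun i hi => by
      have := hd (pt i)
      rw [idx_pt (List.mem_range.mp hi)] at this
      rw [this, Nat.beq_refl]

theorem intertwine_empty : OutTrivial.searchOk OutTrivial.M22Cert.data.spec OutTrivial.M22Cert.data.x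
    (OutTrivial.cpow OutTrivial.M22Cert.data.x 10) [] OutTrivial.M22Cert.data.lx = true := by
  decide +kernel

theorem outer_relation : (Nat.beq (OutTrivial.cmul oCode OutTrivial.M22Cert.data.x)
    (OutTrivial.cmul (OutTrivial.cpow OutTrivial.M22Cert.data.x 10) oCode) &&
    okCode (OutTrivial.cpow OutTrivial.M22Cert.data.x 10)) = true := by
  decide +kernel

theorem autHom_injective : Function.Injective autHom := by
  rw [injective_iff_map_eq_one]
  intro g hg
  have hc : ∀ m ∈ Spor.M22, (g : Equiv.Perm GolayPt) * m = m * g := by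
    intro m hm
    have h := congrArg (fun φ : AutM22 => ((φ ⟨m, hm⟩ : ↥Spor.M22) : Equiv.Perm GolayPt)) hg
    simp only [autHom_apply, MulAut.one_apply] at h
    exact mul_inv_eq_iff_eq_mul.mp h
  by_cases hn : (g : Equiv.Perm GolayPt) none = none
  · have hm : (g : Equiv.Perm GolayPt) ∈ Spor.M22 := (mem_m22_iff g.2).mpr hn
    have : (⟨g, hm⟩ : ↥Spor.M22) ∈ Subgroup.center ↥Spor.M22 :=
      Subgroup.mem_center_iff.mpr fun k => Subtype.ext (hc k k.2).symm
    rw [center_eq_bot, Subgroup.mem_bot] at this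
    exact Subtype.ext (congrArg Subtype.val this :)
  · exfalso
    obtain ⟨ho, ho1, ho2⟩ := oPerm_mem
    set o := gperm oCode
    have hom : o * g ∈ Spor.M22 := by
      refine (mem_m22_iff (mul_mem ho g.2)).mpr ?_
      rcases g.2.2 with ⟨h, -⟩ | ⟨h, -⟩
      · exact absurd h hn
      · rw [Equiv.Perm.mul_apply, h]
        rw [← ho1, ← Equiv.Perm.mul_apply, ho2]; rfl
    have hr := outer_relation
    simp only [Bool.and_eq_true, Nat.beq_eq] at hr
    have hs : OutTrivial.M22Cert.data.spec.ok = true := by decide +kernel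
    have hxm : OutTrivial.M22Cert.data.spec.mem OutTrivial.M22Cert.data.x = true := by decide +kernel
    obtain ⟨hxo, hxM, hxfix, -⟩ := OutTrivial.Spec.mem_spec hs hxm
    have hxK : gperm OutTrivial.M22Cert.data.x ∈ Spor.M22 := mem_m22.mpr ⟨hxM,
      idx_injective (hxfix 23 (by decide +kernel)), idx_injective (hxfix 0 (by decide +kernel))⟩
    have hoo : okCode oCode = true := by decide +kernel
    have hrel : o * gperm OutTrivial.M22Cert.data.x =
        gperm (OutTrivial.cpow OutTrivial.M22Cert.data.x 10) * o := by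
      rw [← gperm_mul hoo hxo, ← gperm_mul hr.2 hoo]
      exact congrArg gperm hr.1
    obtain ⟨m1, m2, m3⟩ := mem_m22.mp hom
    have hholds : OutTrivial.M22Cert.data.spec.Holds (o * g) := by
      refine ⟨m1, fun i hi => ?_, fun m hm => ?_⟩
      · simp only [OutTrivial.M22Cert.data, List.mem_cons, List.not_mem_nil, or_false] at hi
        rcases hi with rfl | rfl
        · rw [show pt 23 = none from rfl, m2]; rfl
        · rw [show pt 0 = some 0 from rfl, m3]; rfl
      · simp [OutTrivial.M22Cert.data] at hm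
    obtain ⟨u, hu, -⟩ := OutTrivial.searchOk_spec intertwine_empty hholds
      (by rw [mul_assoc, hc _ hxK, ← mul_assoc, hrel, mul_assoc])
    exact List.not_mem_nil hu

theorem card_autM22 : Nat.card AutM22 = 887040 := by
  have h : Nat.card (Cfsg.Out ↥Spor.M22) = 2 := Cfsg.Agent.S2062.result
  rw [Subgroup.card_eq_card_quotient_mul_card_subgroup (Cfsg.Inn ↥Spor.M22)]
  have hinj : Function.Injective (MulAut.conj : ↥Spor.M22 →* AutM22) := by
    rw [← MonoidHom.ker_eq_bot_iff, eq_bot_iff, ← center_eq_bot]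
    intro x hx
    rw [MonoidHom.mem_ker] at hx
    refine Subgroup.mem_center_iff.mpr fun k => ?_
    have := DFunLike.congr_fun hx k
    simp only [MulAut.conj_apply, MulAut.one_apply] at this
    exact (mul_inv_eq_iff_eq_mul.mp this).symm
  rw [show Nat.card ↥(Cfsg.Inn ↥Spor.M22) = 443520 by
    rw [← Golay.card_spor_M22]
    exact (Nat.card_congr (MonoidHom.ofInjective hinj).toEquiv).symm]
  rw [show Nat.card (AutM22 ⧸ Cfsg.Inn ↥Spor.M22) = 2 from h]

theorem autHom_surjective : Function.Surjective autHom := by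
  intro φ
  obtain ⟨ho, ho1, -⟩ := oPerm_mem
  have hsub : (Cfsg.Inn ↥Spor.M22) ≤ autHom.range := by
    rintro _ ⟨m, rfl⟩
    exact ⟨_, autHom_m22 m⟩
  have hidx : (Cfsg.Inn ↥Spor.M22).index = 2 := Cfsg.Agent.S2062.result
  have hno : autHom ⟨_, ho⟩ ∉ Cfsg.Inn ↥Spor.M22 := by
    rintro ⟨m, hm⟩
    rw [← autHom_m22] at hm
    have := congrArg (fun g : ↥big => (g : Equiv.Perm GolayPt) none) (autHom_injective hm)
    simp only at this
    rw [ho1, (mem_m22.mp m.2).2.1] at this
    exact (Option.some_ne_none _ this.symm)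
  by_cases hφ : φ ∈ Cfsg.Inn ↥Spor.M22
  · exact hsub hφ
  · have := (Subgroup.mul_mem_iff_of_index_two hidx (a := autHom ⟨_, ho⟩) (b := φ)).mpr
      (by simp [hno, hφ])
    have h2 := mul_mem (autHom.range.inv_mem ⟨_, rfl⟩ : (autHom ⟨_, ho⟩)⁻¹ ∈ autHom.range) (hsub this)
    simpa using h2

/-- Conjugation identifies the duad stabiliser with the automorphism group. -/
noncomputable def toAut : ↥big ≃* AutM22 :=
  MulEquiv.ofBijective autHom ⟨autHom_injective, autHom_surjective⟩

theorem toAut_apply (g : ↥big) : toAut g = autHom g := rfl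

theorem toAut_mem_inn (g : ↥big) : toAut g ∈ inn ↔ (g : Equiv.Perm GolayPt) none = none := by
  rw [toAut_apply]
  constructor
  · rintro ⟨m, hm⟩
    rw [← autHom_m22] at hm
    rw [← autHom_injective hm]
    exact (mem_m22.mp m.2).2.1
  · exact fun h => ⟨⟨g, (mem_m22_iff g.2).mpr h⟩, by rw [← autHom_m22]⟩

/-- The test on codes. -/
def inBig (c : ℕ) : Bool :=
  inM24 c && ((Nat.beq (getW 5 c 23) 23 && Nat.beq (getW 5 c 0) 0) ||
    (Nat.beq (getW 5 c 23) 0 && Nat.beq (getW 5 c 0) 23))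

theorem inBig_spec {c : ℕ} (h : inBig c = true) : okCode c = true ∧ gperm c ∈ big := by
  simp only [inBig, Bool.and_eq_true, Bool.or_eq_true, Nat.beq_eq] at h
  have hok := okCode_of_inM24 h.1
  have key : ∀ (p q : GolayPt), getW 5 c (idx p) = idx q → gperm c p = q := fun p q e =>
    idx_injective (by rw [idx_gperm hok, e])
  refine ⟨hok, gperm_mem_M24 h.1, ?_⟩
  rcases h.2 with ⟨a, b⟩ | ⟨a, b⟩
  · exact Or.inl ⟨key none none a, key (some 0) (some 0) b⟩
  · exact Or.inr ⟨key none (some 0) a, key (some 0) none b⟩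

/-- An element of the model from a checked code. -/
noncomputable def el (c : ℕ) (h : inBig c = true) : ↥big := ⟨gperm c, (inBig_spec h).2⟩

end Cfsg.Agent.Lib.J4Local.AutModel
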