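import Cfsg.Agent.Lib.J4Local.ZeroB

/-!
# Class zero: an involution of `C(z) ∩ C(p)` other than `z` is conjugate to `z`
-/

set_option autoImplicit false
set_option linter.unusedSectionVars false
set_option linter.unusedVariables false

namespace Cfsg.Agent.Lib.J4Local

open Cfsg.Agent.Lib.LargeExtraspecial.Basic

variable {G : Type*} [Group G]

/-- A conjugate `u` of `z` outside `O₂` in the inner part at the neighbour `g z g⁻¹`. -/
structure Mid (z p g u : G) : Prop where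
  he : g * z * g⁻¹ ∈ Q z
  hne : g * z * g⁻¹ ≠ z
  hu : u ∈ xSub z p (g * z * g⁻¹)
  huQ : u ∉ Q z
  hc : IsConj z u

namespace Setting

variable [Finite G] {z p g u : G}

theorem exists_setting (S : Setting z p) {x : G} (hx : IsConj z x) : ∃ r, Setting x r := by
  obtain ⟨k, rfl⟩ := isConj_iff.mp hx
  exact ⟨_, S.conj k⟩

theorem p_conj_cube (S : Setting z p) (x : G) :
    p * (p * (p * x * p⁻¹) * p⁻¹) * p⁻¹ = x := by
  calc p * (p * (p * x * p⁻¹) * p⁻¹) * p⁻¹ = p ^ 3 * x * (p ^ 3)⁻¹ := by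
        rw [pow_succ, pow_two]; group
    _ = x := by rw [S.p_cube]; group

theorem modZ_symm (S : Setting z p) {a b : G} (h : ModZ z a b) : ModZ z b a := by
  rcases h with h | h
  · exact Or.inl h.symm
  · exact Or.inr (by rw [h, mul_assoc _ z z, S.z_sq, mul_one])

theorem inS_z_tri (S : Setting z p) (F : AutFacts) (hn : NoZero z p) (M : Mid z p g u)
    (htri : Tri p (g * z * g⁻¹)) : InS z u z := by
  by_contra hns
  obtain ⟨he, hne, hu, huQ, hc⟩ := M
  set e := g * z * g⁻¹ with hedef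
  have T : Setting e (g * p * g⁻¹) := S.conj g
  obtain ⟨⟨hue, huz⟩, hui⟩ := mem_xSub.mp hu
  obtain ⟨r, U⟩ := S.exists_setting hc
  have h2 : u * u = 1 := U.z_sq
  have huc : u ∈ cz z := mem_cz.mpr huz
  obtain ⟨t, ht, htu⟩ := (S.fSub_spec F T he hne htri).2 u hu
  have htX := S.tSub_le_xSub F T he hne ht.1
  have ht2 := S.tSub_sq F T he hne ht.1
  have htc : t ∈ cz z := xSub_le_cz htX
  have htQ : t ∉ Q z := fun h => huQ (by simpa using mul_mem h htu.1)
  have htp : Commute t p := mem_cz.mp ht.2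
  set d := t⁻¹ * u with hd
  have hdu : u = t * d := by rw [hd, mul_inv_cancel_left]
  have hd2 : d * d = 1 := S.sq_pair T hne htu
  have hmod : ∀ a ∈ Q z, ModZ z (u * a * u⁻¹) (t * a * t⁻¹) := by
    intro a ha
    rw [hdu, show t * d * a * (t * d)⁻¹ = t * (d * a * d⁻¹) * t⁻¹ by group]
    rcases S.conj_eq_of_mem htu.1 ha with h | h <;> rw [h]
    · exact Or.inl rfl
    · right
      rw [show t * (a * z) * t⁻¹ = t * a * t⁻¹ * (t * z * t⁻¹) by group,
        mul_inv_eq_iff_eq_mul.mpr (mem_cz.mp htc).eq]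
  have hA : aSub z u = aSub z t := le_antisymm (S.aSub_le_of_modZ huc htc hmod)
    (S.aSub_le_of_modZ htc huc fun a ha => S.modZ_symm (hmod a ha))
  have h32 := S.card_aSub_xSub F T he hne hu huQ
  have hY : Nat.card ↥(ySub z u) = 2 ^ 9 := by
    have := S.card_aSub_ySub huc
    rw [h32] at this
    omega
  have hYt : ySub z t = ySub z u := by simp only [ySub, hA]
  have hCt : cQ z t = ySub z t := by
    refine Subgroup.eq_of_le_of_card_ge (S.cQ_le_ySub htc) ?_
    have hinv : ∀ x ∈ cQ z t, p * x * p⁻¹ ∈ cQ z t := fun x hx => by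
      refine mem_cQ.mpr ⟨isQ.normal S.p_z (mem_cQ.mp hx).1, ?_⟩
      have h := (mem_cQ.mp hx).2.map (MulAut.conj p)
      simp only [MulAut.conj_apply] at h
      rwa [mul_inv_eq_iff_eq_mul.mpr htp.symm.eq] at h
    obtain ⟨k, hk, hcard⟩ := S.odd_exponent (X := cQ z t) inf_le_left (S.z_mem_cQ htc) hinv
    rcases S.card_cQ htc with h | ⟨h, -⟩
    · exact h.le
    · exfalso
      rw [hYt, hY, hcard] at h
      have h8 : 2 ^ k = 2 ^ 8 := by omega
      have := Nat.pow_right_injective (le_refl 2) h8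
      omega
  have hCu : cQ z u = ySub z u := by
    refine Subgroup.eq_of_le_of_card_ge (S.cQ_le_ySub huc) ?_
    rcases S.card_cQ huc with h | ⟨-, h⟩
    · exact h.le
    · exact absurd h hns
  have hdA : d ∈ aSub z u := by
    have hzY : z ∈ ySub z u := S.cQ_le_ySub huc (S.z_mem_cQ huc)
    have hp := ESCount.card_perp (S := ySub z u) S.es inf_le_left hzY
    rw [S.card_E, hY] at hp
    have heq : aSub z u = Q z ⊓ Subgroup.centralizer (ySub z u : Set G) := by
      refine Subgroup.eq_of_le_of_card_ge (fun a ha => ⟨S.aSub_le huc ha,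
        Subgroup.mem_centralizer_iff.mpr fun y hy => (commute_aSub_ySub ha hy).eq.symm⟩) ?_
      omega
    rw [heq]
    refine ⟨htu.1, Subgroup.mem_centralizer_iff.mpr fun y hy => ?_⟩
    have hy1 : Commute y u := (mem_cQ.mp (show y ∈ cQ z u by rw [hCu]; exact hy)).2
    have hy2 : Commute y t := (mem_cQ.mp (show y ∈ cQ z t by rw [hCt, hYt]; exact hy)).2
    exact (hy2.inv_right.mul_right hy1).eq
  have htz : Commute t z := mem_cz.mp htc
  rcases S.isConj_mul_aSub htc ht2 (hA ▸ hdA) with h | h <;> rw [← hdu] at h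
  · exact htQ (by rw [hn t htz htp (hc.trans h.symm)]; exact S.es.mem)
  · have hz2 := hn (t * z) (htz.mul_left (Commute.refl z)) (htp.mul_left S.p_z.symm)
      (hc.trans h.symm)
    have ht1 : t = 1 := by simpa using hz2
    exact htQ (ht1 ▸ one_mem _)

/-- `z` is a commutator `[u, e]`. -/
theorem inS_z (S : Setting z p) (F : AutFacts) (hn : NoZero z p) (M : Mid z p g u) :
    InS z u z := by
  obtain ⟨f, hf, htri⟩ := S.exists_tri F (S.conj g) M.he M.hne
  have heq : f * g * z * (f * g)⁻¹ = f * (g * z * g⁻¹) * f⁻¹ := by group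
  obtain ⟨⟨hue, huz⟩, hui⟩ := mem_xSub.mp M.hu
  have hfz : f * z * f⁻¹ = z := by rw [(isQ.commute hf).eq, mul_inv_cancel_right]
  have hfc : f ∈ cz z := Q_le_cz z hf
  have M' : Mid z p (f * g) (f * u * f⁻¹) := by
    refine ⟨?_, ?_, mem_xSub.mpr ⟨⟨?_, ?_⟩, mul_mem (mul_mem (S.Q_le_inner hf) hui)
      (inv_mem (S.Q_le_inner hf))⟩, fun h => M.huQ ?_, M.hc.trans (isConj_iff.mpr ⟨f, rfl⟩)⟩
    · rw [heq]; exact isQ.normal (isQ.commute hf) M.he
    · rw [heq]
      exact fun h => M.hne (mul_left_cancel (mul_right_cancel (h.trans hfz.symm)))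
    · rw [heq]; exact isQ.mem_conj f hue
    · have h := huz.map (MulAut.conj f)
      simp only [MulAut.conj_apply] at h
      rwa [hfz] at h
    · have := S.conj_mem' hfc h
      rwa [show f⁻¹ * (f * u * f⁻¹) * f = u by group] at this
  obtain ⟨e1, he1, h1⟩ := S.inS_z_tri F hn M' (by rw [heq]; exact htri)
  refine ⟨f⁻¹ * e1 * f, S.conj_mem' hfc he1, ?_⟩
  calc z = f⁻¹ * z * f := by rw [mul_assoc, ← (isQ.commute hf).eq, inv_mul_cancel_left]
    _ = _ := by rw [h1]; group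

/-- The orders and the covering of `[E,u]` by the conjugates of `[E,u] ∩ E_e`. -/
theorem middle_data (S : Setting z p) (F : AutFacts) (hn : NoZero z p) (M : Mid z p g u) :
    Nat.card ↥(aSub z u) = 2 ^ 5 ∧ Nat.card ↥(cQ z u) = 2 ^ 8 ∧
    (∀ a ∈ aSub z u, a ∈ Q (g * z * g⁻¹) ∨ p * a * p⁻¹ ∈ Q (g * z * g⁻¹) ∨
      p * (p * a * p⁻¹) * p⁻¹ ∈ Q (g * z * g⁻¹)) ∧ aSub z u ≤ cQ z u := by
  classical
  have hz := S.inS_z F hn M
  obtain ⟨he, hne, hu, huQ, hc⟩ := M
  set e := g * z * g⁻¹ with hedef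
  have T : Setting e (g * p * g⁻¹) := S.conj g
  obtain ⟨⟨hue, huz⟩, hui⟩ := mem_xSub.mp hu
  obtain ⟨r, U⟩ := S.exists_setting hc
  have h2 : u * u = 1 := U.z_sq
  have huc : u ∈ cz z := mem_cz.mpr huz
  have h32 := S.card_aSub_xSub F T he hne hu huQ
  have hY : Nat.card ↥(ySub z u) = 2 ^ 9 := by
    have := S.card_aSub_ySub huc
    rw [h32] at this
    omega
  have hC : Nat.card ↥(cQ z u) = 2 ^ 8 := by
    rcases S.card_cQ huc with h | ⟨h, -⟩
    · exfalso
      obtain ⟨y, hy, hyz⟩ := hz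
      have huy : u * y * u⁻¹ = y * z := by
        rw [S.z_comm hy]; exact mul_inv_eq_iff_eq_mul.mp hyz.symm
      have hyY : y ∈ ySub z u := (S.mem_ySub huc).mpr ⟨hy, Or.inr huy⟩
      have heq := Subgroup.eq_of_le_of_card_ge (S.cQ_le_ySub huc) h.le
      rw [← heq] at hyY
      rw [mul_inv_eq_iff_eq_mul.mpr (mem_cQ.mp hyY).2.symm.eq] at huy
      exact S.z_ne_one (by simpa using huy.symm)
    · omega
  have hze : z ∈ Q e := S.mem_swap F T he hne
  have hmz : ∀ {a b : G}, ModZ z a b → b ∈ Q e → a ∈ Q e := by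
    rintro a b (rfl | rfl) hb
    exacts [hb, mul_mem hb hze]
  have hkey : ∀ f ∈ cQ z e, u * f * u⁻¹ * f⁻¹ ∈ Q e := by
    intro f hf
    rw [show u * f * u⁻¹ * f⁻¹ = u * (f * u⁻¹ * f⁻¹) by group]
    exact mul_mem hue (isQ.normal (mem_cQ.mp hf).2 (inv_mem hue))
  have hprod : ∀ a ∈ aSub z u, ∀ b ∈ aSub z u, a ∉ Q e → b ∉ Q e → a * b ∈ Q e := by
    intro a ha b hb hae hbe
    obtain ⟨f1, hf1, m1⟩ := (S.mem_aSub huc).mp ha
    obtain ⟨f2, hf2, m2⟩ := (S.mem_aSub huc).mp hb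
    have c1 : chi f1 e = 1 := ESCount.zmod_two _ fun h0 =>
      hae (hmz m1 (hkey f1 (mem_cQ.mpr ⟨hf1, chi_eq_zero.mp h0⟩)))
    have c2 : chi f2 e = 1 := ESCount.zmod_two _ fun h0 =>
      hbe (hmz m2 (hkey f2 (mem_cQ.mpr ⟨hf2, chi_eq_zero.mp h0⟩)))
    have h12 : chi (f1 * f2) e = 0 := by
      rw [S.es.chi_mul_left hf1 hf2 he, c1, c2]; decide
    refine hmz (S.modZ_mul (S.comm_mem huc hf2) m1 m2) (hmz (S.modZ_symm (S.comm_mul huc hf1 hf2))
      (hkey _ (mem_cQ.mpr ⟨mul_mem hf1 hf2, chi_eq_zero.mp h12⟩)))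
  set L := line z p e with hLdef
  set B := aSub z u ⊓ Q e with hBdef
  have hB : 16 ≤ Nat.card ↥B := by
    by_cases hall : aSub z u ≤ Q e
    · rw [hBdef, inf_eq_left.mpr hall, h32]; norm_num
    · obtain ⟨a, ha, hae⟩ := SetLike.not_le_iff_exists.mp hall
      have hidx : (B.subgroupOf (aSub z u)).index ≤ 2 := by
        refine le_of_eq ?_
        rw [Subgroup.index_eq_two_iff]
        refine ⟨⟨a, ha⟩, fun b => ?_⟩
        simp only [Subgroup.mem_subgroupOf, Subgroup.coe_mul]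
        by_cases hb : (b : G) ∈ B
        · exact Or.inr ⟨hb, fun hh => hae ((Subgroup.mul_mem_cancel_left _ hb).mp hh).2⟩
        · exact Or.inl ⟨⟨mul_mem b.2 ha, hprod _ b.2 _ ha (fun h => hb ⟨b.2, h⟩) hae⟩, hb⟩
      have := two_le_card_of_index (inf_le_left : B ≤ aSub z u) hidx
      rw [h32, ← hBdef] at this
      omega
  have hinv : ∀ {x}, x ∈ aSub z u → p * x * p⁻¹ ∈ aSub z u := fun hx => S.aSub_invariant hui hx
  have hLinv : ∀ {x}, x ∈ L → p * x * p⁻¹ ∈ L := fun hx => S.line_invariant F T he hne hx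
  have hback : ∀ {x}, p * x * p⁻¹ ∈ L → x ∈ L := fun {x} hx => by
    have := hLinv (hLinv hx)
    rwa [S.p_conj_cube] at this
  have hinter : ∀ {x}, x ∈ aSub z u → x ∈ Q e → p * x * p⁻¹ ∈ Q e → x ∈ L := by
    intro x hx hxe hxe'
    have h := Subgroup.mem_inf.mpr (⟨⟨hxe', isQ.mem_conj p hxe⟩,
      isQ.normal S.p_z (S.aSub_le huc hx)⟩ : p * x * p⁻¹ ∈ tSub p e ∧ p * x * p⁻¹ ∈ Q z)
    rw [S.tSub_inf F T he hne] at h
    exact hback h
  have hcover : ∀ a ∈ aSub z u, a ∈ Q e ∨ p * a * p⁻¹ ∈ Q e ∨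
      p * (p * a * p⁻¹) * p⁻¹ ∈ Q e := by
    intro a ha
    by_contra hcon
    push Not at hcon
    obtain ⟨n0, n1, n2⟩ := hcon
    obtain ⟨b, hb, hbL⟩ : ∃ b ∈ B, b ∉ L := by
      by_contra h
      push Not at h
      have := Subgroup.card_le_of_le (show B ≤ L from h)
      rw [hLdef, S.card_line F T he hne] at this
      omega
    have hb1 : p * b * p⁻¹ ∉ Q e := fun h => hbL (hinter hb.1 hb.2 h)
    have hb2 : p * (p * b * p⁻¹) * p⁻¹ ∉ Q e := fun h => by
      have h3 := hinter (hinv (hinv hb.1)) h (by rw [S.p_conj_cube]; exact hb.2)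
      exact hbL (S.p_conj_cube b ▸ hLinv h3)
    have hm1 := hprod _ (hinv ha) _ (hinv hb.1) n1 hb1
    have hm2 := hprod _ (hinv (hinv ha)) _ (hinv (hinv hb.1)) n2 hb2
    rw [show p * a * p⁻¹ * (p * b * p⁻¹) = p * (a * b) * p⁻¹ by group] at hm1
    rw [show p * (p * a * p⁻¹) * p⁻¹ * (p * (p * b * p⁻¹) * p⁻¹) =
      p * (p * (a * b) * p⁻¹) * p⁻¹ by group] at hm2
    have h4 := hback (hinter (hinv (mul_mem ha hb.1)) hm1 hm2)
    exact n0 ((Subgroup.mul_mem_cancel_right _ hb.2).mp (S.line_le_inter F T he hne h4).2)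
  refine ⟨h32, hC, hcover, fun a ha => mem_cQ.mpr ⟨S.aSub_le huc ha,
    (S.commute_iff_sq huc h2 ha).mpr ?_⟩⟩
  have hsq : ∀ {x}, x ∈ Q z → x ∈ Q e → x * x = 1 := fun hx hxe => S.sq_pair T hne ⟨hx, hxe⟩
  have haQ := S.aSub_le huc ha
  have down : ∀ {x : G}, p * x * p⁻¹ * (p * x * p⁻¹) = 1 → x * x = 1 := fun {x} h => by
    rw [show p * x * p⁻¹ * (p * x * p⁻¹) = p * (x * x) * p⁻¹ by group] at h
    exact mul_left_cancel (mul_right_cancel (h.trans (by group : (1 : G) = p * 1 * p⁻¹)))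
  rcases hcover a ha with h | h | h
  · exact hsq haQ h
  · exact down (hsq (isQ.normal S.p_z haQ) h)
  · exact down (down (hsq (isQ.normal S.p_z (isQ.normal S.p_z haQ)) h))

/-- The middle is unique. -/
theorem unique_middle (S : Setting z p) (F : AutFacts) (hn : NoZero z p) (M : Mid z p g u)
    {x : G} (hxQ : x ∈ Q z) (hxz : x ≠ z) (hx : IsConj z x) (hux : u ∈ Q x) :
    x = g * z * g⁻¹ := by
  obtain ⟨-, -, hcover, -⟩ := S.middle_data F hn M
  obtain ⟨he, hne, hu, huQ, hc⟩ := M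
  set e := g * z * g⁻¹ with hedef
  set q := g * p * g⁻¹ with hqdef
  have T : Setting e q := S.conj g
  obtain ⟨⟨hue, huz⟩, hui⟩ := mem_xSub.mp hu
  have hze0 : IsConj z e := isConj_iff.mpr ⟨g, rfl⟩
  obtain ⟨rx, X⟩ := S.exists_setting hx
  have hxA : x ∈ aSub z u :=
    S.line_le_aSub F X hxQ hxz (mem_xSub.mpr ⟨⟨hux, huz⟩, hui⟩) huQ (e_mem_line z p x)
  have hconj : ∀ {y}, IsConj z y → IsConj z (p * y * p⁻¹) := fun h =>
    h.trans (isConj_iff.mpr ⟨p, rfl⟩)
  have hxL : x ∈ line z p e := by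
    rcases hcover x hxA with h | h | h
    · exact S.inter_class F hn he hne ⟨hxQ, h⟩ hx
    · have h1 := S.inter_class F hn he hne ⟨isQ.normal S.p_z hxQ, h⟩ (hconj hx)
      have := S.line_invariant F T he hne (S.line_invariant F T he hne h1)
      rwa [S.p_conj_cube] at this
    · have h1 := S.inter_class F hn he hne
        ⟨isQ.normal S.p_z (isQ.normal S.p_z hxQ), h⟩ (hconj (hconj hx))
      have := S.line_invariant F T he hne h1
      rwa [S.p_conj_cube] at this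
  by_contra hxe
  have hze := S.mem_swap F T he hne
  have hsym := S.line_symm F T he hne
  have hxe' : x ∈ line e q z := hsym.symm ▸ hxL
  have hLx := T.line_eq_of_mem F S hze (Ne.symm hne) X hxe' hxe
  obtain ⟨k, hk⟩ := isConj_iff.mp (hze0.symm.trans hx)
  have hxQe : k * e * k⁻¹ ∈ Q e := hk.symm ▸ (T.line_le_inter F S hze (Ne.symm hne) hxe').1
  have h := T.inter_class F (hn.conj g) hxQe (hk.symm ▸ hxe) (x := u)
    ⟨hue, hk.symm ▸ hux⟩ (hze0.symm.trans hc)
  rw [hk, hLx, hsym] at h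
  exact huQ ((S.line_le_inter F T he hne h).1)

/-- An element of `[E,u] ∩ E_u` outside `E_e`. -/
theorem exists_inter_aSub (S : Setting z p) (F : AutFacts) (hn : NoZero z p) (M : Mid z p g u) :
    ∃ f ∈ aSub z u, f ∈ Q u ∧ f ∉ Q (g * z * g⁻¹) := by
  obtain ⟨h32, hC, -, hAC⟩ := S.middle_data F hn M
  have hz := S.inS_z F hn M
  have huniq := fun {x : G} => S.unique_middle F hn M (x := x)
  obtain ⟨he, hne, hu, huQ, hc⟩ := M
  set e := g * z * g⁻¹ with hedef
  set q := g * p * g⁻¹ with hqdef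
  have T : Setting e q := S.conj g
  obtain ⟨⟨hue, huz⟩, hui⟩ := mem_xSub.mp hu
  have hze0 : IsConj z e := isConj_iff.mpr ⟨g, rfl⟩
  obtain ⟨r, U⟩ := S.exists_setting hc
  have h2 : u * u = 1 := U.z_sq
  have huc : u ∈ cz z := mem_cz.mpr huz
  have hune : u ≠ z := fun h => huQ (h ▸ S.es.mem)
  have hue' : u ≠ e := fun h => huQ (h ▸ he)
  have hzu : z ∉ Q u := fun h => huQ (U.mem_swap F S h (Ne.symm hune))
  by_contra hcon
  push Not at hcon
  have h12 : ∀ f, f ∈ (Q z ⊓ Q u) ⊓ aSub z u → f = 1 ∨ f = e := by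
    rintro f ⟨⟨hfz, hfu⟩, hfA⟩
    by_cases hf1 : f = 1
    · exact Or.inl hf1
    right
    have hfe : f ∈ Q e := hcon f hfA hfu
    obtain ⟨h, hh, hhu⟩ := isConj_of_inS h2 (S.inS_of_inS_z huc hz hfA)
    have heu : IsConj e u := hze0.symm.trans hc
    obtain ⟨k, hk⟩ := isConj_iff.mp heu
    have h1 := T.inter_class F (hn.conj g) (g := k) (hk.symm ▸ hue) (hk.symm ▸ hue') (x := u * f)
      ⟨mul_mem hue hfe, hk.symm ▸ mul_mem U.es.mem hfu⟩ (heu.trans (isConj_iff.mpr ⟨h, hhu⟩))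
    rw [hk] at h1
    have hfL : f ∈ line e q u := by
      simpa using mul_mem (inv_mem (e_mem_line e q u)) h1
    have hzf : IsConj z f := hze0.trans (T.line_class F U hue hue' heu hfL hf1)
    obtain ⟨rf, Fs⟩ := S.exists_setting hzf
    have hfne : f ≠ u := fun h => huQ (h ▸ hfz)
    exact huniq hfz (fun h => hzu (h ▸ hfu)) hzf (U.mem_swap F Fs hfu hfne)
  set P := Q z ⊓ Subgroup.centralizer (cQ z u : Set G) with hP
  set X := P ⊓ cQ z u with hX
  have hXc : ∀ x ∈ X, ∀ c ∈ cQ z u, Commute x c := fun x hx c hc =>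
    (Subgroup.mem_centralizer_iff.mp hx.1.2 c hc).symm
  have hcen := S.centre_img U (inf_le_right : X ≤ cQ z u) hXc
  have hPcard : Nat.card ↥P = 2 ^ 6 := by
    have := S.card_perp_cQ huc
    rw [hC, ← hP] at this
    omega
  have hAX : aSub z u ≤ X := le_inf (S.aSub_le_perp huc) hAC
  have hDX : Q z ⊓ Q u ≤ X := le_inf (S.inter_le_perp U hzu) (inter_le_cQ U)
  have hX32 := Subgroup.card_le_of_le hAX
  have hX64 : Nat.card ↥X ≤ 2 ^ 6 := hPcard ▸ Subgroup.card_le_of_le inf_le_left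
  rw [h32] at hX32
  have hDA : Nat.card ↥((Q z ⊓ Q u) ⊓ aSub z u) ≤ 2 := by
    have hsub : (((Q z ⊓ Q u) ⊓ aSub z u : Subgroup G) : Set G) ⊆ {1, e} := fun f hf => h12 f hf
    have := Set.ncard_le_ncard hsub
    rw [Set.ncard_pair (Ne.symm T.z_ne_one), ← Nat.card_coe_set_eq, SetLike.coe_sort_coe] at this
    exact this
  have hmul := card_mul_card_le hDX hAX
  rw [h32] at hmul
  have him := S.card_img_cQ U
  rw [hC] at him
  have hD16 : Nat.card ↥(Q z ⊓ Q u) * 16 ≤ Nat.card ↥X := by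
    have := hmul.trans (Nat.mul_le_mul_left _ hDA)
    omega
  have hD4 : Nat.card ↥(Q z ⊓ Q u) ≤ 4 := by omega
  have hD0 : 0 < Nat.card ↥(Q z ⊓ Q u) := Nat.card_pos
  have hc16 : 16 ≤ Nat.card ↥(centreIn (U.imgS (cQ z u))) := by
    refine Nat.le_of_mul_le_mul_right ?_ hD0
    rw [mul_comm 16]
    exact hD16.trans hcen
  generalize hn' : Nat.card ↥(Q z ⊓ Q u) = n at him hD4 hD0
  interval_cases n
  · have := F.centre_256 _ (show Nat.card ↥(U.imgS (cQ z u)) = 256 by omega)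
    omega
  · have := F.centre_128 _ (show Nat.card ↥(U.imgS (cQ z u)) = 128 by omega)
    omega
  · omega
  · have hnab : ∃ a ∈ U.imgS (cQ z u), ∃ b ∈ U.imgS (cQ z u), a * b ≠ b * a := by
      obtain ⟨c1, hc1, c2, hc2, hnc⟩ : ∃ c1 ∈ cQ z u, ∃ c2 ∈ cQ z u, ¬ Commute c1 c2 := by
        by_contra hall
        push Not at hall
        have hle : cQ z u ≤ P := fun c hc' => ⟨(mem_cQ.mp hc').1,
          Subgroup.mem_centralizer_iff.mpr fun d hd => (hall d hd c hc').eq⟩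
        have := Subgroup.card_le_of_le hle
        omega
      have hle : cQ z u ≤ cz u := inf_le_right
      refine ⟨_, (U.mem_imgS hle).mpr ⟨c1, hc1, rfl⟩, _, (U.mem_imgS hle).mpr ⟨c2, hc2, rfl⟩,
        fun h => hzu ?_⟩
      have hcz : c1 * c2 * c1⁻¹ * c2⁻¹ = z := by
        rcases S.es.conj c1 (mem_cQ.mp hc1).1 c2 (mem_cQ.mp hc2).1 with h' | h'
        · exact absurd (mul_inv_eq_iff_eq_mul.mp h') hnc
        · rw [h', S.z_comm (mem_cQ.mp hc2).1, mul_inv_cancel_right]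
      have h1 : U.img (c1 * c2 * c1⁻¹ * c2⁻¹) = 1 := by
        rw [U.img_mul (mul_mem (mul_mem (hle hc1) (hle hc2)) (inv_mem (hle hc1)))
            (inv_mem (hle hc2)), U.img_mul (mul_mem (hle hc1) (hle hc2)) (inv_mem (hle hc1)),
          U.img_mul (hle hc1) (hle hc2), U.img_inv (hle hc1), U.img_inv (hle hc2), h]
        group
      rw [hcz] at h1
      exact U.mem_Q_of_img_one (mem_cz.mpr huz.symm) h1 (k := 1) (by simpa [sq] using S.z_sq)
    have := F.centre_small _ (Or.inr (show Nat.card ↥(U.imgS (cQ z u)) = 64 by omega)) hnab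
    omega

/-- No middle configuration exists. -/
theorem mid_false (S : Setting z p) (F : AutFacts) (hn : NoZero z p) (M : Mid z p g u) : False := by
  obtain ⟨f, hfA, hfu, hfe⟩ := S.exists_inter_aSub F hn M
  have hz := S.inS_z F hn M
  obtain ⟨he, hne, hu, huQ, hc⟩ := M
  set e := g * z * g⁻¹ with hedef
  set q := g * p * g⁻¹ with hqdef
  have T : Setting e q := S.conj g
  obtain ⟨⟨hue, huz⟩, hui⟩ := mem_xSub.mp hu
  have hze0 : IsConj z e := isConj_iff.mpr ⟨g, rfl⟩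
  obtain ⟨r, U⟩ := S.exists_setting hc
  have h2 : u * u = 1 := U.z_sq
  have huc : u ∈ cz z := mem_cz.mpr huz
  have hfz : f ∈ Q z := S.aSub_le huc hfA
  have hzeQ : z ∈ Q e := S.mem_swap F T he hne
  have hLA := S.line_le_aSub F T he hne hu huQ
  have hfL : ∀ l ∈ line z p e, Commute f l := fun l hl => S.commute_aSub huc h2 hfA (hLA hl)
  have huL : ∀ l ∈ line z p e, Commute u l := fun l hl => S.xSub_fix_line F T he hne hu hl
  obtain ⟨h, hh, hhu⟩ := isConj_of_inS h2 (S.inS_of_inS_z huc hz hfA)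
  have hvQ : u * f ∉ Q e := fun hh' => hfe (by simpa using mul_mem (inv_mem hue) hh')
  have hhe : h * e * h⁻¹ = e * z := by
    refine (S.es.conj h hh e he).resolve_left fun hc' => hvQ ?_
    have := isQ.mem_conj h hue
    rwa [hhu, hc'] at this
  have hvx : u * f ∈ Q (e * z) := by
    have := isQ.mem_conj h hue
    rwa [hhu, hhe] at this
  have heu : IsConj e u := hze0.symm.trans hc
  obtain ⟨k, hk⟩ := isConj_iff.mp heu
  have hve : Commute (u * f) e :=
    (huL e (e_mem_line _ _ _)).mul_left (hfL e (e_mem_line _ _ _))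
  have hvz : Commute (u * f) z :=
    (huL z (z_mem_line _ _ _)).mul_left (hfL z (z_mem_line _ _ _))
  have hvi : u * f ∈ inner e q := by
    refine (T.inner_iff_fix hzeQ S.z_ne_one (Ne.symm hne) hve hvz).mpr (Or.inl ?_)
    have hmem : q * z * q⁻¹ ∈ line z p e := by
      rw [← S.line_symm F T he hne]
      exact pe_mem_line e q z
    exact mul_inv_eq_iff_eq_mul.mpr ((huL _ hmem).mul_left (hfL _ hmem)).eq
  have M2 : Mid e q k (u * f) := ⟨hk.symm ▸ hue, hk.symm ▸ fun hh' => huQ (hh' ▸ he),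
    mem_xSub.mpr ⟨⟨hk.symm ▸ mul_mem U.es.mem hfu, hve⟩, hvi⟩, hvQ,
    heu.trans (isConj_iff.mpr ⟨h, hhu⟩)⟩
  have hxe : e * z ≠ e := fun hh' => S.z_ne_one (by simpa using hh')
  have := T.unique_middle F (hn.conj g) M2 (mul_mem T.es.mem hzeQ) hxe
    (isConj_iff.mpr ⟨h, hhe⟩) hvx
  rw [hk] at this
  exact huQ (this ▸ mul_mem he S.es.mem)

/-- Class zero. -/
theorem exists_zero [IsSimpleGroup G] (hG : ¬ IsMulCommutative G) (S : Setting z p)
    (F : AutFacts) : ∃ t, Commute t z ∧ Commute t p ∧ IsConj z t ∧ t ≠ z := by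
  by_contra hcon
  push Not at hcon
  have hn : NoZero z p := hcon
  obtain ⟨g, u, he, hne, hu, huQ, hc⟩ := exists_middle hG S F hn
  exact S.mid_false F hn ⟨he, hne, hu, huQ, hc⟩

end Setting

end Cfsg.Agent.Lib.J4Local
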