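import Cfsg.Agent.Lib.J4Local.Rank
import Cfsg.Agent.Lib.Golay.Simple

/-!
# The centralizer of `p` in `C(z)`: image, kernel, centre
-/

set_option autoImplicit false
set_option linter.unusedSectionVars false
set_option linter.unusedVariables false

namespace Cfsg.Agent.Lib.J4Local

open Cfsg.Agent.Lib.LargeExtraspecial.Basic

variable {G : Type*} [Group G]

/-- `C(z) ∩ C(p)`. -/
abbrev kSub (z p : G) : Subgroup G := cz z ⊓ cz p

theorem mem_kSub {z p k : G} : k ∈ kSub z p ↔ Commute k z ∧ Commute k p :=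
  and_congr mem_cz mem_cz

theorem AutFacts.inn_normal (F : AutFacts) : inn.Normal :=
  Subgroup.normal_of_index_eq_two (by
    have h := Subgroup.card_mul_index inn
    rw [F.card_inn, F.card_aut] at h
    omega)

/-- No nontrivial element of `inn` is central in it. -/
theorem AutFacts.centre_inn (F : AutFacts) {a : AutM22} (ha : a ∈ inn)
    (hc : ∀ b ∈ inn, a * b = b * a) : a = 1 := by
  have := F.simple
  have hcen : (⟨a, ha⟩ : ↥inn) ∈ Subgroup.center ↥inn :=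
    Subgroup.mem_center_iff.mpr fun b => Subtype.ext (hc b b.2).symm
  rcases (inferInstance : (Subgroup.center ↥inn).Normal).eq_bot_or_eq_top with h | h
  · rw [h, Subgroup.mem_bot] at hcen
    exact congrArg Subtype.val hcen
  · exfalso
    have := Fact.mk Nat.prime_two
    obtain ⟨⟨b, hb⟩, hb2⟩ := exists_prime_orderOf_dvd_card' (G := ↥inn) 2
      (by rw [F.card_inn]; norm_num)
    rw [Subgroup.orderOf_mk] at hb2
    have hle : inn ≤ inn ⊓ Subgroup.centralizer ({b} : Set AutM22) := fun x hx => by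
      refine ⟨hx, mem_centralizer_single.mpr ?_⟩
      have h' : (⟨b, hb⟩ : ↥inn) ∈ Subgroup.center ↥inn := h ▸ Subgroup.mem_top _
      exact congrArg Subtype.val (Subgroup.mem_center_iff.mp h' ⟨x, hx⟩)
    have := Subgroup.card_le_of_le hle
    rw [F.card_inn, F.cent_involution b hb hb2] at this
    omega

/-- A subgroup of `inn` normalised by `inn` is trivial or everything. -/
theorem AutFacts.eq_inn (F : AutFacts) {N : Subgroup AutM22} (hle : N ≤ inn)
    (hn : ∀ a ∈ N, ∀ b ∈ inn, b * a * b⁻¹ ∈ N) : N = ⊥ ∨ N = inn := by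
  have := F.simple
  have hN : (N.subgroupOf inn).Normal := ⟨fun x hx g => hn x hx g g.2⟩
  rcases hN.eq_bot_or_eq_top with h | h
  · left
    rw [Subgroup.eq_bot_iff_forall]
    intro a ha
    have : (⟨a, hle ha⟩ : ↥inn) ∈ (⊥ : Subgroup ↥inn) := h ▸ ha
    exact congrArg Subtype.val (Subgroup.mem_bot.mp this)
  · exact Or.inr (le_antisymm hle fun a ha =>
      (h ▸ Subgroup.mem_top (⟨a, ha⟩ : ↥inn) : (⟨a, ha⟩ : ↥inn) ∈ N.subgroupOf inn))

theorem AutFacts.iso_inn (F : AutFacts) : Nonempty (↥inn ≃* ↥Cfsg.Spor.M22) := by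
  have hinj : Function.Injective (MulAut.conj : ↥Cfsg.Spor.M22 →* AutM22) := by
    have h := Subgroup.card_mul_index (MulAut.conj : ↥Cfsg.Spor.M22 →* AutM22).ker
    rw [Subgroup.index_ker] at h
    change Nat.card ↥(MulAut.conj : ↥Cfsg.Spor.M22 →* AutM22).ker * Nat.card ↥inn = _ at h
    rw [F.card_inn, Golay.card_spor_M22] at h
    exact (MonoidHom.ker_eq_bot_iff _).mp (Subgroup.card_eq_one.mp
      (Nat.eq_of_mul_eq_mul_right (show 0 < 443520 by norm_num) (h.trans (one_mul _).symm)))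
  exact ⟨(MonoidHom.ofInjective hinj).symm⟩

namespace Setting

variable [Finite G] {z p : G}

theorem kSub_le_inner (S : Setting z p) : kSub z p ≤ inner z p := fun k hk => by
  obtain ⟨h1, h2⟩ := mem_kSub.mp hk
  exact ⟨h1, by rw [mul_inv_eq_iff_eq_mul.mpr h2.eq]; simp⟩

theorem p_mem_kSub (S : Setting z p) : p ∈ kSub z p := mem_kSub.mpr ⟨S.p_z, Commute.refl p⟩

theorem z_mem_kSub (S : Setting z p) : z ∈ kSub z p :=
  mem_kSub.mpr ⟨Commute.refl z, S.p_z.symm⟩

/-- `E → E, f ↦ f p f⁻¹ p⁻¹` is onto modulo `z`. -/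
theorem exists_comm_eq (S : Setting z p) {d : G} (hd : d ∈ Q z) :
    ∃ f ∈ Q z, ModZ z (f * p * f⁻¹ * p⁻¹) d := by
  set σ := act z ⟨p, S.p_mem_cz⟩ with hσ
  have hinj : Function.Injective (S.delta σ) := by
    rw [injective_iff_map_eq_one]
    intro v
    induction v using QuotientGroup.induction_on with
    | H a =>
      intro h
      have hm := (S.mk_eq_iff _ _).mp (mul_inv_eq_one.mp (h : σ (mkV z a) * (mkV z a)⁻¹ = 1))
      rcases S.fix_mod a.2 hm with h' | h'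
      · rw [show a = 1 from Subtype.ext h']; rfl
      · rw [QuotientGroup.eq_one_iff, S.mem_center]
        exact Or.inr h'
  obtain ⟨v, hv⟩ := Finite.injective_iff_surjective.mp hinj (mkV z ⟨d, hd⟩)
  induction v using QuotientGroup.induction_on with
  | H a =>
    refine ⟨(a : G)⁻¹, inv_mem a.2, ?_⟩
    have h := hv
    change σ (mkV z a) * (mkV z a)⁻¹ = _ at h
    rw [S.vec_comm] at h
    rw [hσ, act_mk] at h
    change mkV z (a⁻¹ * _) = _ at h
    have hm := (S.mk_eq_iff _ _).mp h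
    simp only [Subgroup.coe_mul, Subgroup.coe_inv] at hm
    have e : (a : G)⁻¹ * p * (a : G)⁻¹⁻¹ * p⁻¹ = (a : G)⁻¹ * (p * a * p⁻¹) := by group
    rw [e]
    exact hm

/-- Inner elements centralise `p` up to `O₂`. -/
theorem exists_centralising (S : Setting z p) {h : G} (hi : h ∈ inner z p) :
    ∃ f ∈ Q z, Commute (f⁻¹ * h) p := by
  obtain ⟨f, hf, hm⟩ := S.exists_comm_eq hi.2
  refine ⟨f, hf, ?_⟩
  have h3 : (h * p * h⁻¹) ^ 3 = 1 := by rw [conj_pow, S.p_cube, mul_one, mul_inv_cancel]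
  have hg3 : (f * p * f⁻¹) ^ 3 = 1 := by rw [conj_pow, S.p_cube, mul_one, mul_inv_cancel]
  have hcase : h * p * h⁻¹ = f * p * f⁻¹ := by
    rcases hm with hm | hm
    · exact (mul_right_cancel hm).symm
    · exfalso
      have e : f * p * f⁻¹ = h * p * h⁻¹ * z := by
        have h1 := congrArg (· * p) hm
        simp only [inv_mul_cancel_right] at h1
        rw [h1, mul_assoc (h * p * h⁻¹ * p⁻¹) z p, ← S.p_z.eq, ← mul_assoc, inv_mul_cancel_right]
      have hzc : Commute (h * p * h⁻¹) z := by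
        have hz1 : Commute h z := hi.1
        exact (Commute.mul_left hz1 S.p_z).mul_left hz1.inv_left
      rw [e, hzc.mul_pow, h3, one_mul, pow_succ, sq, S.z_sq, one_mul] at hg3
      exact S.z_ne_one hg3
  show f⁻¹ * h * p = p * (f⁻¹ * h)
  calc f⁻¹ * h * p = f⁻¹ * (h * p * h⁻¹) * h := by group
    _ = p * (f⁻¹ * h) := by rw [hcase]; group

/-- Outer elements invert `p` up to `O₂`. -/
theorem exists_inverting (S : Setting z p) {h : G} (hh : h ∈ cz z) (hi : h ∉ inner z p) :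
    ∃ f ∈ Q z, f⁻¹ * h * p * (f⁻¹ * h)⁻¹ = p⁻¹ := by
  obtain ⟨m, hmz, hmp⟩ := S.moves
  have hmo : m ∉ inner z p := fun h' => by
    have h2 := h'.2
    rw [hmp] at h2
    have h3 := S.zpow_mem_Q (i := -2) (by rw [show p ^ (-2 : ℤ) = p⁻¹ * p⁻¹ by group]; exact h2)
    have h4 : p ^ (-2 : ℤ) * p ^ (3 : ℕ) = p := by group
    rw [h3, S.p_cube, mul_one] at h4
    simpa [← h4] using S.ord_p
  obtain ⟨f, hf, hc⟩ := S.exists_centralising (S.mul_mem_inner hh (mem_cz.mpr hmz) hi hmo)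
  refine ⟨f, hf, ?_⟩
  set w := f⁻¹ * (h * m) with hw
  have hmi : m⁻¹ * p * m⁻¹⁻¹ = p⁻¹ := by
    have h5 : m * p⁻¹ * m⁻¹ = p := by
      rw [show m * p⁻¹ * m⁻¹ = (m * p * m⁻¹)⁻¹ by group, hmp, inv_inv]
    calc m⁻¹ * p * m⁻¹⁻¹ = m⁻¹ * (m * p⁻¹ * m⁻¹) * m⁻¹⁻¹ := by rw [h5]
      _ = p⁻¹ := by group
  calc f⁻¹ * h * p * (f⁻¹ * h)⁻¹ = w * (m⁻¹ * p * m⁻¹⁻¹) * w⁻¹ := by rw [hw]; group
    _ = w * p⁻¹ * w⁻¹ := by rw [hmi]
    _ = p⁻¹ := mul_inv_eq_iff_eq_mul.mpr hc.inv_right.eq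

/-- The image of `C(z) ∩ C(p)` is `inn`. -/
theorem exists_lift (S : Setting z p) (F : AutFacts) {a : AutM22} (ha : a ∈ inn) :
    ∃ k ∈ kSub z p, S.img k = a := by
  obtain ⟨h, hh, rfl⟩ := S.img_surj a
  have hi := (S.img_mem_inn F hh).mp ha
  obtain ⟨f, hf, hc⟩ := S.exists_centralising hi
  have hfz := Q_le_cz z hf
  refine ⟨f⁻¹ * h, mem_kSub.mpr ⟨mem_cz.mp (mul_mem (inv_mem hfz) hh),
    hc⟩, ?_⟩
  rw [S.img_mul (inv_mem hfz) hh, S.img_inv hfz, S.img_Q hf, inv_one, one_mul]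

theorem p_zpow_cases (S : Setting z p) (i : ℤ) : p ^ i = 1 ∨ p ^ i = p ∨ p ^ i = p * p := by
  have h3 : p ^ (3 : ℤ) = 1 := by
    rw [show (3 : ℤ) = ((3 : ℕ) : ℤ) from rfl, zpow_natCast, S.p_cube]
  have hk3 : p ^ i = p ^ (i % 3) := by
    conv_lhs => rw [← Int.emod_add_mul_ediv i 3, zpow_add, zpow_mul, h3, one_zpow, mul_one]
  rw [hk3]
  rcases (show i % 3 = 0 ∨ i % 3 = 1 ∨ i % 3 = 2 by omega) with h | h | h <;> rw [h]
  · exact Or.inl (zpow_zero p)
  · exact Or.inr (Or.inl (zpow_one p))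
  · exact Or.inr (Or.inr (zpow_two p))

/-- The kernel on `C(z) ∩ C(p)`. -/
theorem ker_kSub (S : Setting z p) {k : G} (hk : k ∈ kSub z p) (h : S.img k = 1) :
    ∃ i : ℤ, k = p ^ i ∨ k = z * p ^ i := by
  obtain ⟨hkz, hkp⟩ := mem_kSub.mp hk
  obtain ⟨e, he, i, rfl⟩ := (S.img_eq_one (mem_cz.mpr hkz)).mp h
  have hpp : Commute (p ^ i) p := (Commute.refl p).zpow_left i
  have hep : Commute e p := by
    have := hkp.mul_left hpp.inv_left
    rwa [mul_inv_cancel_right] at this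
  rcases S.fix e he hep with rfl | rfl
  · exact ⟨i, Or.inl (one_mul _)⟩
  · exact ⟨i, Or.inr rfl⟩

/-- A kernel element with trivial 27th power lies in `⟨p⟩`. -/
theorem ker_three (S : Setting z p) {k : G} (hk : k ∈ kSub z p) (h : S.img k = 1)
    (h27 : k ^ 27 = 1) : k ∈ Subgroup.zpowers p := by
  obtain ⟨i, rfl | rfl⟩ := S.ker_kSub hk h
  · exact Subgroup.zpow_mem_zpowers p i
  · exfalso
    have hpow : (p ^ i) ^ 27 = 1 := by
      rw [← zpow_natCast, ← zpow_mul, mul_comm, zpow_mul, zpow_natCast,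
        show p ^ 27 = (p ^ 3) ^ 9 by rw [← pow_mul], S.p_cube, one_pow, one_zpow]
    rw [(S.p_z.symm.zpow_right i).mul_pow, hpow, mul_one,
      show z ^ 27 = (z * z) ^ 13 * z by rw [← sq, ← pow_mul, ← pow_succ], S.z_sq, one_pow,
      one_mul] at h27
    exact S.z_ne_one h27

/-- The map to `Aut M22` on `C(z) ∩ C(p)`. -/
noncomputable def kHom (S : Setting z p) : ↥(kSub z p) →* AutM22 :=
  S.phi.comp (Subgroup.inclusion inf_le_left)

theorem kHom_apply (S : Setting z p) (k : ↥(kSub z p)) : S.kHom k = S.img k :=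
  (S.img_of_mem _).symm

theorem kHom_range (S : Setting z p) (F : AutFacts) : S.kHom.range = inn := by
  ext a
  constructor
  · rintro ⟨k, rfl⟩
    rw [S.kHom_apply]
    exact (S.img_mem_inn F k.2.1).mpr (S.kSub_le_inner k.2)
  · intro ha
    obtain ⟨k, hk, rfl⟩ := S.exists_lift F ha
    exact ⟨⟨k, hk⟩, S.kHom_apply _⟩

theorem ord_zp (S : Setting z p) : orderOf (z * p) = 6 := by
  rw [S.p_z.symm.orderOf_mul_eq_mul_orderOf_of_coprime (by rw [S.ord_z, S.ord_p]; norm_num),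
    S.ord_z, S.ord_p]

theorem zp_pow (S : Setting z p) (i : ℤ) :
    (z * p) ^ (4 * i) = p ^ i ∧ (z * p) ^ (4 * i + 3) = z * p ^ i := by
  have h4 : ∀ j : ℤ, (z * p) ^ j = z ^ j * p ^ j := fun j => S.p_z.symm.mul_zpow j
  have hz2 : z ^ (2 : ℤ) = 1 := by rw [zpow_two, S.z_sq]
  have hp3 : p ^ (3 : ℤ) = 1 := by
    rw [show (3 : ℤ) = ((3 : ℕ) : ℤ) from rfl, zpow_natCast, S.p_cube]
  constructor
  · rw [h4, show (4 : ℤ) * i = 2 * (2 * i) by ring, zpow_mul, hz2, one_zpow, one_mul,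
      show (2 : ℤ) * (2 * i) = 3 * i + i by ring, zpow_add, zpow_mul, hp3, one_zpow, one_mul]
  · rw [h4, show (4 : ℤ) * i + 3 = 2 * (2 * i + 1) + 1 by ring, zpow_add, zpow_mul, hz2, one_zpow,
      one_mul, zpow_one, show (2 : ℤ) * (2 * i + 1) + 1 = 3 * (i + 1) + i by ring, zpow_add,
      zpow_mul, hp3, one_zpow, one_mul]

theorem kHom_ker (S : Setting z p) :
    S.kHom.ker = (Subgroup.zpowers (z * p)).subgroupOf (kSub z p) := by
  ext k
  rw [MonoidHom.mem_ker, S.kHom_apply, Subgroup.mem_subgroupOf]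
  constructor
  · intro h
    obtain ⟨i, hi | hi⟩ := S.ker_kSub k.2 h <;> rw [hi]
    · exact ⟨_, (S.zp_pow i).1⟩
    · exact ⟨_, (S.zp_pow i).2⟩
  · intro h
    obtain ⟨i, hi⟩ := Subgroup.mem_zpowers_iff.mp h
    have hzp : z * p ∈ cz z := mem_cz.mpr ((Commute.refl z).mul_left S.p_z)
    refine (S.img_eq_one k.2.1).mpr ⟨z ^ i, zpow_mem S.es.mem i, i, ?_⟩
    rw [← hi, S.p_z.symm.mul_zpow]

theorem card_kHom_ker (S : Setting z p) : Nat.card ↥S.kHom.ker = 6 := by
  rw [S.kHom_ker, Nat.card_congr (Subgroup.subgroupOfEquivOfLe (H := Subgroup.zpowers (z * p))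
    (Subgroup.zpowers_le.mpr (mul_mem S.z_mem_kSub S.p_mem_kSub))).toEquiv, Nat.card_zpowers,
    S.ord_zp]

theorem card_kSub (S : Setting z p) (F : AutFacts) : Nat.card ↥(kSub z p) = 6 * 443520 := by
  have h := Subgroup.card_mul_index S.kHom.ker
  rw [Subgroup.index_ker, S.kHom_range F, F.card_inn, S.card_kHom_ker] at h
  exact h.symm

theorem kHom_centre (S : Setting z p) (F : AutFacts) :
    Subgroup.center ↥(kSub z p) = S.kHom.ker := by
  ext k
  constructor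
  · intro hk
    rw [MonoidHom.mem_ker]
    refine F.centre_inn (S.kHom_range F ▸ ⟨k, rfl⟩) fun b hb => ?_
    obtain ⟨x, rfl⟩ := (S.kHom_range F).ge hb
    rw [← map_mul, ← map_mul, Subgroup.mem_center_iff.mp hk x]
  · intro hk
    refine Subgroup.mem_center_iff.mpr fun x => Subtype.ext ?_
    rw [S.kHom_ker, Subgroup.mem_subgroupOf] at hk
    obtain ⟨i, hi⟩ := Subgroup.mem_zpowers_iff.mp hk
    obtain ⟨h1, h2⟩ := mem_kSub.mp x.2
    simp only [Subgroup.coe_mul]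
    rw [← hi]
    exact ((h1.mul_right h2).zpow_right i).eq

end Setting

end Cfsg.Agent.Lib.J4Local
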