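import Cfsg.Agent.Lib.J4Local.AutSylow

/-!
# Centres and exponent two subgroups of the 2-subgroups of Aut M22
-/

set_option autoImplicit false
set_option maxRecDepth 4000
set_option linter.style.haveILetI false

namespace Cfsg.Agent.Lib.J4Local.AutTwo

open Cfsg Cfsg.Agent.Lib.Computation
open Cfsg.Agent.Lib.J4Local.AutSylow
open Cfsg.Agent.Lib.J4Local.SylTable

/-- The Sylow 2-subgroup. -/
noncomputable def syl : Subgroup AutM22 := model.syl

theorem card_syl : Nat.card ↥syl = 256 := model.card_syl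

theorem mem_syl {x : AutM22} : x ∈ syl ↔ ∃ i < 256, val i = x := Iff.rfl

theorem val_mem {i : ℕ} (hi : i < 256) : val i ∈ syl := ⟨i, hi, rfl⟩

/-- The Sylow subgroup, as such. -/
noncomputable def sylow : Sylow 2 AutM22 :=
  Sylow.ofCard syl (by
    rw [card_syl, AutModel.card_autM22]
    haveI : Fact (Nat.Prime 2) := ⟨Nat.prime_two⟩
    rw [show (887040 : ℕ) = 2 ^ 8 * 3465 by norm_num, Nat.factorization_mul (by norm_num)
      (by norm_num), Finsupp.add_apply, Nat.Prime.factorization_pow Nat.prime_two,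
      Finsupp.single_eq_same, Nat.factorization_eq_zero_of_not_dvd (by norm_num : ¬ 2 ∣ 3465)]
    norm_num)

theorem exists_conj_le {S : Subgroup AutM22} {k : ℕ} (hS : Nat.card ↥S = 2 ^ k) :
    ∃ g : AutM22, S.map (MulAut.conj g).toMonoidHom ≤ syl := by
  haveI : Fact (Nat.Prime 2) := ⟨Nat.prime_two⟩
  obtain ⟨Q, hQ⟩ := (IsPGroup.of_card hS).exists_le_sylow
  obtain ⟨g, hg⟩ := MulAction.exists_smul_eq AutM22 Q sylow
  refine ⟨g, ?_⟩
  rintro _ ⟨x, hx, rfl⟩
  have : (MulAut.conj g).toMonoidHom x ∈ ((g • Q : Sylow 2 AutM22) : Subgroup AutM22) := by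
    rw [Sylow.coe_subgroup_smul]
    exact ⟨x, hQ hx, rfl⟩
  rw [hg] at this
  exact this

theorem card_conj (g : AutM22) (S : Subgroup AutM22) :
    Nat.card ↥(S.map (MulAut.conj g).toMonoidHom) = Nat.card ↥S :=
  Subgroup.card_map_of_injective (MulAut.conj g).injective

theorem mem_centreIn {S : Subgroup AutM22} {x : AutM22} :
    x ∈ centreIn S ↔ x ∈ S ∧ ∀ y ∈ S, y * x = x * y := by
  simp [centreIn, Subgroup.mem_centralizer_iff]

theorem centreIn_conj (g : AutM22) (S : Subgroup AutM22) :
    centreIn (S.map (MulAut.conj g).toMonoidHom) = (centreIn S).map (MulAut.conj g).toMonoidHom := by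
  ext x
  rw [mem_centreIn, Subgroup.mem_map]
  constructor
  · rintro ⟨⟨a, ha, rfl⟩, hc⟩
    refine ⟨a, mem_centreIn.mpr ⟨ha, fun y hy => ?_⟩, rfl⟩
    exact (MulAut.conj g).injective (by
      simpa only [map_mul, MulEquiv.coe_toMonoidHom] using hc _ ⟨y, hy, rfl⟩)
  · rintro ⟨a, ha, rfl⟩
    obtain ⟨ha, hc⟩ := mem_centreIn.mp ha
    refine ⟨⟨a, ha, rfl⟩, ?_⟩
    rintro _ ⟨y, hy, rfl⟩
    show (MulAut.conj g) y * (MulAut.conj g) a = (MulAut.conj g) a * (MulAut.conj g) y
    rw [← map_mul, hc y hy, map_mul]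

theorem card_centreIn_conj (g : AutM22) (S : Subgroup AutM22) :
    Nat.card ↥(centreIn (S.map (MulAut.conj g).toMonoidHom)) = Nat.card ↥(centreIn S) := by
  rw [centreIn_conj, card_conj]

theorem card_le_of_indices {T : Subgroup AutM22} (l : List ℕ) (h : ∀ x ∈ T, ∃ i ∈ l, val i = x) :
    Nat.card ↥T ≤ l.length := by
  classical
  have hsub : (T : Set AutM22) ⊆ ↑(l.toFinset.image val) := fun x hx => by
    obtain ⟨i, hi, rfl⟩ := h x hx
    simpa using ⟨i, hi, rfl⟩
  calc Nat.card ↥T ≤ (↑(l.toFinset.image val) : Set AutM22).ncard := by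
        rw [show Nat.card ↥T = (T : Set AutM22).ncard from Nat.card_coe_set_eq _]
        exact Set.ncard_le_ncard hsub (Finset.finite_toSet _)
    _ ≤ l.length := by
        rw [Set.ncard_coe_finset]
        exact Finset.card_image_le.trans (List.toFinset_card_le l)

theorem central_index {i : ℕ} (hi : i < 256) (hc : ∀ j < 256, val i * val j = val j * val i) :
    i = 0 ∨ i = 9 := by
  have h := central_ok
  simp only [centralOk, List.all_eq_true, Bool.or_eq_true, Bool.not_eq_true', List.any_eq_true,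
    Nat.beq_eq] at h
  rcases h _ (model.ent hi) with h | ⟨z, hz, rfl⟩
  · exfalso
    rw [Bool.eq_false_iff, ne_eq, Nat.beq_eq] at h
    apply h
    refine Nat.eq_of_testBit_eq fun j => ?_
    rw [Nat.testBit_two_pow_sub_one, Bool.eq_iff_iff, decide_eq_true_iff]
    exact (model.cent_iff hi).trans ⟨fun h => h.1, fun hj => ⟨hj, hc j hj⟩⟩
  · simpa using hz

/-- F4: the centre of a Sylow 2-subgroup. -/
theorem centre_256 (S : Subgroup AutM22) (hS : Nat.card ↥S = 256) :
    Nat.card ↥(centreIn S) ≤ 2 := by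
  obtain ⟨g, hg⟩ := exists_conj_le (k := 8) (S := S) (by rw [hS]; norm_num)
  rw [← card_centreIn_conj g S]
  refine card_le_of_indices [0, 9] fun x hx => ?_
  obtain ⟨hx, hc⟩ := mem_centreIn.mp hx
  have heq : S.map (MulAut.conj g).toMonoidHom = syl :=
    Subgroup.eq_of_le_of_card_ge hg (by rw [card_conj, hS, card_syl])
  rw [heq] at hx hc
  obtain ⟨i, hi, rfl⟩ := mem_syl.mp hx
  exact ⟨i, by simpa using central_index hi fun j hj => (hc _ (val_mem hj)).symm, rfl⟩

theorem ents_fst : (ents SylData.rows SylData.cents).map Prod.fst = List.range 256 := by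
  rw [ents, List.map_fst_zip]
  simp [model.lenR, model.lenC]

theorem filter_length (p : ℕ → Bool) (q : ℕ × ℕ × ℕ → Bool)
    (h : ∀ e ∈ ents SylData.rows SylData.cents, q e = p e.1) :
    ((ents SylData.rows SylData.cents).filter q).length = ((List.range 256).filter p).length := by
  rw [← ents_fst, List.filter_map, List.length_map]
  exact congrArg List.length (List.filter_congr h)

/-- The indices of an element's centraliser. -/
def centList (c : ℕ) : List ℕ := (List.range 256).filter fun j => c.testBit j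

theorem centList_spec {i : ℕ} (hi : i < 256) :
    Nat.card ↥(syl ⊓ Subgroup.centralizer ({val i} : Set AutM22)) =
      (centList (SylData.cents.getD i 0)).length := by
  classical
  set l := centList (SylData.cents.getD i 0) with hl
  have hmem : ∀ j, j ∈ l ↔ j < 256 ∧ val i * val j = val j * val i := by
    intro j
    simp only [hl, centList, List.mem_filter, List.mem_range]
    rw [model.cent_iff hi]
    tauto
  have hset : ((syl ⊓ Subgroup.centralizer ({val i} : Set AutM22) : Subgroup AutM22) : Set AutM22) =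
      ↑(l.toFinset.image val) := by
    ext x
    simp only [Subgroup.coe_inf, Set.mem_inter_iff, SetLike.mem_coe,
      Subgroup.mem_centralizer_singleton_iff, Finset.coe_image, Set.mem_image, List.coe_toFinset,
      Set.mem_ofPred_eq, hmem]
    constructor
    · rintro ⟨⟨j, hj, rfl⟩, hc⟩
      exact ⟨j, ⟨hj, hc.symm⟩, rfl⟩
    · rintro ⟨j, ⟨hj, hc⟩, rfl⟩
      exact ⟨val_mem hj, hc.symm⟩
  rw [show Nat.card ↥(syl ⊓ Subgroup.centralizer ({val i} : Set AutM22)) = _ from
    Nat.card_coe_set_eq _, hset, Set.ncard_coe_finset, Finset.card_image_of_injOn ?_,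
    List.toFinset_card_of_nodup ?_]
  · exact List.Nodup.filter _ List.nodup_range
  · intro a ha b hb hab
    exact model.inj a ((hmem a).mp (List.mem_toFinset.mp ha)).1 b
      ((hmem b).mp (List.mem_toFinset.mp hb)).1 hab

/-- F5: the centres of the subgroups of order 128. -/
theorem centre_128 (S : Subgroup AutM22) (hS : Nat.card ↥S = 128) :
    Nat.card ↥(centreIn S) ≤ 4 := by
  obtain ⟨g, hg⟩ := exists_conj_le (k := 7) (S := S) (by rw [hS]; norm_num)
  rw [← card_centreIn_conj g S]
  set T := S.map (MulAut.conj g).toMonoidHom with hT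
  have hTc : Nat.card ↥T = 128 := by rw [hT, card_conj, hS]
  by_cases hnc : ∃ i < 256, val i ∈ centreIn T ∧ i ≠ 0 ∧ i ≠ 9
  · obtain ⟨i, hi, hiZ, hi0, hi9⟩ := hnc
    have key : ∀ j < 256, val j ∈ centreIn T → j ≠ 0 → j ≠ 9 →
        syl ⊓ Subgroup.centralizer ({val j} : Set AutM22) = T := by
      intro j hj hjZ hj0 hj9
      set C := syl ⊓ Subgroup.centralizer ({val j} : Set AutM22) with hC
      have hle : T ≤ C := le_inf hg fun y hy =>
        Subgroup.mem_centralizer_singleton_iff.mpr ((mem_centreIn.mp hjZ).2 y hy)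
      have hne : Nat.card ↥C ≠ 256 := fun h => by
        have heq : C = syl := Subgroup.eq_of_le_of_card_ge inf_le_left (by rw [h, card_syl])
        rcases central_index hj (fun k hk => by
          have : val k ∈ C := by rw [heq]; exact val_mem hk
          exact (Subgroup.mem_centralizer_singleton_iff.mp this.2).symm) with h | h
        exacts [hj0 h, hj9 h]
      have hdvd : Nat.card ↥C ∣ 2 ^ 8 := by
        have := Subgroup.card_dvd_of_le (inf_le_left : C ≤ syl)
        rwa [card_syl] at this
      have hge := Subgroup.card_le_of_le hle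
      obtain ⟨k, hk, hk'⟩ := (Nat.dvd_prime_pow Nat.prime_two).mp hdvd
      refine (Subgroup.eq_of_le_of_card_ge hle ?_).symm
      rw [hk'] at hne hge ⊢
      rw [hTc] at hge ⊢
      interval_cases k <;> omega
    have h := cent128_ok
    simp only [cent128Ok, List.all_eq_true, forceNat_eq, Bool.or_eq_true, Bool.not_eq_true',
      Bool.eq_false_iff, ne_eq, Nat.beq_eq, Nat.ble_eq] at h
    rcases h _ (model.ent hi) with h | h
    · exfalso
      apply h
      rw [filter_length (fun j => (SylData.cents.getD i 0).testBit j) _ (fun _ _ => rfl)]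
      have := centList_spec hi
      rw [key i hi hiZ hi0 hi9, hTc] at this
      exact this.symm
    · rw [filter_length (fun j => Nat.beq (SylData.cents.getD j 0) (SylData.cents.getD i 0)) _
        (fun e he => by rw [(model.mem_ents.mp he).2.2])] at h
      refine (card_le_of_indices (0 :: 9 :: (List.range 256).filter fun j =>
        Nat.beq (SylData.cents.getD j 0) (SylData.cents.getD i 0)) fun x hx => ?_).trans (by simp only [List.length_cons]; omega)
      obtain ⟨j, hj, rfl⟩ := mem_syl.mp (hg (mem_centreIn.mp hx).1)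
      refine ⟨j, ?_, rfl⟩
      by_cases hj0 : j = 0
      · simp [hj0]
      by_cases hj9 : j = 9
      · simp [hj9]
      refine List.mem_cons_of_mem _ (List.mem_cons_of_mem _ (List.mem_filter.mpr
        ⟨List.mem_range.mpr hj, ?_⟩))
      rw [Nat.beq_eq]
      refine Nat.eq_of_testBit_eq fun k => ?_
      rw [Bool.eq_iff_iff, model.cent_iff hj, model.cent_iff hi]
      refine and_congr_right fun hk => ?_
      have e := (key j hj hx hj0 hj9).trans (key i hi hiZ hi0 hi9).symm
      have := SetLike.ext_iff.mp e (val k)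
      simp only [Subgroup.mem_inf, val_mem hk, true_and, Subgroup.mem_centralizer_singleton_iff] at this
      exact ⟨fun h => (this.mp h.symm).symm, fun h => (this.mpr h.symm).symm⟩
  · push Not at hnc
    refine (card_le_of_indices [0, 9] fun x hx => ?_).trans (by norm_num)
    obtain ⟨i, hi, rfl⟩ := mem_syl.mp (hg (mem_centreIn.mp hx).1)
    exact ⟨i, by
      by_cases h0 : i = 0
      · simp [h0]
      · simp [hnc i hi hx h0], rfl⟩

theorem abel_last : SylData.abelAll.getLastD [[0]] = SylData.abel4 := rfl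

theorem abel4_bound : ∀ H ∈ SylData.abel4, ∀ i ∈ H, i < 256 := by
  have h : (SylData.abel4.all fun H => H.all (Nat.blt · 256)) = true := by decide +kernel
  simpa [List.all_eq_true, Nat.blt_eq] using h

/-- F5: centres of the smaller nonabelian subgroups. -/
theorem centre_small (S : Subgroup AutM22) (hS : Nat.card ↥S = 32 ∨ Nat.card ↥S = 64)
    (hn : ∃ a ∈ S, ∃ b ∈ S, a * b ≠ b * a) : Nat.card ↥(centreIn S) ≤ 8 := by
  obtain ⟨k, hk⟩ : ∃ k, Nat.card ↥S = 2 ^ k := by
    rcases hS with h | h
    exacts [⟨5, by rw [h]; norm_num⟩, ⟨6, by rw [h]; norm_num⟩]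
  obtain ⟨g, hg⟩ := exists_conj_le hk
  rw [← card_centreIn_conj g S]
  set T := S.map (MulAut.conj g).toMonoidHom with hT
  by_contra hcon
  have hdvd : Nat.card ↥(centreIn T) ∣ 2 ^ 8 := by
    have := Subgroup.card_dvd_of_le ((inf_le_left : centreIn T ≤ T).trans hg)
    rwa [card_syl] at this
  obtain ⟨m, hm, hm'⟩ := (Nat.dvd_prime_pow Nat.prime_two).mp hdvd
  have h16 : 2 ^ SylData.abelAll.length ≤ Nat.card ↥(centreIn T) := by
    rw [show SylData.abelAll.length = 4 from rfl, hm']
    rw [hm'] at hcon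
    interval_cases m <;> omega
  obtain ⟨K, hK, hKh⟩ := model.reach_top abel_ok (centreIn T) ((inf_le_left).trans hg)
    (fun a ha b hb => (mem_centreIn.mp hb).2 a (mem_centreIn.mp ha).1) (by simp) h16
  rw [abel_last] at hK
  obtain ⟨a, ha, b, hb, hab⟩ := hn
  refine hab ((MulAut.conj g).injective ?_)
  rw [map_mul, map_mul]
  have hca : ∀ x ∈ S, ∀ y ∈ centreIn T, MulAut.conj g x * y = y * MulAut.conj g x :=
    fun x hx y hy => (mem_centreIn.mp hy).2 _ ⟨x, hx, rfl⟩
  exact model.comm_of_centAbel abel_cent abel4_bound hK hKh (hg ⟨a, ha, rfl⟩) (hg ⟨b, hb, rfl⟩)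
    (hca a ha) (hca b hb)

/-! ### exponent two -/

theorem isExp2_comm {S : Subgroup AutM22} (h : IsExp2 S) : ∀ a ∈ S, ∀ b ∈ S, a * b = b * a := by
  intro a ha b hb
  have hinv : ∀ x ∈ S, x⁻¹ = x := fun x hx => inv_eq_of_mul_eq_one_right (h x hx)
  have := hinv _ (mul_mem ha hb)
  rw [mul_inv_rev, hinv a ha, hinv b hb] at this
  exact this.symm

theorem card_exp2 {S : Subgroup AutM22} (h : IsExp2 S) : ∃ k, Nat.card ↥S = 2 ^ k := by
  haveI : Fact (Nat.Prime 2) := ⟨Nat.prime_two⟩
  refine IsPGroup.iff_card.mp fun x => ⟨1, ?_⟩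
  rw [pow_one, sq]
  exact Subtype.ext (h x x.2)

theorem isExp2_conj {S : Subgroup AutM22} (h : IsExp2 S) (g : AutM22) :
    IsExp2 (S.map (MulAut.conj g).toMonoidHom) := by
  rintro _ ⟨x, hx, rfl⟩
  show (MulAut.conj g) x * (MulAut.conj g) x = 1
  rw [← map_mul, h x hx, map_one]

theorem elem_last : SylData.elemAll.getLastD [[0]] = [] := rfl

/-- F3: rank at most five. -/
theorem exp2_card (S : Subgroup AutM22) (h : IsExp2 S) : Nat.card ↥S ≤ 32 := by
  by_contra hcon
  obtain ⟨k, hk⟩ := card_exp2 h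
  obtain ⟨g, hg⟩ := exists_conj_le hk
  have h64 : 2 ^ SylData.elemAll.length ≤ Nat.card ↥(S.map (MulAut.conj g).toMonoidHom) := by
    rw [show SylData.elemAll.length = 6 from rfl, card_conj, hk]
    rw [hk] at hcon
    refine Nat.pow_le_pow_right (by norm_num) ?_
    by_contra hk6
    interval_cases k <;> omega
  obtain ⟨K, hK, -⟩ := model.reach_top elem_ok _ hg (isExp2_comm (isExp2_conj h g))
    (fun _ => isExp2_conj h g) h64
  rw [elem_last] at hK
  exact List.not_mem_nil hK

/-- The indices of the subgroup of exponent two and order 32. -/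
def eList : List ℕ := SylData.elem5.headD []

theorem elem5_eq : SylData.elem5 = [eList] := rfl

theorem eList_ok : eList.Nodup ∧ eList.length = 32 ∧ ∀ i ∈ eList, i < 256 := by decide +kernel

theorem levelsOk_take {elem : Bool} {es : List (ℕ × ℕ × ℕ)} :
    ∀ (ls : List (List (List ℕ))) (cur : List (List ℕ)) (k n : ℕ),
      levelsOk elem es cur k ls = true → levelsOk elem es cur k (ls.take n) = true
  | [], _, _, n, h => by rwa [List.take_nil]
  | nxt :: rest, cur, k, 0, _ => rfl
  | nxt :: rest, cur, k, n + 1, h => by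
    simp only [List.take_succ_cons, levelsOk, Bool.and_eq_true] at h ⊢
    exact ⟨h.1, levelsOk_take rest nxt (k + 1) n h.2⟩

theorem elem_ok5 :
    levelsOk true (ents SylData.rows SylData.cents) [[0]] 0 (SylData.elemAll.take 5) = true :=
  levelsOk_take _ _ _ _ elem_ok

theorem exists_conj_eList (S : Subgroup AutM22) (h : IsExp2 S) (hc : Nat.card ↥S = 32) :
    ∃ g : AutM22, (S.map (MulAut.conj g).toMonoidHom : Set AutM22) = val '' {i | i ∈ eList} := by
  obtain ⟨g, hg⟩ := exists_conj_le (k := 5) (S := S) (by rw [hc]; norm_num)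
  refine ⟨g, ?_⟩
  obtain ⟨K, hK, W, hWle, hW⟩ := model.reach_top elem_ok5 _ hg (isExp2_comm (isExp2_conj h g))
    (fun _ => isExp2_conj h g) (by rw [card_conj, hc]; rfl)
  rw [show (SylData.elemAll.take 5).getLastD [[0]] = SylData.elem5 from rfl, elem5_eq,
    List.mem_singleton] at hK
  subst hK
  rw [← hW]
  refine congrArg _ (Subgroup.eq_of_le_of_card_ge hWle ?_).symm
  rw [card_conj, hc, show Nat.card ↥W = (W : Set AutM22).ncard from Nat.card_coe_set_eq _, hW,
    Set.InjOn.ncard_image (show Set.InjOn val {i | i ∈ eList} from fun a ha b hb hab =>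
      model.inj a (eList_ok.2.2 a ha) b (eList_ok.2.2 b hb) hab),
    show {i | i ∈ eList} = (↑eList.toFinset : Set ℕ) by ext; simp, Set.ncard_coe_finset,
    List.toFinset_card_of_nodup eList_ok.1, eList_ok.2.1]

end Cfsg.Agent.Lib.J4Local.AutTwo
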