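import Cfsg.Agent.Lib.J4Local.AutModel
import Cfsg.Agent.Lib.J4Local.SylTable
import Cfsg.Agent.Lib.J4Local.SylData

/-!
# Kernel checks on the table of a Sylow 2-subgroup of Aut M22
-/

set_option autoImplicit false
set_option maxRecDepth 4000

namespace Cfsg.Agent.Lib.J4Local.AutSylow

open Cfsg.Agent.Lib.Golay Cfsg.Agent.Lib.Computation
open Cfsg.Agent.Lib.FusionAlperin.MathieuCert
open Cfsg.Agent.Lib.J4Local.AutModel
open Cfsg.Agent.Lib.J4Local.SylTable

/-- The codes are good. -/
def elsOk : Bool :=
  Nat.beq SylData.els.length 256 && Nat.beq SylData.rows.length 256 && Nat.beq SylData.cents.length 256 &&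
    Nat.beq (SylData.els.getD 0 0) oneCode &&
    SylData.els.all fun c => inBig c && Nat.beq (canon c) c

theorem elsOk_eq : elsOk = true := by decide +kernel

theorem els_nodup : SylData.els.Nodup := by decide +kernel

/-- The generator rows are the products. -/
def genRowsOk : Bool :=
  (List.range 8).all fun k => forceNat (2 ^ k) fun g => forceNat (SylData.rows.getD g 0) fun r =>
    forceNat (SylData.els.getD g 0) fun e => (SylData.els.zip (List.range 256)).all fun ci =>
      forceNat (getW 8 r ci.2) fun t => Nat.blt t 256 && Nat.beq (mulP 24 5 ci.1 e) (SylData.els.getD t 0)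

theorem genRowsOk_eq : genRowsOk = true := by decide +kernel

/-- The other rows are composed. -/
def compRowsOk : Bool :=
  (List.range 8).all fun k => forceNat (2 ^ k) fun g => forceNat (SylData.rows.getD g 0) fun rg =>
    (List.range g).all fun p => forceNat (SylData.rows.getD p 0) fun rp =>
      forceNat (SylData.rows.getD (p + g) 0) fun rj =>
        (List.range 256).all fun i => Nat.beq (getW 8 rj i) (getW 8 rg (getW 8 rp i))

theorem compRowsOk_eq : compRowsOk = true := by decide +kernel

/-- The first row is the identity. -/
def rowZeroOk : Bool :=
  forceNat (SylData.rows.getD 0 0) fun r => (List.range 256).all fun i => Nat.beq (getW 8 r i) i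

theorem rowZeroOk_eq : rowZeroOk = true := by decide +kernel

theorem rowsAtZero_eq :
    ((List.range 256).all fun p => Nat.beq (getW 8 (SylData.rows.getD p 0) 0) p) = true := by
  decide +kernel

theorem centOk_eq : centOk (ents SylData.rows SylData.cents) = true := by decide +kernel

theorem abel_ok : levelsOk false (ents SylData.rows SylData.cents) [[0]] 0 SylData.abelAll = true := by
  decide +kernel

theorem elem_ok : levelsOk true (ents SylData.rows SylData.cents) [[0]] 0 SylData.elemAll = true := by
  decide +kernel

theorem abel_cent : centAbelOk (ents SylData.rows SylData.cents) SylData.abel4 = true := by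
  decide +kernel

theorem central_ok : centralOk (ents SylData.rows SylData.cents) [0, 9] = true := by decide +kernel

theorem cent128_ok : cent128Ok (ents SylData.rows SylData.cents) = true := by decide +kernel

end Cfsg.Agent.Lib.J4Local.AutSylow
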