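import Cfsg.Agent.Lib.J4Local.AutModel
import Cfsg.Agent.Lib.J4Local.SylTable
import Cfsg.Agent.Lib.J4Local.SylData
import Cfsg.Agent.Lib.J4Local.AutSylowChecks

/-!
# A Sylow 2-subgroup of Aut M22 with its multiplication table
-/

set_option autoImplicit false
set_option maxRecDepth 4000
set_option linter.style.haveILetI false

namespace Cfsg.Agent.Lib.J4Local.AutSylow

open Cfsg Cfsg.Agent.Lib.Golay Cfsg.Agent.Lib.Computation
open Cfsg.Agent.Lib.FusionAlperin.MathieuCert
open Cfsg.Agent.Lib.J4Local.AutModel
open Cfsg.Agent.Lib.J4Local.SylTable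

/-- The automorphism with a given code. -/
noncomputable def aut (c : ℕ) : AutM22 := if h : inBig c = true then toAut (el c h) else 1

theorem aut_eq {c : ℕ} (h : inBig c = true) : aut c = toAut (el c h) := dif_pos h

theorem aut_one : aut oneCode = 1 := by
  have h : inBig oneCode = true := by decide +kernel
  rw [aut_eq h, ← map_one toAut]
  exact congrArg toAut (Subtype.ext gperm_oneCode)

theorem aut_mul {a b c : ℕ} (ha : inBig a = true) (hb : inBig b = true) (hc : inBig c = true)
    (h : mulP 24 5 a b = c) : aut a * aut b = aut c := by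
  rw [aut_eq ha, aut_eq hb, aut_eq hc, ← map_mul]
  refine congrArg toAut (Subtype.ext ?_)
  show gperm a * gperm b = gperm c
  rw [← gperm_mul (inBig_spec ha).1 (inBig_spec hb).1, h]

theorem aut_inj {a b : ℕ} (ha : inBig a = true) (hb : inBig b = true) (ha' : canon a = a)
    (hb' : canon b = b) (h : aut a = aut b) : a = b := by
  rw [aut_eq ha, aut_eq hb] at h
  exact eq_of_gperm (inBig_spec ha).1 (inBig_spec hb).1 ha' hb' (congrArg Subtype.val (toAut.injective h))

theorem aut_mem_inn {c : ℕ} (h : inBig c = true) : aut c ∈ inn ↔ getW 5 c 23 = 23 := by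
  rw [aut_eq h, toAut_mem_inn]
  show gperm c none = none ↔ _
  rw [← idx_injective.eq_iff, idx_gperm (inBig_spec h).1]
  rfl

theorem exists_code (x : AutM22) : ∃ g : ↥big, toAut g = x := toAut.surjective x

/-- The value of an index. -/
noncomputable def val (i : ℕ) : AutM22 := aut (SylData.els.getD i 0)

theorem els_spec {i : ℕ} (hi : i < 256) :
    inBig (SylData.els.getD i 0) = true ∧ canon (SylData.els.getD i 0) = SylData.els.getD i 0 := by
  have h := elsOk_eq
  simp only [elsOk, Bool.and_eq_true, List.all_eq_true, Nat.beq_eq] at h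
  rw [List.getD_eq_getElem _ _ (show i < SylData.els.length by omega)]
  exact h.2 _ (List.getElem_mem _)

theorem getW8_lt (r i : ℕ) : getW 8 r i < 256 := by
  rw [getW_eq]
  exact Nat.mod_lt _ (Nat.two_pow_pos 8)

theorem val_zero : val 0 = 1 := by
  have h := elsOk_eq
  simp only [elsOk, Bool.and_eq_true, Nat.beq_eq] at h
  rw [val, h.1.2, aut_one]

theorem genRow {k : ℕ} (hk : k < 8) {i : ℕ} (hi : i < 256) :
    val (getW 8 (SylData.rows.getD (2 ^ k) 0) i) = val i * val (2 ^ k) := by
  have h := genRowsOk_eq
  have hl := elsOk_eq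
  simp only [elsOk, Bool.and_eq_true, Nat.beq_eq] at hl
  simp only [genRowsOk, List.all_eq_true, List.mem_range, forceNat_eq, Bool.and_eq_true, Nat.beq_eq,
    Nat.blt_eq] at h
  have hmem : (SylData.els.getD i 0, i) ∈ SylData.els.zip (List.range 256) := by
    refine List.mem_iff_getElem.mpr ⟨i, by simp [hl.1.1.1.1, hi], ?_⟩
    simp only [List.getElem_zip, List.getElem_range, Prod.mk.injEq, and_true]
    exact (List.getD_eq_getElem _ _ _).symm
  obtain ⟨hlt, he⟩ := h k hk _ hmem
  have hg : 2 ^ k < 256 := Nat.pow_lt_pow_right (by norm_num : 1 < 2) hk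
  exact (aut_mul (els_spec hi).1 (els_spec hg).1 (els_spec hlt).1 he).symm

theorem rowsAtZero {p : ℕ} (hp : p < 256) : getW 8 (SylData.rows.getD p 0) 0 = p := by
  have h := rowsAtZero_eq
  simp only [List.all_eq_true, List.mem_range, Nat.beq_eq] at h
  exact h p hp

theorem row_spec : ∀ j < 256, ∀ i < 256, val (getW 8 (SylData.rows.getD j 0) i) = val i * val j := by
  intro j
  induction j using Nat.strongRecOn with
  | ind j ih =>
    intro hj i hi
    rcases Nat.eq_zero_or_pos j with rfl | hpos
    · have h := rowZeroOk_eq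
      simp only [rowZeroOk, forceNat_eq, List.all_eq_true, List.mem_range, Nat.beq_eq] at h
      rw [h i hi, val_zero, mul_one]
    · obtain ⟨k, p, hk8, hp, rfl⟩ : ∃ k p, k < 8 ∧ p < 2 ^ k ∧ j = p + 2 ^ k := by
        refine ⟨Nat.log 2 j, j - 2 ^ Nat.log 2 j, ?_, ?_, ?_⟩
        all_goals
          have h1 : 2 ^ Nat.log 2 j ≤ j := Nat.pow_log_le_self 2 (by omega)
          have h2 : j < 2 ^ (Nat.log 2 j + 1) := Nat.lt_pow_succ_log_self (by norm_num) j
          rw [pow_succ] at h2
          first
            | omega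
            | (refine (Nat.pow_lt_pow_iff_right (by norm_num : 1 < 2)).mp ?_; omega)
      have hpos' : 0 < 2 ^ k := Nat.two_pow_pos k
      have hc := compRowsOk_eq
      simp only [compRowsOk, forceNat_eq, List.all_eq_true, List.mem_range, Nat.beq_eq] at hc
      have h0 := hc k hk8 p hp 0 (Nat.succ_pos _)
      rw [rowsAtZero hj, rowsAtZero (show p < 256 by omega)] at h0
      rw [hc k hk8 p hp i hi, genRow hk8 (getW8_lt _ _), ih p (by omega) (by omega) i hi, mul_assoc,
        ← genRow hk8 (show p < 256 by omega), ← h0]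

theorem model : SylTable.Model val SylData.rows SylData.cents where
  inj i hi j hj h := by
    have hl := elsOk_eq
    simp only [elsOk, Bool.and_eq_true, Nat.beq_eq] at hl
    have := aut_inj (els_spec hi).1 (els_spec hj).1 (els_spec hi).2 (els_spec hj).2 h
    have hi' : i < SylData.els.length := by omega
    have hj' : j < SylData.els.length := by omega
    rw [List.getD_eq_getElem _ _ hi', List.getD_eq_getElem _ _ hj'] at this
    exact (els_nodup.getElem_inj_iff).mp this
  one := val_zero
  lenR := by
    have hl := elsOk_eq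
    simp only [elsOk, Bool.and_eq_true, Nat.beq_eq] at hl
    exact hl.1.1.1.2
  lenC := by
    have hl := elsOk_eq
    simp only [elsOk, Bool.and_eq_true, Nat.beq_eq] at hl
    exact hl.1.1.2
  row i hi j hj := ⟨getW8_lt _ _, row_spec j hj i hi⟩
  cent := centOk_eq

end Cfsg.Agent.Lib.J4Local.AutSylow
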