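import Cfsg.Agent.Lib.J4Local.RowsC
import Cfsg.Agent.Lib.PGroups.Frattini

/-!
# The three statements, given the facts about `Aut M22`
-/

set_option autoImplicit false
set_option linter.unusedSectionVars false
set_option linter.unusedVariables false

namespace Cfsg.Agent.Lib.J4Local

open Cfsg.Agent.Lib.LargeExtraspecial.Basic
open scoped commutatorElement

variable {G : Type*} [Group G]

theorem centralizer_zpowers (p : G) :
    Subgroup.centralizer (Subgroup.zpowers p : Set G) = cz p := by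
  rw [Subgroup.zpowers_eq_closure, Subgroup.centralizer_closure]

theorem mem_normalizer_of_le [Finite G] {H : Subgroup G} {g : G}
    (h : ∀ x ∈ H, g * x * g⁻¹ ∈ H) : g ∈ Subgroup.normalizer (H : Set G) := by
  have heq : H.map (MulAut.conj g).toMonoidHom = H :=
    Subgroup.eq_of_le_of_card_ge (by rintro _ ⟨x, hx, rfl⟩; exact h x hx)
      (le_of_eq (Subgroup.card_map_of_injective (MulAut.conj g).injective).symm)
  refine Subgroup.mem_normalizer_iff.mpr fun x => ⟨fun hx => h x hx, fun hx => ?_⟩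
  have hx' : g * x * g⁻¹ ∈ H.map (MulAut.conj g).toMonoidHom := heq.symm ▸ hx
  obtain ⟨y, hy, hyx⟩ := hx'
  have : y = x := mul_left_cancel (mul_right_cancel (hyx : g * y * g⁻¹ = g * x * g⁻¹))
  exact this ▸ hy

/-- Part of S5563: the structure of `C(z) ∩ C(P)` and `N(P) ≤ C(z)`. -/
theorem sixfold [Finite G] [IsSimpleGroup G] (F : AutFacts) (hG : ¬ IsMulCommutative G) (z : G)
    (P : Subgroup G) (hJ : Cfsg.IsOfJankoFourTypeWith z P) :
    ⁅(Subgroup.centralizer ({z} : Set G) ⊓ Subgroup.centralizer (P : Set G)), (Subgroup.centralizer ({z} : Set G) ⊓ Subgroup.centralizer (P : Set G))⁆ = (Subgroup.centralizer ({z} : Set G) ⊓ Subgroup.centralizer (P : Set G)) ∧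
    IsCyclic ↥(Subgroup.center ↥(Subgroup.centralizer ({z} : Set G) ⊓ Subgroup.centralizer (P : Set G))) ∧ Nat.card ↥(Subgroup.center ↥(Subgroup.centralizer ({z} : Set G) ⊓ Subgroup.centralizer (P : Set G))) = 6 ∧
    Cfsg.Spor.IsoM22 (↥(Subgroup.centralizer ({z} : Set G) ⊓ Subgroup.centralizer (P : Set G)) ⧸ Subgroup.center ↥(Subgroup.centralizer ({z} : Set G) ⊓ Subgroup.centralizer (P : Set G))) ∧ Subgroup.normalizer (P : Set G) ≤ Subgroup.centralizer ({z} : Set G) := by
  obtain ⟨p, rfl, S⟩ := Setting.of_with hJ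
  rw [centralizer_zpowers]
  refine ⟨S.derived_eq hG F, ?_, ?_, ?_, fun g hg => mem_cz.mpr (S.normalizer_p_le hG F hg)⟩
  · rw [S.kHom_centre F, S.kHom_ker]
    exact isCyclic_of_surjective
      (Subgroup.subgroupOfEquivOfLe (H := Subgroup.zpowers (z * p))
        (Subgroup.zpowers_le.mpr (mul_mem S.z_mem_kSub S.p_mem_kSub))).symm.toMonoidHom
      (MulEquiv.surjective _)
  · rw [S.kHom_centre F, S.card_kHom_ker]
  · obtain ⟨iso⟩ := F.iso_inn
    exact ⟨((QuotientGroup.quotientMulEquivOfEq (S.kHom_centre F)).trans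
      (QuotientGroup.quotientKerEquivRange S.kHom)).trans
      ((MulEquiv.subgroupCongr (S.kHom_range F)).trans iso)⟩

namespace Setting

variable [Finite G] {z p : G}

/-- A setting whose element of order three lies in a given subgroup of order 27. -/
theorem exists_mem_three (S : Setting z p) (F : AutFacts) {R : Subgroup G} (hR : R ≤ cz z)
    (hc : Nat.card ↥R = 27) : ∃ p', Setting z p' ∧ p' ∈ R := by
  obtain ⟨R0, hR0, hR0c, hpR0⟩ := S.exists_sylow_three F S.p_mem_cz ⟨1, by simpa using S.p_cube⟩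
  obtain ⟨h, hh, hmap⟩ := S.conj_sylow_three F hR hR0 hc hR0c
  have S' := S.conj h
  rw [mul_inv_eq_iff_eq_mul.mpr (mem_cz.mp hh).eq] at S'
  exact ⟨_, S', hmap p hpR0⟩

theorem normalizer_three_le [IsSimpleGroup G] (hG : ¬ IsMulCommutative G) (S : Setting z p)
    (F : AutFacts) {R : Subgroup G} (hR : R ≤ cz z) (hc : Nat.card ↥R = 27) (hp : p ∈ R) :
    Subgroup.normalizer (R : Set G) ≤ cz z := by
  intro g hg
  refine mem_cz.mpr (S.normalizer_p_le hG F (mem_normalizer_of_le ?_))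
  have hgp : g * p * g⁻¹ ∈ Subgroup.zpowers p := by
    refine S.three_centre F hR hc hp ((Subgroup.mem_normalizer_iff.mp hg p).mp hp) fun y hy => ?_
    have hy' : g⁻¹ * y * g ∈ R := by
      refine (Subgroup.mem_normalizer_iff.mp hg _).mpr ?_
      rwa [show g * (g⁻¹ * y * g) * g⁻¹ = y by group]
    have h := (mem_kSub.mp (S.three_le_kSub hR hc hp hy')).2.symm.map (MulAut.conj g)
    simp only [MulAut.conj_apply] at h
    rw [show g * (g⁻¹ * y * g) * g⁻¹ = y by group] at h
    exact h.eq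
  rintro _ ⟨i, rfl⟩
  rw [← conj_zpow]
  exact zpow_mem hgp i

theorem card_normalizer_three [IsSimpleGroup G] (hG : ¬ IsMulCommutative G) (S : Setting z p)
    (F : AutFacts) {R : Subgroup G} (hR : R ≤ cz z) (hc : Nat.card ↥R = 27) (hp : p ∈ R) :
    Nat.card ↥(Subgroup.normalizer (R : Set G)) = 864 := by
  set N := Subgroup.normalizer (R : Set G) with hN
  have hNz : N ≤ cz z := S.normalizer_three_le hG F hR hc hp
  have hRK := S.three_le_kSub hR hc hp
  have himg9 := S.three_img F hR hc hp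
  let m : ↥N →* AutM22 := S.phi.comp (Subgroup.inclusion hNz)
  have hm : ∀ x : ↥N, m x = S.img x := fun x => (S.img_of_mem (hNz x.2)).symm
  have hconj : ∀ {a b : G}, a ∈ cz z → b ∈ cz z → S.img (a * b * a⁻¹) =
      S.img a * S.img b * (S.img a)⁻¹ := fun ha hb => by
    rw [S.img_mul (mul_mem ha hb) (inv_mem ha), S.img_mul ha hb, S.img_inv ha]
  have hrange : m.range = Subgroup.normalizer (S.imgS R : Set AutM22) := by
    ext a
    constructor
    · rintro ⟨g, rfl⟩
      refine mem_normalizer_of_le fun b hb => ?_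
      obtain ⟨x, hx, rfl⟩ := (S.mem_imgS hR).mp hb
      rw [hm, ← hconj (hNz g.2) (hR hx)]
      exact (S.mem_imgS hR).mpr ⟨_, (Subgroup.mem_normalizer_iff.mp g.2 x).mp hx, rfl⟩
    · intro ha
      obtain ⟨h0, hh0, rfl⟩ := S.img_surj a
      obtain ⟨f, hf, hfp⟩ : ∃ f ∈ Q z, f⁻¹ * h0 * p * (f⁻¹ * h0)⁻¹ = p ∨
          f⁻¹ * h0 * p * (f⁻¹ * h0)⁻¹ = p⁻¹ := by
        by_cases hi : h0 ∈ inner z p
        · obtain ⟨f, hf, hfc⟩ := S.exists_centralising hi
          exact ⟨f, hf, Or.inl (mul_inv_eq_iff_eq_mul.mpr hfc.eq)⟩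
        · obtain ⟨f, hf, hfc⟩ := S.exists_inverting hh0 hi
          exact ⟨f, hf, Or.inr hfc⟩
      set h := f⁻¹ * h0 with hh
      have hhc : h ∈ cz z := mul_mem (inv_mem (Q_le_cz z hf)) hh0
      have himg : S.img h = S.img h0 := by
        rw [hh, S.img_mul (inv_mem (Q_le_cz z hf)) hh0, S.img_inv (Q_le_cz z hf), S.img_Q hf,
          inv_one, one_mul]
      have hmem : h ∈ N := by
        refine mem_normalizer_of_le fun x hx => ?_
        have hxK := mem_kSub.mp (hRK hx)
        have hcK : h * x * h⁻¹ ∈ kSub z p := by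
          refine mem_kSub.mpr ⟨mem_cz.mp (mul_mem (mul_mem hhc (hR hx)) (inv_mem hhc)), ?_⟩
          have h1 := hxK.2.map (MulAut.conj h)
          simp only [MulAut.conj_apply] at h1
          rcases hfp with hc' | hc' <;> rw [hc'] at h1
          · exact h1
          · simpa using h1.inv_right
        have himgx : S.img (h * x * h⁻¹) ∈ S.imgS R := by
          rw [hconj hhc (hR hx), himg]
          exact (Subgroup.mem_normalizer_iff.mp ha _).mp ((S.mem_imgS hR).mpr ⟨x, hx, rfl⟩)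
        obtain ⟨y, hy, hyx⟩ := (S.mem_imgS hR).mp himgx
        obtain ⟨i, hi⟩ := S.img_eq_modP (hRK hy) hcK (pow_27 hc hy)
          (by rw [conj_pow, pow_27 hc hx, mul_one, mul_inv_cancel]) hyx
        rw [hi]
        exact mul_mem hy (zpow_mem hp i)
      exact ⟨⟨h, hmem⟩, (hm _).trans himg⟩
  have hzpN : Subgroup.zpowers (z * p) ≤ N := by
    refine Subgroup.zpowers_le.mpr (mul_mem (mem_normalizer_of_le fun x hx => ?_)
      (Subgroup.le_normalizer hp))
    rwa [(mem_cz.mp (hR hx)).symm.eq, mul_inv_cancel_right]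
  have hker : m.ker = (Subgroup.zpowers (z * p)).subgroupOf N := by
    ext g
    rw [MonoidHom.mem_ker, hm, Subgroup.mem_subgroupOf]
    constructor
    · intro h1
      have hgi := S.ker_le_inner (hNz g.2) h1
      have hgP : (g : G) * p * (g : G)⁻¹ ∈ Subgroup.zpowers p := by
        have hh := (Subgroup.mem_normalizer_iff.mp g.2 p).mp hp
        refine (S.three_ker hR hc hp hh).mp ?_
        rw [hconj (hNz g.2) S.p_mem_cz, S.img_p, h1]
        simp
      obtain ⟨i, hi⟩ := Subgroup.mem_zpowers_iff.mp hgP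
      have hgp : Commute (g : G) p := by
        have hd := hgi.2
        rw [← hi, ← zpow_neg_one, ← zpow_add] at hd
        have h0 := S.zpow_mem_Q hd
        refine mul_inv_eq_iff_eq_mul.mp ?_
        rw [← hi, show i = (i + -1) + 1 by ring, zpow_add, h0, one_mul, zpow_one]
      obtain ⟨j, hj | hj⟩ := S.ker_kSub (mem_kSub.mpr ⟨mem_cz.mp (hNz g.2), hgp⟩) h1 <;> rw [hj]
      · exact ⟨_, (S.zp_pow j).1⟩
      · exact ⟨_, (S.zp_pow j).2⟩
    · rintro ⟨i, hi⟩
      rw [← hi, S.img_eq_one (hi.symm ▸ hNz g.2)]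
      exact ⟨z ^ i, zpow_mem S.es.mem i, i, S.p_z.symm.mul_zpow i⟩
  have h := Subgroup.card_mul_index m.ker
  rw [Subgroup.index_ker, hrange, (F.sylow_three _ himg9).2.1, hker,
    Nat.card_congr (Subgroup.subgroupOfEquivOfLe hzpN).toEquiv, Nat.card_zpowers, S.ord_zp] at h
  exact h.symm

theorem three_extraspecial (S : Setting z p) (F : AutFacts) {R : Subgroup G} (hR : R ≤ cz z)
    (hc : Nat.card ↥R = 27) (hp : p ∈ R) :
    Cfsg.IsExtraspecial 3 ↥R ∧ Monoid.exponent ↥R = 3 := by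
  have := Fact.mk Nat.prime_three
  have hpg : IsPGroup 3 ↥R := IsPGroup.of_card (n := 3) (by rw [hc]; norm_num)
  have hcen : Subgroup.center ↥R = (Subgroup.zpowers p).subgroupOf R := by
    ext x
    rw [Subgroup.mem_center_iff, Subgroup.mem_subgroupOf]
    constructor
    · intro h
      exact S.three_centre F hR hc hp x.2 fun y hy => (congrArg Subtype.val (h ⟨y, hy⟩)).symm
    · rintro ⟨i, hi⟩ y
      refine Subtype.ext ?_
      simp only [Subgroup.coe_mul]
      rw [← hi]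
      exact ((mem_kSub.mp (S.three_le_kSub hR hc hp y.2)).2.zpow_right i).eq
  have hcen3 : Nat.card ↥(Subgroup.center ↥R) = 3 := by
    rw [hcen, Nat.card_congr (Subgroup.subgroupOfEquivOfLe (H := Subgroup.zpowers p)
      (Subgroup.zpowers_le.mpr hp)).toEquiv, Nat.card_zpowers, S.ord_p]
  have hcube : ∀ x : ↥R, x ^ 3 = 1 := fun x => Subtype.ext (S.three_cube F hR hc hp x.2)
  obtain ⟨a, ha, b, hb, hab⟩ := S.three_nonabelian F hR hc hp
  have hle : commutator ↥R ≤ Subgroup.center ↥R := by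
    rw [hcen]
    refine Subgroup.commutator_le.mpr fun x _ y _ => ?_
    rw [Subgroup.mem_subgroupOf]
    exact S.three_comm F hR hc hp x.2 y.2
  have hcomm : commutator ↥R = Subgroup.center ↥R := by
    refine Subgroup.eq_of_le_of_card_ge hle ?_
    rcases Nat.prime_three.eq_one_or_self_of_dvd _ (hcen3 ▸ Subgroup.card_dvd_of_le hle) with h | h
    · exfalso
      have hm : ⁅(⟨a, ha⟩ : ↥R), ⟨b, hb⟩⁆ ∈ commutator ↥R :=
        Subgroup.commutator_mem_commutator (Subgroup.mem_top _) (Subgroup.mem_top _)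
      rw [Subgroup.card_eq_one.mp h, Subgroup.mem_bot, commutatorElement_eq_one_iff_mul_comm] at hm
      exact hab (congrArg Subtype.val hm)
    · omega
  have hfr : frattini ↥R = Subgroup.center ↥R := le_antisymm
    (PGroups.frattini_le_of_pow_commutator (p := 3) _ (fun x => by rw [hcube x]; exact one_mem _)
      hle) (hcomm ▸ PGroups.commutator_le_frattini hpg)
  refine ⟨⟨⟨hpg, hfr, hcomm⟩, hcen3⟩, ?_⟩
  rcases Nat.prime_three.eq_one_or_self_of_dvd _
    (Monoid.exponent_dvd_of_forall_pow_eq_one hcube) with h | h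
  · exfalso
    have := Monoid.exp_eq_one_iff.mp h
    exact hab (congrArg Subtype.val (Subsingleton.elim ((⟨a, ha⟩ : ↥R) * ⟨b, hb⟩) (⟨b, hb⟩ * ⟨a, ha⟩)))
  · exact h

/-- A subgroup of order 27 of `C(z)` is a Sylow 3-subgroup of `G`. -/
theorem three_maximal [IsSimpleGroup G] (hG : ¬ IsMulCommutative G) (S : Setting z p)
    (F : AutFacts) {R : Subgroup G} (hR : R ≤ cz z) (hc : Nat.card ↥R = 27) (hp : p ∈ R) :
    ∃ P : Sylow 3 G, (P : Subgroup G) = R := by
  have := Fact.mk Nat.prime_three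
  obtain ⟨P, hP⟩ := (IsPGroup.of_card (p := 3) (n := 3) (by rw [hc]; norm_num) :
    IsPGroup 3 ↥R).exists_le_sylow
  refine ⟨P, ?_⟩
  by_contra hne
  have hlt : R.subgroupOf (P : Subgroup G) < ⊤ := by
    refine lt_top_iff_ne_top.mpr fun h => hne (le_antisymm ?_ hP)
    exact Subgroup.subgroupOf_eq_top.mp h
  have := P.2.isNilpotent
  obtain ⟨g, hg, hgR⟩ := SetLike.exists_of_lt (Group.normalizerCondition_of_isNilpotent _ hlt)
  have hgN : (g : G) ∈ Subgroup.normalizer (R : Set G) := by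
    refine mem_normalizer_of_le fun x hx => ?_
    exact Subgroup.mem_subgroupOf.mp
      ((Subgroup.mem_normalizer_iff.mp hg (⟨x, hP hx⟩ : ↥(P : Subgroup G))).mp hx)
  set X := (P : Subgroup G) ⊓ cz z with hX
  have hXc : X ≤ cz z := inf_le_right
  have hgX : (g : G) ∈ X := ⟨g.2, S.normalizer_three_le hG F hR hc hp hgN⟩
  obtain ⟨P', hP'⟩ := ((P.2.to_le inf_le_left : IsPGroup 3 ↥X).comap_of_injective
    (cz z).subtype Subtype.coe_injective).exists_le_sylow
  have hcard : Nat.card ↥X ≤ 27 := by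
    rw [← S.sylow_three_card F P', ← Nat.card_congr (Subgroup.subgroupOfEquivOfLe hXc).toEquiv]
    exact Subgroup.card_le_of_le hP'
  have heq : R = X := Subgroup.eq_of_le_of_card_ge (le_inf hP hR) (by rw [hc]; exact hcard)
  exact hgR (Subgroup.mem_subgroupOf.mpr (heq ▸ hgX))

/-- Elements of `R` outside `⟨p⟩` are conjugate. -/
theorem conj_off (S : Setting z p) (F : AutFacts) {R : Subgroup G} (hR : R ≤ cz z)
    (hc : Nat.card ↥R = 27) (hp : p ∈ R) {x y : G} (hx : x ∈ R) (hy : y ∈ R)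
    (hxP : x ∉ Subgroup.zpowers p) (hyP : y ∉ Subgroup.zpowers p) : IsConj x y := by
  have := Fact.mk Nat.prime_three
  have hK := S.three_le_kSub hR hc hp
  have hord : ∀ {a}, a ∈ R → a ∉ Subgroup.zpowers p → orderOf (S.img a) = 3 := fun ha haP =>
    orderOf_eq_prime (S.three_img_cube F hR hc hp ha)
      (fun h => haP ((S.three_ker hR hc hp ha).mp h))
  have hinn : ∀ {a}, a ∈ R → S.img a ∈ inn := fun ha =>
    (S.img_mem_inn F (hR ha)).mpr (S.kSub_le_inner (hK ha))
  obtain ⟨c, hc', hcx⟩ := F.conj_three _ (hinn hx) _ (hinn hy) (hord hx hxP) (hord hy hyP)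
  obtain ⟨k, hk, rfl⟩ := S.exists_lift F hc'
  have hk0 : k * x * k⁻¹ ∈ kSub z p := mul_mem (mul_mem hk (hK hx)) (inv_mem hk)
  obtain ⟨i, hi⟩ := S.img_eq_modP (hK hy) hk0 (pow_27 hc hy)
    (by rw [conj_pow, pow_27 hc hx, mul_one, mul_inv_cancel])
    (by rw [S.img_mul (mul_mem hk.1 (hR hx)) (inv_mem hk.1), S.img_mul hk.1 (hR hx),
      S.img_inv hk.1, hcx])
  obtain ⟨g, -, hg⟩ := S.three_exists_conj F hR hc hp hy hyP i
  exact (isConj_iff.mpr ⟨k, hi⟩ : IsConj x (y * p ^ i)).trans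
    ((isConj_iff.mpr ⟨g, hg⟩ : IsConj y (y * p ^ i)).symm)

/-- All elements of order three are conjugate to `p`. -/
theorem three_conj [IsSimpleGroup G] (hG : ¬ IsMulCommutative G) (S : Setting z p)
    (F : AutFacts) {x : G} (hx : orderOf x = 3) : IsConj p x := by
  have := Fact.mk Nat.prime_three
  obtain ⟨R, hR, hc, hp⟩ := S.exists_sylow_three F S.p_mem_cz ⟨1, by simpa using S.p_cube⟩
  obtain ⟨P, hP⟩ := S.three_maximal hG F hR hc hp
  obtain ⟨P', hP'⟩ := (IsPGroup.of_card (p := 3) (n := 1) (by rw [Nat.card_zpowers, hx, pow_one]) :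
    IsPGroup 3 ↥(Subgroup.zpowers x)).exists_le_sylow
  obtain ⟨a, ha⟩ := MulAction.exists_smul_eq G P' P
  have h2 : a * x * a⁻¹ ∈ ((a • P' : Sylow 3 G) : Subgroup G) :=
    Subgroup.smul_mem_pointwise_smul x (MulAut.conj a) _ (hP' (Subgroup.mem_zpowers x))
  rw [ha, hP] at h2
  set y := a * x * a⁻¹ with hy
  have hxy : IsConj x y := isConj_iff.mpr ⟨a, rfl⟩
  refine IsConj.trans ?_ hxy.symm
  have hy3 : orderOf y = 3 := (MulEquiv.orderOf_eq (MulAut.conj a) x).trans hx
  by_cases hyP : y ∈ Subgroup.zpowers p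
  · obtain ⟨i, hi⟩ := Subgroup.mem_zpowers_iff.mp hyP
    rcases S.p_zpow_cases i with h | h | h <;> rw [h] at hi <;> rw [← hi]
    · rw [← hi, orderOf_one] at hy3; omega
    · obtain ⟨m, -, hmp⟩ := S.moves
      refine isConj_iff.mpr ⟨m, hmp.trans ?_⟩
      exact inv_eq_of_mul_eq_one_right (by rw [← mul_assoc, ← sq, ← pow_succ, S.p_cube])
  · obtain ⟨t, htz, htp, htc, htne⟩ := S.exists_zero hG F
    obtain ⟨k, hk⟩ := isConj_iff.mp htc
    have T : Setting t (k * p * k⁻¹) := hk ▸ S.conj k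
    have A : At z p t (k * p * k⁻¹) := ⟨htz, htp, htne, T⟩
    set q := k⁻¹ * p * k with hq
    have hqz : q ∈ cz z := by
      refine mem_cz.mpr ?_
      have h := htp.symm.map (MulAut.conj k⁻¹)
      simp only [MulAut.conj_apply] at h
      rwa [show k⁻¹ * p * k⁻¹⁻¹ = q by rw [hq, inv_inv], show k⁻¹ * t * k⁻¹⁻¹ = z by
        rw [← hk]; group] at h
    have hqimg : S.img q ≠ 1 := by
      intro h1
      obtain ⟨e, he, i, hi⟩ := (S.img_eq_one hqz).mp h1
      refine S.p_not_ker F A ((A.T.img_eq_one (mem_cz.mpr htp.symm)).mpr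
        ⟨k * e * k⁻¹, hk ▸ isQ.mem_conj k he, i, ?_⟩)
      calc p = k * q * k⁻¹ := by rw [hq]; group
        _ = _ := by rw [hi, conj_zpow]; group
    have hq3 : q ^ 3 = 1 := by
      rw [hq, show k⁻¹ * p * k = k⁻¹ * p * k⁻¹⁻¹ by rw [inv_inv], conj_pow, S.p_cube, mul_one,
        mul_inv_cancel]
    obtain ⟨R1, hR1, hR1c, hqR1⟩ := S.exists_sylow_three F hqz ⟨1, by simpa using hq3⟩
    obtain ⟨h, hh, hmap⟩ := S.conj_sylow_three F hR hR1 hc hR1c
    have hv : h * q * h⁻¹ ∉ Subgroup.zpowers p := by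
      intro hv
      have h1 := (S.three_ker hR hc hp (hmap q hqR1)).mpr hv
      rw [S.img_mul (mul_mem hh hqz) (inv_mem hh), S.img_mul hh hqz, S.img_inv hh,
        conj_eq_one_iff] at h1
      exact hqimg h1
    have hpq : IsConj p (h * q * h⁻¹) :=
      isConj_iff.mpr ⟨h * k⁻¹, by rw [hq]; group⟩
    exact hpq.trans (S.conj_off F hR hc hp (hmap q hqR1) h2 hv hyP)

end Setting

/-- Part of S5564. -/
theorem one_class [Finite G] [IsSimpleGroup G] (F : AutFacts) (hG : ¬ IsMulCommutative G)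
    (hJ : Cfsg.IsOfJankoFourType G) : ∀ x y : G, orderOf x = 3 → orderOf y = 3 → IsConj x y := by
  obtain ⟨z, hz⟩ := hJ
  obtain ⟨p, S⟩ := Setting.of_at hz
  intro x y hx hy
  exact (S.three_conj hG F hx).symm.trans (S.three_conj hG F hy)

/-- Part of S5565. -/
theorem sylow_structure [Finite G] [IsSimpleGroup G] (F : AutFacts) (hG : ¬ IsMulCommutative G)
    (z : G) (hJ : Cfsg.IsOfJankoFourTypeAt z) (R : Sylow 3 G)
    (hR : (R : Subgroup G) ≤ Subgroup.centralizer ({z} : Set G)) :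
    Cfsg.IsExtraspecial 3 ↥(R : Subgroup G) ∧ Nat.card ↥(R : Subgroup G) = 27 ∧ Monoid.exponent ↥(R : Subgroup G) = 3 ∧
    Subgroup.normalizer ((R : Subgroup G) : Set G) ≤ Subgroup.centralizer ({z} : Set G) ∧ Nat.card ↥(Subgroup.normalizer ((R : Subgroup G) : Set G)) = 864 := by
  obtain ⟨p0, S0⟩ := Setting.of_at hJ
  have hc : Nat.card ↥(R : Subgroup G) = 27 := by
    have h := S0.sylow_three_card F (R.subtype hR)
    rwa [Sylow.coe_subtype, Nat.card_congr (Subgroup.subgroupOfEquivOfLe hR).toEquiv] at h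
  obtain ⟨p, S, hp⟩ := S0.exists_mem_three F hR hc
  exact ⟨(S.three_extraspecial F hR hc hp).1, hc, (S.three_extraspecial F hR hc hp).2,
    S.normalizer_three_le hG F hR hc hp, S.card_normalizer_three hG F hR hc hp⟩

end Cfsg.Agent.Lib.J4Local
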