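import Cfsg.Agent.Lib.J4Local.ESCount

/-!
# Two counting tools: pairings into `ZMod 2` and fixed points modulo a prime
-/

set_option autoImplicit false
set_option linter.unusedSectionVars false

namespace Cfsg.Agent.Lib.J4Local.Five

open Cfsg.Agent.Lib.LargeExtraspecial.Basic
open Cfsg.Agent.Lib.J4Local.ESCount

variable {G : Type*} [Group G] [Finite G]

/-- The kernels of a pairing. -/
theorem card_kernels {X D K F : Subgroup G} (f : G → G → ZMod 2)
    (hl : ∀ a ∈ X, ∀ b ∈ X, ∀ d ∈ D, f (a * b) d = f a d + f b d)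
    (hr : ∀ a ∈ X, ∀ c ∈ D, ∀ d ∈ D, f a (c * d) = f a c + f a d)
    (hK : ∀ a, a ∈ K ↔ a ∈ X ∧ ∀ d ∈ D, f a d = 0)
    (hF : ∀ d, d ∈ F ↔ d ∈ D ∧ ∀ a ∈ X, f a d = 0) :
    Nat.card ↥K * Nat.card ↥D = Nat.card ↥F * Nat.card ↥X := by
  classical
  have := Fintype.ofFinite G
  have row : ∀ a : ↥X, ∑ d : ↥D, sgn (f (a : G) (d : G)) =
      if (a : G) ∈ K then (Nat.card ↥D : ℤ) else 0 := by
    intro a
    split_ifs with hc
    · have : ∀ d : ↥D, sgn (f (a : G) (d : G)) = 1 := fun d => by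
        rw [((hK _).mp hc).2 d d.2, sgn_zero]
      simp [this, Nat.card_eq_fintype_card]
    · obtain ⟨d, hd, hne⟩ : ∃ d ∈ D, f (a : G) d ≠ 0 := by
        by_contra h
        push Not at h
        exact hc ((hK _).mpr ⟨a.2, h⟩)
      exact sum_sgn (fun d => f (a : G) d) (fun c hc' d hd' => hr a a.2 c hc' d hd') hd hne
  have col : ∀ d : ↥D, ∑ a : ↥X, sgn (f (a : G) (d : G)) =
      if (d : G) ∈ F then (Nat.card ↥X : ℤ) else 0 := by
    intro d
    split_ifs with hc
    · have : ∀ a : ↥X, sgn (f (a : G) (d : G)) = 1 := fun a => by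
        rw [((hF _).mp hc).2 a a.2, sgn_zero]
      simp [this, Nat.card_eq_fintype_card]
    · obtain ⟨a, ha, hne⟩ : ∃ a ∈ X, f a (d : G) ≠ 0 := by
        by_contra h
        push Not at h
        exact hc ((hF _).mpr ⟨d.2, h⟩)
      exact sum_sgn (fun a => f a (d : G)) (fun a ha' b hb' => hl a ha' b hb' d d.2) ha hne
  have tot := Finset.sum_comm (s := (Finset.univ : Finset ↥X)) (t := (Finset.univ : Finset ↥D))
    (f := fun a d => sgn (f (a : G) (d : G)))
  simp only [row, col, Finset.sum_ite, Finset.sum_const_zero, add_zero, Finset.sum_const,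
    nsmul_eq_mul] at tot
  have c1 : (Finset.univ.filter fun a : ↥X => (a : G) ∈ K).card = Nat.card ↥K := by
    rw [← Fintype.card_subtype, ← Nat.card_eq_fintype_card]
    exact Nat.card_congr
      ⟨fun x => ⟨x.1.1, x.2⟩, fun x => ⟨⟨x.1, ((hK _).mp x.2).1⟩, x.2⟩, fun _ => rfl,
        fun _ => rfl⟩
  have c2 : (Finset.univ.filter fun d : ↥D => (d : G) ∈ F).card = Nat.card ↥F := by
    rw [← Fintype.card_subtype, ← Nat.card_eq_fintype_card]
    exact Nat.card_congr
      ⟨fun x => ⟨x.1.1, x.2⟩, fun x => ⟨⟨x.1, ((hF _).mp x.2).1⟩, x.2⟩, fun _ => rfl,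
        fun _ => rfl⟩
  rw [c1, c2] at tot
  exact_mod_cast tot

/-- The fixed points of an element of prime order acting by conjugation. -/
theorem card_fixed_modEq {K : Subgroup G} {x : G} {n : ℕ} [Fact n.Prime] (hx : x ^ n = 1)
    (hK : ∀ v ∈ K, x * v * x⁻¹ ∈ K) :
    Nat.card ↥K ≡ Nat.card ↥(K ⊓ Subgroup.centralizer ({x} : Set G)) [MOD n] := by
  classical
  have := Fintype.ofFinite ↥K
  let σ : Equiv.Perm ↥K := Equiv.ofBijective (fun v => ⟨x * v * x⁻¹, hK v v.2⟩)
    (Finite.injective_iff_bijective.mp fun a b h => Subtype.ext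
      (mul_left_cancel (mul_right_cancel (congrArg Subtype.val h))))
  have hpow : ∀ (i : ℕ) (v : ↥K), ((σ ^ i) v : G) = x ^ i * v * (x ^ i)⁻¹ := by
    intro i
    induction i with
    | zero => intro v; simp
    | succ j ih =>
      intro v
      rw [pow_succ', Equiv.Perm.mul_apply]
      show x * ((σ ^ j) v : G) * x⁻¹ = _
      rw [ih v, pow_succ']
      group
  have hσ : σ ^ n ^ 1 = 1 := by
    refine Equiv.ext fun v => Subtype.ext ?_
    rw [pow_one, hpow, hx]
    simp
  have h := Equiv.Perm.card_compl_support_modEq (p := n) (n := 1) (σ := σ) hσ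
  rw [Nat.card_eq_fintype_card]
  refine h.symm.trans ?_
  have hfix : (σ.supportᶜ : Finset ↥K).card =
      Nat.card ↥(K ⊓ Subgroup.centralizer ({x} : Set G)) := by
    have hmem : ∀ v : ↥K, v ∈ (σ.supportᶜ : Finset ↥K) ↔
        (v : G) ∈ Subgroup.centralizer ({x} : Set G) := fun v => by
      rw [Finset.mem_compl, Equiv.Perm.notMem_support, mem_centralizer_single]
      constructor
      · intro hh
        exact (mul_inv_eq_iff_eq_mul.mp (congrArg Subtype.val hh : x * (v : G) * x⁻¹ = v)).symm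
      · intro hh
        exact Subtype.ext (mul_inv_eq_iff_eq_mul.mpr hh.symm.eq)
    rw [show (σ.supportᶜ : Finset ↥K) =
        Finset.univ.filter (fun v : ↥K => (v : G) ∈ Subgroup.centralizer ({x} : Set G)) from
      Finset.ext fun v => by rw [hmem, Finset.mem_filter]; simp,
      ← Fintype.card_subtype, ← Nat.card_eq_fintype_card]
    exact Nat.card_congr ⟨fun v => ⟨v.1.1, v.1.2, v.2⟩, fun v => ⟨⟨v.1, v.2.1⟩, v.2.2⟩,
      fun _ => rfl, fun _ => rfl⟩
  rw [hfix]

end Cfsg.Agent.Lib.J4Local.Five
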