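import Cfsg.Agent.Lib.J4Local.RowsT
import Cfsg.Agent.Lib.J4Local.ZeroC

/-!
# The centralizer and normalizer of `⟨p⟩` in `G`
-/

set_option autoImplicit false
set_option linter.unusedSectionVars false
set_option linter.unusedVariables false

namespace Cfsg.Agent.Lib.J4Local

open Cfsg.Agent.Lib.LargeExtraspecial.Basic
open scoped commutatorElement

variable {G : Type*} [Group G]

theorem eq_one_of_sq_odd [Finite G] {W : Subgroup G} (hodd : Odd (Nat.card ↥W)) {w : G}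
    (hw : w ∈ W) (h2 : w * w = 1) : w = 1 := by
  obtain ⟨m, hm⟩ := hodd
  have h := pow_card_eq_one' (x := (⟨w, hw⟩ : ↥W))
  have h' : w ^ Nat.card ↥W = 1 := congrArg Subtype.val h
  rwa [hm, pow_succ, pow_mul, sq, h2, one_pow, one_mul] at h'

theorem mem_of_sq_odd [Finite G] {W D : Subgroup G} (hodd : Odd (Nat.card ↥W)) {w : G}
    (hw : w ∈ W) (h2 : w * w ∈ D) : w ∈ D := by
  obtain ⟨m, hm⟩ := hodd
  have h := pow_card_eq_one' (x := (⟨w, hw⟩ : ↥W))
  have h' : w ^ Nat.card ↥W = 1 := congrArg Subtype.val h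
  rw [hm, pow_succ, pow_mul, sq] at h'
  rw [eq_inv_of_mul_eq_one_right h']
  exact inv_mem (pow_mem h2 m)

/-- An involution acting without fixed points on a group of odd order modulo central `D`
inverts it. -/
theorem inverts_mod [Finite G] {W D : Subgroup G} {s : G} (hs : s * s = 1)
    (hodd : Odd (Nat.card ↥W)) (hDW : D ≤ W) (hn : ∀ w ∈ W, s * w * s⁻¹ ∈ W)
    (hDc : ∀ d ∈ D, ∀ w ∈ W, Commute d w) (hDs : ∀ d ∈ D, Commute d s)
    (hfix : ∀ w ∈ W, Commute w s → w ∈ D) {w : G} (hw : w ∈ W) : s * w * s⁻¹ * w ∈ D := by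
  have hsd : ∀ d ∈ D, s * d * s⁻¹ = d := fun d hd => mul_inv_eq_iff_eq_mul.mpr (hDs d hd).symm.eq
  let φ : ↥W → ↥W := fun x => ⟨(x : G)⁻¹ * (s * x * s⁻¹), mul_mem (inv_mem x.2) (hn x x.2)⟩
  have hwd : ∀ x y : ↥W, (x : G)⁻¹ * y ∈ D → φ x = φ y := fun x y hxy => by
    refine Subtype.ext ?_
    set d := (x : G)⁻¹ * y with hd
    have hy : (y : G) = x * d := by rw [hd, mul_inv_cancel_left]
    show (x : G)⁻¹ * (s * x * s⁻¹) = (y : G)⁻¹ * (s * y * s⁻¹)
    rw [hy, show ((x : G) * d)⁻¹ * (s * (x * d) * s⁻¹) =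
      d⁻¹ * ((x : G)⁻¹ * (s * x * s⁻¹) * (s * d * s⁻¹)) by group, hsd d hxy,
      ← (hDc d hxy _ (mul_mem (inv_mem x.2) (hn x x.2))).eq, inv_mul_cancel_left]
  let ψ : ↥W ⧸ D.subgroupOf W → ↥W ⧸ D.subgroupOf W :=
    Quotient.lift (fun x => (QuotientGroup.mk (φ x) : ↥W ⧸ D.subgroupOf W)) fun x y h => by
      rw [hwd x y (Subgroup.mem_subgroupOf.mp (QuotientGroup.leftRel_apply.mp h))]
  have hinj : Function.Injective ψ := by
    intro a b
    induction a using QuotientGroup.induction_on with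
    | H x =>
      induction b using QuotientGroup.induction_on with
      | H y =>
        intro h
        have hd : ((φ x)⁻¹ * φ y : ↥W) ∈ D.subgroupOf W := QuotientGroup.eq.mp h
        rw [Subgroup.mem_subgroupOf] at hd
        set d := (((φ x)⁻¹ * φ y : ↥W) : G) with hdd
        have hd' : d = ((x : G)⁻¹ * (s * x * s⁻¹))⁻¹ * ((y : G)⁻¹ * (s * y * s⁻¹)) := rfl
        set c := (y : G) * (x : G)⁻¹ with hc
        have hcW : c ∈ W := mul_mem y.2 (inv_mem x.2)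
        have hsc : s * c * s⁻¹ = c * d := by
          calc s * c * s⁻¹ = (s * y * s⁻¹) * (s * x * s⁻¹)⁻¹ := by rw [hc]; group
            _ = y * (((x : G)⁻¹ * (s * x * s⁻¹)) * d) * (s * x * s⁻¹)⁻¹ := by
              rw [hd']; group
            _ = y * (d * ((x : G)⁻¹ * (s * x * s⁻¹))) * (s * x * s⁻¹)⁻¹ := by
              rw [(hDc d hd _ (mul_mem (inv_mem x.2) (hn x x.2))).eq]
            _ = y * (d * (x : G)⁻¹) := by group
            _ = c * d := by rw [(hDc d hd _ (inv_mem x.2)).eq, hc, mul_assoc]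
        have h2 : c * (d * d) = c := by
          calc c * (d * d) = (s * c * s⁻¹) * (s * d * s⁻¹) := by
                rw [hsc, hsd d hd]; exact (mul_assoc c d d).symm
            _ = s * (c * d) * s⁻¹ := by group
            _ = s * (s * c * s⁻¹) * s⁻¹ := by rw [hsc]
            _ = (s * s) * c * (s * s)⁻¹ := by group
            _ = c := by rw [hs]; group
        have hd1 : d = 1 := eq_one_of_sq_odd hodd (hDW hd) (mul_eq_left.mp h2)
        rw [hd1, mul_one] at hsc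
        have hcD : c ∈ D := hfix c hcW (mul_inv_eq_iff_eq_mul.mp hsc).symm
        rw [QuotientGroup.eq, Subgroup.mem_subgroupOf]
        show (x : G)⁻¹ * y ∈ D
        rwa [show (x : G)⁻¹ * y = (x : G)⁻¹ * (c * x) by rw [hc]; group,
          (hDc c hcD x x.2).eq, inv_mul_cancel_left]
  obtain ⟨a, ha⟩ := Finite.injective_iff_surjective.mp hinj (QuotientGroup.mk (⟨w, hw⟩ : ↥W))
  induction a using QuotientGroup.induction_on with
  | H x =>
    have hd : ((φ x)⁻¹ * ⟨w, hw⟩ : ↥W) ∈ D.subgroupOf W := QuotientGroup.eq.mp ha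
    rw [Subgroup.mem_subgroupOf] at hd
    set d := (((φ x)⁻¹ * ⟨w, hw⟩ : ↥W) : G) with hdd
    have hw' : w = (x : G)⁻¹ * (s * x * s⁻¹) * d := by
      rw [show d = ((x : G)⁻¹ * (s * x * s⁻¹))⁻¹ * w from rfl, mul_inv_cancel_left]
    have h1 : s * w * s⁻¹ = (s * x * s⁻¹)⁻¹ * x * d := by
      rw [hw', show s * ((x : G)⁻¹ * (s * x * s⁻¹) * d) * s⁻¹ =
        (s * x * s⁻¹)⁻¹ * ((s * s) * x * (s * s)⁻¹) * (s * d * s⁻¹) by group, hs, hsd d hd]
      group
    have e : s * w * s⁻¹ * w = d * d := by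
      rw [h1, hw']
      calc (s * x * s⁻¹)⁻¹ * x * d * ((x : G)⁻¹ * (s * x * s⁻¹) * d)
          = (s * x * s⁻¹)⁻¹ * x * (d * ((x : G)⁻¹ * (s * x * s⁻¹))) * d := by group
        _ = d * d := by rw [(hDc d hd _ (mul_mem (inv_mem x.2) (hn x x.2))).eq]; group
    rw [e]
    exact mul_mem hd hd

namespace Setting

variable [Finite G] {z p : G}

theorem exists_at [IsSimpleGroup G] (hG : ¬ IsMulCommutative G) (S : Setting z p) (F : AutFacts) :
    ∃ t r, At z p t r ∧ IsConj z t := by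
  obtain ⟨t, htz, htp, hc, hne⟩ := S.exists_zero hG F
  obtain ⟨r, T⟩ := S.exists_setting hc
  exact ⟨t, r, ⟨htz, htp, hne, T⟩, hc⟩

theorem derived_eq [IsSimpleGroup G] (hG : ¬ IsMulCommutative G) (S : Setting z p) (F : AutFacts) :
    ⁅kSub z p, kSub z p⁆ = kSub z p := by
  obtain ⟨t, r, A, -⟩ := S.exists_at hG F
  set K := kSub z p with hK
  set M := ⁅K, K⁆ with hM
  have hMK : M ≤ K := Subgroup.commutator_le.mpr
    (fun a ha b hb => mul_mem (mul_mem (mul_mem ha hb) (inv_mem ha)) (inv_mem hb))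
  have hMc : M ≤ cz z := hMK.trans inf_le_left
  have hconjimg : ∀ {x y : G}, x ∈ cz z → y ∈ cz z → S.img (x * y * x⁻¹) =
      S.img x * S.img y * (S.img x)⁻¹ := fun hx hy => by
    rw [S.img_mul (mul_mem hx hy) (inv_mem hx), S.img_mul hx hy, S.img_inv hx]
  have hNinn : S.imgS M ≤ inn := fun a ha => by
    obtain ⟨x, hx, rfl⟩ := (S.mem_imgS hMc).mp ha
    exact (S.img_mem_inn F (hMc hx)).mpr (S.kSub_le_inner (hMK hx))
  have hnorm : ∀ a ∈ S.imgS M, ∀ b ∈ inn, b * a * b⁻¹ ∈ S.imgS M := by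
    intro a ha b hb
    obtain ⟨x, hx, rfl⟩ := (S.mem_imgS hMc).mp ha
    obtain ⟨k, hk, rfl⟩ := S.exists_lift F hb
    refine (S.mem_imgS hMc).mpr ⟨k * x * k⁻¹, ?_, hconjimg hk.1 (hMc hx)⟩
    have : k * x * k⁻¹ * x⁻¹ ∈ M := Subgroup.commutator_mem_commutator hk (hMK hx)
    simpa using mul_mem this hx
  rcases F.eq_inn hNinn hnorm with h | h
  · exfalso
    have hab : ∀ a ∈ inn, ∀ b ∈ inn, a * b = b * a := by
      intro a ha b hb
      obtain ⟨x, hx, rfl⟩ := S.exists_lift F ha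
      obtain ⟨y, hy, rfl⟩ := S.exists_lift F hb
      have hm : S.img (x * y * x⁻¹ * y⁻¹) ∈ S.imgS M :=
        (S.mem_imgS hMc).mpr ⟨_, Subgroup.commutator_mem_commutator hx hy, rfl⟩
      rw [h, Subgroup.mem_bot, S.img_mul (mul_mem (mul_mem hx.1 hy.1) (inv_mem hx.1))
        (inv_mem hy.1), hconjimg hx.1 hy.1, S.img_inv hy.1] at hm
      exact mul_inv_eq_iff_eq_mul.mp (mul_inv_eq_one.mp hm)
    obtain ⟨a, ha, ha1⟩ : ∃ a ∈ inn, a ≠ 1 := by
      by_contra hcon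
      push Not at hcon
      have h1 : inn = ⊥ := (Subgroup.eq_bot_iff_forall _).mpr hcon
      have := F.card_inn
      rw [h1, Subgroup.card_bot] at this
      omega
    exact ha1 (F.centre_inn ha fun b hb => hab a ha b hb)
  · refine le_antisymm hMK fun x hx => ?_
    obtain ⟨y, hy, hyx⟩ := (S.mem_imgS hMc).mp
      (h.symm ▸ (S.img_mem_inn F hx.1).mpr (S.kSub_le_inner hx) : S.img x ∈ S.imgS M)
    have hzM : z ∈ M := S.z_mem_derived F A
    have hpM : p ∈ M := S.derived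
    obtain ⟨i, hi⟩ := S.ker_kSub (mul_mem (inv_mem (hMK hy)) hx) (by
      rw [S.img_mul (inv_mem (hMc hy)) hx.1, S.img_inv (hMc hy), hyx, inv_mul_cancel])
    rcases hi with hi | hi <;> rw [inv_mul_eq_iff_eq_mul.mp hi]
    · exact mul_mem hy (zpow_mem hpM i)
    · exact mul_mem hy (mul_mem hzM (zpow_mem hpM i))

/-- An odd subgroup of `C(p)` normalised by `C(z) ∩ C(p)` meets it inside `⟨p⟩`. -/
theorem odd_inter (S : Setting z p) (F : AutFacts) {W : Subgroup G}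
    (hodd : Odd (Nat.card ↥W)) (hn : ∀ k ∈ kSub z p, ∀ w ∈ W, k * w * k⁻¹ ∈ W) {w : G}
    (hw : w ∈ W) (hwK : w ∈ kSub z p) : w ∈ Subgroup.zpowers p := by
  set X := W ⊓ kSub z p with hX
  have hXc : X ≤ cz z := inf_le_right.trans inf_le_left
  have hNinn : S.imgS X ≤ inn := fun a ha => by
    obtain ⟨x, hx, rfl⟩ := (S.mem_imgS hXc).mp ha
    exact (S.img_mem_inn F (hXc hx)).mpr (S.kSub_le_inner hx.2)
  have hnorm : ∀ a ∈ S.imgS X, ∀ b ∈ inn, b * a * b⁻¹ ∈ S.imgS X := by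
    intro a ha b hb
    obtain ⟨x, hx, rfl⟩ := (S.mem_imgS hXc).mp ha
    obtain ⟨k, hk, rfl⟩ := S.exists_lift F hb
    refine (S.mem_imgS hXc).mpr ⟨k * x * k⁻¹, ⟨hn k hk x hx.1,
      (kSub z p).mul_mem ((kSub z p).mul_mem hk hx.2) ((kSub z p).inv_mem hk)⟩, ?_⟩
    rw [S.img_mul (mul_mem hk.1 (hXc hx)) (inv_mem hk.1), S.img_mul hk.1 (hXc hx), S.img_inv hk.1]
  rcases F.eq_inn hNinn hnorm with h | h
  · have h1 : S.img w = 1 := by
      rw [← Subgroup.mem_bot, ← h]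
      exact (S.mem_imgS hXc).mpr ⟨w, ⟨hw, hwK⟩, rfl⟩
    obtain ⟨i, hi | hi⟩ := S.ker_kSub hwK h1
    · exact hi ▸ Subgroup.zpow_mem_zpowers p i
    · exfalso
      obtain ⟨m, hm⟩ := hodd
      have h' : w ^ Nat.card ↥W = 1 :=
        congrArg Subtype.val (pow_card_eq_one' (x := (⟨w, hw⟩ : ↥W)))
      rw [hi, (S.p_z.symm.zpow_right i).mul_pow, hm, pow_succ z, pow_mul z, sq, S.z_sq, one_pow,
        one_mul] at h'
      have hzpow : z = (p ^ i) ^ (2 * m + 1) := by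
        rw [← eq_inv_of_mul_eq_one_right h' |>.trans S.es.zinv]
      have h3 : z ^ 3 = 1 := by
        rw [hzpow, ← pow_mul, mul_comm, pow_mul, ← zpow_natCast (p ^ i) 3, ← zpow_mul, mul_comm i,
          zpow_mul, zpow_natCast, S.p_cube, one_zpow, one_pow]
      rw [pow_succ, sq, S.z_sq, one_mul] at h3
      exact S.z_ne_one h3
  · exfalso
    have hdvd : Nat.card ↥(S.imgS X) ∣ Nat.card ↥W := by
      refine (Subgroup.card_map_dvd _ _).trans ?_
      rw [Nat.card_congr (Subgroup.subgroupOfEquivOfLe hXc).toEquiv]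
      exact Subgroup.card_dvd_of_le inf_le_left
    rw [h, F.card_inn] at hdvd
    exact (Nat.not_even_iff_odd.mpr hodd)
      (even_iff_two_dvd.mpr ((show 2 ∣ 443520 by norm_num).trans hdvd))

/-- `C(p) ≤ C(z)`. -/
theorem centralizer_p_le [IsSimpleGroup G] (hG : ¬ IsMulCommutative G) (S : Setting z p)
    (F : AutFacts) {g : G} (hg : Commute g p) : Commute g z := by
  classical
  obtain ⟨t, r, A0, -⟩ := S.exists_at hG F
  obtain ⟨r', A, hpr, ⟨h, hht, hhr, hhp⟩, R, hR, hRc, hrR, -⟩ := S.exists_axis F A0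
  have h32 := S.qFix_card F A hpr hht hhr hhp
  have hcent := S.card_cent_dvd F A hpr h32 hR hRc hrR
  have hck := (S.card_ck F A).1
  have hzp : z ∈ cz p := mem_cz.mpr S.p_z.symm
  set zc : ↥(cz p) := ⟨z, hzp⟩ with hzc
  have hzord : orderOf zc = 2 := by rw [hzc, Subgroup.orderOf_mk, S.ord_z]
  have hiso0 : Cfsg.IsIsolatedInvolution zc := ⟨hzord, fun c hc => Subtype.ext
    (S.z_isolated F (mem_cz.mp c.2) (congrArg Subtype.val hc.eq).symm)⟩
  have := Fact.mk Nat.prime_two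
  obtain ⟨P2, hP2⟩ := (IsPGroup.of_card (p := 2) (n := 1)
    (by rw [Nat.card_zpowers, hzord, pow_one]) : IsPGroup 2 ↥(Subgroup.zpowers zc)).exists_le_sylow
  have hiso := (ZStar.Consequences.isolatedIn_of_involution hiso0 P2
    (hP2 (Subgroup.mem_zpowers zc))).2
  obtain ⟨N, hN, hNodd, hmem⟩ :=
    ZStar.UniqueCase.zstar P2 zc hzord (hP2 (Subgroup.mem_zpowers zc)) hiso
  set W := N.map (cz p).subtype with hW
  have hWodd : Odd (Nat.card ↥W) := by
    rwa [hW, Subgroup.card_map_of_injective (Subgroup.subtype_injective _)]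
  have hWp : W ≤ cz p := Subgroup.map_subtype_le _
  have hWn : ∀ c ∈ cz p, ∀ w ∈ W, c * w * c⁻¹ ∈ W := by
    rintro c hc _ ⟨n, hn, rfl⟩
    exact ⟨⟨c, hc⟩ * n * ⟨c, hc⟩⁻¹, hN.conj_mem n hn _, rfl⟩
  have hWmem : ∀ c ∈ cz p, z * c * z⁻¹ * c⁻¹ ∈ W := fun c hc =>
    ⟨_, hmem ⟨c, hc⟩, rfl⟩
  set D := W ⊓ Subgroup.zpowers p with hD
  have hDp : ∀ {d}, d ∈ D → ∀ c ∈ cz p, Commute d c := by
    rintro d ⟨-, hd⟩ c hc
    obtain ⟨i, rfl⟩ := hd
    exact ((mem_cz.mp hc).zpow_right i).symm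
  have hWK : ∀ w ∈ W, w ∈ kSub z p → w ∈ D := fun w hw hwK =>
    ⟨hw, S.odd_inter F hWodd (fun k hk => hWn k hk.2) hw hwK⟩
  have htp : t ∈ cz p := mem_cz.mpr A.tp
  -- fixed points of `z` and of `t`
  have hfixz : ∀ w ∈ W, Commute w z → w ∈ D := fun w hw hc =>
    hWK w hw ⟨mem_cz.mpr hc, hWp hw⟩
  have hfixt : ∀ w ∈ W, Commute w t → w ∈ D := by
    have hDle : D ≤ W ⊓ cz t := fun d hd =>
      ⟨hd.1, mem_cz.mpr (hDp hd t htp)⟩
    have hmul := card_mul_card_le (A := W ⊓ cz t) (B := kSub z p ⊓ cz t) (E := cz t ⊓ cz p)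
      (fun x hx => ⟨hx.2, hWp hx.1⟩) (fun x hx => ⟨hx.2, hx.1.2⟩)
    have hinf : Nat.card ↥((W ⊓ cz t) ⊓ (kSub z p ⊓ cz t)) ≤ Nat.card ↥D :=
      Subgroup.card_le_of_le fun x hx => hWK x hx.1.1 hx.2.1
    have hupper := Nat.le_of_dvd (by norm_num) hcent
    have hlower := Nat.le_of_dvd Nat.card_pos hck
    have h2 : Nat.card ↥(W ⊓ cz t) * (2 ^ 7 * 9) ≤ 2 ^ 8 * 9 * Nat.card ↥D :=
      (Nat.mul_le_mul_left _ hlower).trans (hmul.trans (Nat.mul_le_mul hupper hinf))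
    obtain ⟨m, hm⟩ := Subgroup.card_dvd_of_le hDle
    have hmodd : Odd m := by
      have h1 : Odd (Nat.card ↥(W ⊓ cz t)) := Odd.of_dvd_nat hWodd
        (Subgroup.card_dvd_of_le inf_le_left)
      rw [hm] at h1
      exact (Nat.odd_mul.mp h1).2
    have hm2 : m ≤ 2 := by
      have hD0 : 0 < Nat.card ↥D := Nat.card_pos
      rw [hm] at h2
      have : Nat.card ↥D * m ≤ Nat.card ↥D * 2 := by nlinarith
      exact Nat.le_of_mul_le_mul_left this hD0
    have hm1 : m = 1 := by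
      obtain ⟨j, hj⟩ := hmodd
      omega
    have heq := Subgroup.eq_of_le_of_card_ge hDle (by rw [hm, hm1, mul_one])
    intro w hw hc
    exact heq.ge ⟨hw, mem_cz.mpr hc⟩
  have hinvz : ∀ w ∈ W, z * w * z⁻¹ * w ∈ D := fun w hw =>
    inverts_mod S.z_sq hWodd inf_le_left (fun w hw => hWn z hzp w hw)
      (fun d hd w hw => hDp hd w (hWp hw)) (fun d hd => hDp hd z hzp) hfixz hw
  have hinvt : ∀ w ∈ W, t * w * t⁻¹ * w ∈ D := fun w hw =>
    inverts_mod A.T.z_sq hWodd inf_le_left (fun w hw => hWn t htp w hw)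
      (fun d hd w hw => hDp hd w (hWp hw)) (fun d hd => hDp hd t htp) hfixt hw
  -- elements of `K` acting trivially on `W` modulo `D`
  let Kc : Subgroup G :=
    { carrier := {k | k ∈ kSub z p ∧ ∀ w ∈ W, k * w * k⁻¹ * w⁻¹ ∈ D}
      one_mem' := ⟨one_mem _, fun w _ => by simp⟩
      mul_mem' := by
        rintro a b ⟨ha, ha'⟩ ⟨hb, hb'⟩
        refine ⟨mul_mem ha hb, fun w hw => ?_⟩
        rw [show a * b * w * (a * b)⁻¹ * w⁻¹ =
          a * (b * w * b⁻¹ * w⁻¹) * a⁻¹ * (a * w * a⁻¹ * w⁻¹) by group,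
          (hDp (hb' w hw) a ha.2).symm.eq, mul_inv_cancel_right]
        exact mul_mem (hb' w hw) (ha' w hw)
      inv_mem' := by
        rintro a ⟨ha, ha'⟩
        refine ⟨inv_mem ha, fun w hw => ?_⟩
        have hd := inv_mem (ha' w hw)
        rw [show a⁻¹ * w * a⁻¹⁻¹ * w⁻¹ = a⁻¹ * (a * w * a⁻¹ * w⁻¹)⁻¹ * a by group,
          mul_assoc, (hDp hd a ha.2).eq, inv_mul_cancel_left]
        exact hd }
  have hKcc : Kc ≤ cz z := fun k hk => hk.1.1
  have hNinn : S.imgS Kc ≤ inn := fun a ha => by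
    obtain ⟨x, hx, rfl⟩ := (S.mem_imgS hKcc).mp ha
    exact (S.img_mem_inn F (hKcc hx)).mpr (S.kSub_le_inner hx.1)
  have hnorm : ∀ a ∈ S.imgS Kc, ∀ b ∈ inn, b * a * b⁻¹ ∈ S.imgS Kc := by
    intro a ha b hb
    obtain ⟨x, hx, rfl⟩ := (S.mem_imgS hKcc).mp ha
    obtain ⟨k, hk, rfl⟩ := S.exists_lift F hb
    refine (S.mem_imgS hKcc).mpr ⟨k * x * k⁻¹, ⟨mul_mem (mul_mem hk hx.1) (inv_mem hk),
      fun w hw => ?_⟩, ?_⟩
    · have h1 := hx.2 (k⁻¹ * w * k⁻¹⁻¹) (hWn k⁻¹ (inv_mem hk.2) w hw)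
      have h2 := hDp h1 k hk.2
      rw [show k * x * k⁻¹ * w * (k * x * k⁻¹)⁻¹ * w⁻¹ =
        k * (x * (k⁻¹ * w * k⁻¹⁻¹) * x⁻¹ * (k⁻¹ * w * k⁻¹⁻¹)⁻¹) * k⁻¹ by group, h2.symm.eq,
        mul_inv_cancel_right]
      exact h1
    · rw [S.img_mul (mul_mem hk.1 (hKcc hx)) (inv_mem hk.1), S.img_mul hk.1 (hKcc hx),
        S.img_inv hk.1]
  obtain ⟨htK, htQ, -⟩ := S.at_facts A
  have htzc : t * z ∈ Kc := by
    refine ⟨mul_mem htK S.z_mem_kSub, fun w hw => ?_⟩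
    have d1 := hinvz w hw
    have d2 := hinvt w hw
    set e1 := z * w * z⁻¹ * w with he1
    set e2 := t * w * t⁻¹ * w with he2
    have h1 : z * w * z⁻¹ = e1 * w⁻¹ := by rw [he1, mul_inv_cancel_right]
    have h2 : t * w * t⁻¹ = e2 * w⁻¹ := by rw [he2, mul_inv_cancel_right]
    rw [show t * z * w * (t * z)⁻¹ * w⁻¹ = t * (z * w * z⁻¹) * t⁻¹ * w⁻¹ by group, h1,
      show t * (e1 * w⁻¹) * t⁻¹ * w⁻¹ = t * e1 * t⁻¹ * (t * w * t⁻¹)⁻¹ * w⁻¹ by group,
      (hDp d1 t htp).symm.eq, mul_inv_cancel_right, h2,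
      show e1 * (e2 * w⁻¹)⁻¹ * w⁻¹ = e1 * (w * e2⁻¹ * w⁻¹) by group,
      (hDp (inv_mem d2) w (hWp hw)).symm.eq, mul_inv_cancel_right]
    exact mul_mem d1 (inv_mem d2)
  have himgK : S.imgS Kc = inn := by
    refine (F.eq_inn hNinn hnorm).resolve_left fun h0 => ?_
    have h1 : S.img (t * z) = 1 := by
      rw [← Subgroup.mem_bot, ← h0]
      exact (S.mem_imgS hKcc).mpr ⟨_, htzc, rfl⟩
    rw [S.img_mul htK.1 S.z_mem_kSub.1, S.img_Q S.es.mem, mul_one] at h1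
    exact S.img_ne_one htK.1 A.T.z_sq htQ h1
  have hKle : ⁅kSub z p, kSub z p⁆ ≤ Kc := by
    refine Subgroup.commutator_le.mpr fun a ha b hb => ?_
    have split : ∀ {x}, x ∈ kSub z p → ∃ c ∈ Kc, ∃ e, x = c * e ∧
        ∀ y ∈ kSub z p, Commute e y := by
      intro x hx
      obtain ⟨c, hc, hcx⟩ := (S.mem_imgS hKcc).mp
        (himgK.symm ▸ (S.img_mem_inn F hx.1).mpr (S.kSub_le_inner hx) : S.img x ∈ S.imgS Kc)
      refine ⟨c, hc, c⁻¹ * x, (mul_inv_cancel_left c x).symm, fun y hy => ?_⟩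
      obtain ⟨hy1, hy2⟩ := mem_kSub.mp hy
      obtain ⟨i, hi | hi⟩ := S.ker_kSub (mul_mem (inv_mem hc.1) hx) (by
        rw [S.img_mul (inv_mem hc.1.1) hx.1, S.img_inv hc.1.1, hcx, inv_mul_cancel]) <;>
        rw [hi]
      · exact (hy2.zpow_right i).symm
      · exact (hy1.mul_right (hy2.zpow_right i)).symm
    obtain ⟨a', ha', e, rfl, hec⟩ := split ha
    obtain ⟨b', hb', f, rfl, hfc⟩ := split hb
    have : ⁅a' * e, b' * f⁆ = ⁅a', b'⁆ := by
      simp only [commutatorElement_def]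
      calc a' * e * (b' * f) * (a' * e)⁻¹ * (b' * f)⁻¹
          = a' * (e * (b' * f) * e⁻¹) * a'⁻¹ * (b' * f)⁻¹ := by group
        _ = a' * (b' * f) * a'⁻¹ * (b' * f)⁻¹ := by
            rw [mul_inv_eq_iff_eq_mul.mpr (hec _ hb).eq]
        _ = a' * b' * (f * a'⁻¹ * f⁻¹) * b'⁻¹ := by group
        _ = _ := by rw [mul_inv_eq_iff_eq_mul.mpr (hfc _ (inv_mem ha'.1)).eq]
    rw [this, commutatorElement_def]
    exact mul_mem (mul_mem (mul_mem ha' hb') (inv_mem ha')) (inv_mem hb')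
  have hzKc : z ∈ Kc := hKle (S.z_mem_derived F A)
  have hWD : ∀ w ∈ W, w ∈ D := fun w hw => by
    refine mem_of_sq_odd hWodd hw ?_
    have h := mul_mem (inv_mem (hzKc.2 w hw)) (hinvz w hw)
    rwa [show (z * w * z⁻¹ * w⁻¹)⁻¹ * (z * w * z⁻¹ * w) = w * w by group] at h
  have hgp : g ∈ cz p := mem_cz.mpr hg
  obtain ⟨i, hi⟩ := Subgroup.mem_zpowers_iff.mp (hWD _ (hWmem g hgp)).2
  have hi' : z * g * z⁻¹ = p ^ i * g := by rw [hi, inv_mul_cancel_right]
  have hgi : Commute g (p ^ i) := hg.zpow_right i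
  have h2 : g = p ^ i * (p ^ i) * g := by
    calc g = (z * z) * g * (z * z)⁻¹ := by rw [S.z_sq]; group
      _ = z * (z * g * z⁻¹) * z⁻¹ := by group
      _ = z * (p ^ i * g) * z⁻¹ := by rw [hi']
      _ = (z * p ^ i * z⁻¹) * (z * g * z⁻¹) := by group
      _ = p ^ i * (p ^ i) * g := by
        rw [hi', mul_inv_eq_iff_eq_mul.mpr (S.p_z.symm.zpow_right i).eq, mul_assoc]
  have h2' : p ^ i * p ^ i = 1 := mul_eq_right.mp h2.symm
  have h1 : p ^ i = 1 := by
    have h3 : (p ^ i) ^ 3 = 1 := by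
      rw [← zpow_natCast, ← zpow_mul, mul_comm, zpow_mul, zpow_natCast, S.p_cube, one_zpow]
    rwa [pow_succ, sq, h2', one_mul] at h3
  rw [h1, one_mul] at hi'
  exact (mul_inv_eq_iff_eq_mul.mp hi').symm

theorem conj_zpowers_cases (S : Setting z p) {g : G}
    (hg : g ∈ Subgroup.normalizer (Subgroup.zpowers p : Set G)) :
    g * p * g⁻¹ = p ∨ g * p * g⁻¹ = p * p := by
  obtain ⟨i, hi⟩ := Subgroup.mem_zpowers_iff.mp
    ((Subgroup.mem_normalizer_iff.mp hg p).mp (Subgroup.mem_zpowers p))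
  rcases S.p_zpow_cases i with h | h | h <;> rw [h] at hi
  · exfalso
    have : p = 1 := by
      calc p = g⁻¹ * (g * p * g⁻¹) * g := by group
        _ = 1 := by rw [← hi]; group
    simpa [this] using S.ord_p
  · exact Or.inl hi.symm
  · exact Or.inr hi.symm

/-- `N(⟨p⟩) ≤ C(z)`. -/
theorem normalizer_p_le [IsSimpleGroup G] (hG : ¬ IsMulCommutative G) (S : Setting z p)
    (F : AutFacts) {g : G} (hg : g ∈ Subgroup.normalizer (Subgroup.zpowers p : Set G)) :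
    Commute g z := by
  have hcl := fun {c : G} (hc : Commute c p) => S.centralizer_p_le hG F hc
  have hpow : ∃ n : ℕ, (g * p * g⁻¹) ^ n = p := by
    rcases S.conj_zpowers_cases hg with h | h <;> rw [h]
    · exact ⟨1, pow_one p⟩
    · exact ⟨2, by rw [sq, show p * p * (p * p) = p ^ 3 * p by rw [pow_succ, sq]; group, S.p_cube,
        one_mul]⟩
  obtain ⟨n, hn⟩ := hpow
  have hzp' : Commute (g * z * g⁻¹) p := by
    have h := (S.p_z.symm.map (MulAut.conj g)).pow_right n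
    simp only [MulAut.conj_apply] at h
    rwa [hn] at h
  have hconjp : ∀ {x}, Commute x p → Commute (g⁻¹ * x * g) p := by
    intro x hx
    have hx' : Commute x (g * p * g⁻¹) := by
      rcases S.conj_zpowers_cases hg with h | h <;> rw [h]
      exacts [hx, hx.mul_right hx]
    simpa [mul_assoc] using hx'.map (MulAut.conj g⁻¹)
  have hmem : g * z * g⁻¹ ∈ kSub z p := mem_kSub.mpr ⟨hcl hzp', hzp'⟩
  have hcentral : ∀ x ∈ kSub z p, Commute (g * z * g⁻¹) x := fun x hx => by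
    have h := (hcl (hconjp (mem_kSub.mp hx).2)).symm.map (MulAut.conj g)
    simp only [MulAut.conj_apply] at h
    rwa [show g * (g⁻¹ * x * g) * g⁻¹ = x by group] at h
  have hcen : (⟨_, hmem⟩ : ↥(kSub z p)) ∈ Subgroup.center ↥(kSub z p) :=
    Subgroup.mem_center_iff.mpr fun x => Subtype.ext (hcentral x x.2).symm.eq
  rw [S.kHom_centre F, MonoidHom.mem_ker, S.kHom_apply] at hcen
  have hsq : g * z * g⁻¹ * (g * z * g⁻¹) = 1 := by
    rw [show g * z * g⁻¹ * (g * z * g⁻¹) = g * (z * z) * g⁻¹ by group, S.z_sq]; group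
  have key : g * z * g⁻¹ = z := by
    have hpi : ∀ i : ℤ, p ^ i * p ^ i = 1 → p ^ i = 1 := fun i h => by
      have h3 : (p ^ i) ^ 3 = 1 := by
        rw [← zpow_natCast, ← zpow_mul, mul_comm, zpow_mul, zpow_natCast, S.p_cube, one_zpow]
      rwa [pow_succ, sq, h, one_mul] at h3
    obtain ⟨i, hi | hi⟩ := S.ker_kSub hmem hcen
    · exfalso
      rw [hi] at hsq
      rw [hpi i hsq] at hi
      exact S.z_ne_one (conj_eq_one_iff.mp hi)
    · rw [hi, (S.p_z.zpow_left i).mul_mul_mul_comm, S.z_sq, one_mul] at hsq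
      rw [hi, hpi i hsq, mul_one]
  exact mul_inv_eq_iff_eq_mul.mp key

end Setting

end Cfsg.Agent.Lib.J4Local
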