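import Cfsg.Agent.Lib.J4Local.PairLine
import Cfsg.Agent.Lib.J4Local.Five

/-!
# An element of order five in `C(z) ∩ C(e)` and the symmetry of lines
-/

set_option autoImplicit false
set_option linter.unusedSectionVars false
set_option linter.unusedVariables false

namespace Cfsg.Agent.Lib.J4Local

open Cfsg.Agent.Lib.LargeExtraspecial.Basic

variable {G : Type*} [Group G]

theorem two_le_card_of_index {A B : Subgroup G} [Finite G] (hle : A ≤ B)
    (h : (A.subgroupOf B).index ≤ 2) : Nat.card ↥B ≤ 2 * Nat.card ↥A := by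
  have h1 := Subgroup.card_mul_index (A.subgroupOf B)
  rw [Nat.card_congr (Subgroup.subgroupOfEquivOfLe hle).toEquiv] at h1
  calc Nat.card ↥B = Nat.card ↥A * (A.subgroupOf B).index := h1.symm
    _ ≤ Nat.card ↥A * 2 := Nat.mul_le_mul_left _ h
    _ = 2 * Nat.card ↥A := mul_comm _ _

/-- The centraliser of an element in a subgroup where conjugation takes two values. -/
theorem card_le_two_cz [Finite G] {X : Subgroup G} {d : G}
    (hmul : ∀ a ∈ X, ∀ b ∈ X, chi (a * b) d = chi a d + chi b d) :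
    Nat.card ↥X ≤ 2 * Nat.card ↥(X ⊓ cz d) := by
  by_cases hall : X ≤ cz d
  · rw [inf_eq_left.mpr hall]; omega
  · obtain ⟨a, ha, hac⟩ := SetLike.not_le_iff_exists.mp hall
    refine two_le_card_of_index inf_le_left (le_of_eq ?_)
    rw [Subgroup.index_eq_two_iff]
    refine ⟨⟨a, ha⟩, fun c => ?_⟩
    simp only [Subgroup.mem_subgroupOf, Subgroup.coe_mul]
    by_cases hc : (c : G) ∈ X ⊓ cz d
    · exact Or.inr ⟨hc, fun hh => hac ((Subgroup.mul_mem_cancel_left _ hc).mp hh).2⟩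
    · refine Or.inl ⟨⟨mul_mem c.2 ha, mem_cz.mpr (chi_eq_zero.mp ?_)⟩, hc⟩
      have c1 : chi (c : G) d = 1 := ESCount.zmod_two _ fun h0 =>
        hc ⟨c.2, mem_cz.mpr (chi_eq_zero.mp h0)⟩
      have c2 : chi a d = 1 := ESCount.zmod_two _ fun h0 =>
        hac (mem_cz.mpr (chi_eq_zero.mp h0))
      rw [hmul c c.2 a ha, c1, c2]
      decide

namespace Setting

variable [Finite G] {z p e q : G}

theorem zpow_p_fix (S : Setting z p) (he : e ∈ Q z) (he1 : e ≠ 1) (hne : e ≠ z) {i : ℤ}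
    (h : ModZ z (p ^ i * e * (p ^ i)⁻¹) e) : p ^ i = 1 := by
  have h3 : p ^ (3 : ℤ) = 1 := by
    rw [show (3 : ℤ) = ((3 : ℕ) : ℤ) from rfl, zpow_natCast, S.p_cube]
  have hk3 : p ^ i = p ^ (i % 3) := by
    conv_lhs => rw [← Int.emod_add_mul_ediv i 3, zpow_add, zpow_mul, h3, one_zpow, mul_one]
  rw [hk3] at h ⊢
  have hn := S.ne_modZ_pe he he1 hne
  have hr : i % 3 = 0 ∨ i % 3 = 1 ∨ i % 3 = 2 := by omega
  rcases hr with hr | hr | hr <;> rw [hr] at h ⊢
  · exact zpow_zero p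
  · rw [zpow_one] at h
    exact absurd h hn
  · exfalso
    refine hn ?_
    have hinv : p ^ (2 : ℤ) = p⁻¹ := eq_inv_of_mul_eq_one_left (by rw [← zpow_add_one]; exact h3)
    rw [hinv, inv_inv] at h
    have hz : p * z * p⁻¹ = z := by rw [S.p_z.eq, mul_inv_cancel_right]
    rcases h with h | h
    · left
      calc p * e * p⁻¹ = p * (p⁻¹ * e * p) * p⁻¹ := by rw [h]
        _ = e := by group
    · right
      have h1 : e = p * e * p⁻¹ * z := by
        calc e = p * (p⁻¹ * e * p) * p⁻¹ := by group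
          _ = p * e * p⁻¹ * (p * z * p⁻¹) := by rw [h]; group
          _ = _ := by rw [hz]
      calc p * e * p⁻¹ = p * e * p⁻¹ * z * z := by rw [mul_assoc _ z z, S.z_sq, mul_one]
        _ = e * z := by rw [← h1]

theorem mem_Q_of_img_one_pair (S : Setting z p) (he : e ∈ Q z) (he1 : e ≠ 1) (hne : e ≠ z)
    {x : G} (hxz : x ∈ cz z) (hxe : x ∈ cz e) (h : S.img x = 1) : x ∈ cQ z e := by
  obtain ⟨f, hf, i, hi⟩ := (S.img_eq_one hxz).mp h
  have hi1 : p ^ i = 1 := by
    refine S.zpow_p_fix he he1 hne ?_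
    have hpe : p ^ i * e * (p ^ i)⁻¹ ∈ Q z := isQ.normal (S.p_z.zpow_left i) he
    have hx : x * e * x⁻¹ = e := mul_inv_eq_iff_eq_mul.mpr (mem_cz.mp hxe).eq
    rw [hi] at hx
    have h1 : p ^ i * e * (p ^ i)⁻¹ = f⁻¹ * e * f := by
      calc p ^ i * e * (p ^ i)⁻¹ = f⁻¹ * (f * p ^ i * e * (f * p ^ i)⁻¹) * f := by group
        _ = _ := by rw [hx]
    rw [h1]
    simpa using S.conj_eq_of_mem (inv_mem hf) he
  rw [hi1, mul_one] at hi
  exact mem_cQ.mpr ⟨hi ▸ hf, mem_cz.mp hxe⟩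

/-- The order of the stabiliser of a neighbour. -/
theorem card_stab (S : Setting z p) (F : AutFacts) (T : Setting e q) (he : e ∈ Q z)
    (hne : e ≠ z) : ∃ r, r ∣ 3840 ∧ Nat.card ↥(cz z ⊓ cz e) = 2 ^ 12 * r := by
  classical
  set st := cz z ⊓ cz e with hst
  have hle : st ≤ cz z := inf_le_left
  set m : ↥st →* AutM22 := S.phi.comp (Subgroup.inclusion hle) with hm
  have hker : Nat.card ↥m.ker = 2 ^ 12 := by
    rw [← S.card_cQ_self T he hne]
    refine Nat.card_congr ⟨fun x => ⟨x.1.1, ?_⟩, fun x => ⟨⟨x.1, ?_⟩, ?_⟩, fun _ => rfl, fun _ => rfl⟩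
    · exact S.mem_Q_of_img_one_pair he T.z_ne_one hne x.1.2.1 x.1.2.2
        ((S.img_of_mem _).trans x.2)
    · exact ⟨Q_le_cz z (mem_cQ.mp x.2).1, mem_cz.mpr (mem_cQ.mp x.2).2⟩
    · exact ((S.img_of_mem _).symm.trans (S.img_Q (mem_cQ.mp x.2).1) :)
  have hN : m.range ≤ Subgroup.normalizer (S.imgS (cQ e z) : Set AutM22) := by
    rintro _ ⟨⟨y, hy⟩, rfl⟩
    have hle' : cQ e z ≤ cz z := inf_le_right
    have key : ∀ {w : G}, w ∈ cQ e z → ∀ {y : G}, y ∈ st → y * w * y⁻¹ ∈ cQ e z := by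
      intro w hw y hy
      obtain ⟨hwe, hwz⟩ := mem_cQ.mp hw
      refine mem_cQ.mpr ⟨isQ.normal (mem_cz.mp hy.2) hwe, ?_⟩
      have := hwz.map (MulAut.conj y)
      simpa [mul_inv_eq_iff_eq_mul.mpr (mem_cz.mp hy.1).eq] using this
    rw [Subgroup.mem_normalizer_iff]
    intro a
    have hmy : m ⟨y, hy⟩ = S.img y := (S.img_of_mem _).symm
    rw [hmy]
    constructor
    · intro ha
      obtain ⟨w, hw, rfl⟩ := (S.mem_imgS hle').mp ha
      refine (S.mem_imgS hle').mpr ⟨y * w * y⁻¹, key hw hy, ?_⟩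
      rw [S.img_mul (mul_mem (hle hy) (hle' hw)) (inv_mem (hle hy)), S.img_mul (hle hy) (hle' hw),
        S.img_inv (hle hy)]
    · intro ha
      obtain ⟨w, hw, hwa⟩ := (S.mem_imgS hle').mp ha
      refine (S.mem_imgS hle').mpr ⟨y⁻¹ * w * y, by simpa using key hw (inv_mem hy), ?_⟩
      rw [S.img_mul (mul_mem (inv_mem (hle hy)) (hle' hw)) (hle hy),
        S.img_mul (inv_mem (hle hy)) (hle' hw), S.img_inv (hle hy), hwa]
      group
  have hdvd : Nat.card ↥m.range ∣ 3840 := by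
    have hze := S.mem_swap F T he hne
    exact (Subgroup.card_dvd_of_le hN).trans (F.exp2_normalizer _
      (T.img_pair_exp F S hze (Ne.symm hne)) (T.card_img_pair F S hze (Ne.symm hne)))
  have hcard := Subgroup.card_mul_index m.ker
  rw [Subgroup.index_ker, hker] at hcard
  exact ⟨_, hdvd, hcard.symm⟩

/-- There is an element of order five centralising `z` and `e`. -/
theorem exists_five (S : Setting z p) (F : AutFacts) (T : Setting e q) (he : e ∈ Q z)
    (hne : e ≠ z) : ∃ x, orderOf x = 5 ∧ Commute x z ∧ Commute x e ∧ x ∈ inner z p ∧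
      orderOf (S.img x) = 5 := by
  classical
  set st := cz z ⊓ cz e with hst
  have hle : st ≤ cz z := inf_le_left
  -- orbit bound
  have horb : Nat.card ↥(cz z) ≤ 4160 * Nat.card ↥st := by
    let g : ↥(cz z) ⧸ st.subgroupOf (cz z) → {f : ↥(Q z) // (f : G) * f = 1} :=
      Quotient.lift (fun h => ⟨⟨(h : G) * e * (h : G)⁻¹, isQ.normal (mem_cz.mp h.2) he⟩, by
          show (h : G) * e * (h : G)⁻¹ * ((h : G) * e * (h : G)⁻¹) = 1
          calc _ = (h : G) * (e * e) * (h : G)⁻¹ := by group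
            _ = 1 := by rw [T.z_sq]; group⟩) (by
        intro a b hab
        have hab' : a⁻¹ * b ∈ st.subgroupOf (cz z) := QuotientGroup.leftRel_apply.mp hab
        have hc : ((a : G)⁻¹ * b) * e * ((a : G)⁻¹ * b)⁻¹ = e :=
          mul_inv_eq_iff_eq_mul.mpr (mem_cz.mp (Subgroup.mem_subgroupOf.mp hab').2).eq
        refine Subtype.ext (Subtype.ext ?_)
        show (a : G) * e * (a : G)⁻¹ = (b : G) * e * (b : G)⁻¹
        conv_lhs => rw [← hc]
        group)
    have hg : Function.Injective g := by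
      intro a b
      induction a using QuotientGroup.induction_on with
      | H a =>
        induction b using QuotientGroup.induction_on with
        | H b =>
          intro h
          have h' : (a : G) * e * (a : G)⁻¹ = (b : G) * e * (b : G)⁻¹ :=
            congrArg (fun y : {f : ↥(Q z) // (f : G) * f = 1} => ((y.1 : ↥(Q z)) : G)) h
          rw [QuotientGroup.eq, Subgroup.mem_subgroupOf]
          refine ⟨(a⁻¹ * b).2, mem_cz.mpr (mul_inv_eq_iff_eq_mul.mp ?_)⟩
          calc ((a⁻¹ * b : ↥(cz z)) : G) * e * ((a⁻¹ * b : ↥(cz z)) : G)⁻¹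
              = (a : G)⁻¹ * ((b : G) * e * (b : G)⁻¹) * a := by
                simp only [Subgroup.coe_mul, Subgroup.coe_inv]; group
            _ = e := by rw [← h']; group
    have hN := ESCount.sq_count S.es
    rw [S.card_E] at hN
    have hNle : Nat.card {f : ↥(Q z) // (f : G) * f = 1} ≤ 4160 := by
      by_contra hlt
      push Not at hlt
      push_cast at hN
      have h129 : (130 : ℤ) ≤ 2 * (Nat.card {f : ↥(Q z) // (f : G) * f = 1} : ℤ) - 2 ^ 13 := by
        have : (4161 : ℤ) ≤ (Nat.card {f : ↥(Q z) // (f : G) * f = 1} : ℤ) := by exact_mod_cast hlt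
        norm_num
        linarith
      nlinarith
    have hidx := Subgroup.card_mul_index (st.subgroupOf (cz z))
    rw [Nat.card_congr (Subgroup.subgroupOfEquivOfLe hle).toEquiv] at hidx
    rw [← hidx, mul_comm]
    refine Nat.mul_le_mul_right _ ?_
    exact (Nat.card_le_card_of_injective g hg).trans hNle
  rw [S.card_cz F] at horb
  obtain ⟨r, hdvd, hcard⟩ := S.card_stab F T he hne
  rw [← hst] at hcard
  have h1280 : 1280 ≤ r := by omega
  have h5 : 5 ∣ Nat.card ↥st := by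
    rw [hcard]
    refine dvd_mul_of_dvd_right ?_ _
    obtain ⟨k, hk⟩ := hdvd
    have hk3 : k ≤ 3 := by
      by_contra hlt
      push Not at hlt
      have := Nat.mul_le_mul h1280 hlt
      omega
    interval_cases k <;> omega
  have := Fact.mk Nat.prime_five
  obtain ⟨⟨x, hx⟩, hx5⟩ := exists_prime_orderOf_dvd_card' 5 h5
  rw [Subgroup.orderOf_mk] at hx5
  have hpow : x ^ 5 = 1 := by rw [← hx5, pow_orderOf_eq_one]
  have hxi : x ∈ inner z p := by
    have h2 : x * x ∈ inner z p := by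
      by_cases hh : x ∈ inner z p
      · exact mul_mem hh hh
      · exact S.mul_mem_inner (hle hx) (hle hx) hh hh
    have : (x * x) ^ 3 = x := by rw [← sq, ← pow_mul, pow_succ, hpow, one_mul]
    rw [← this]
    exact pow_mem h2 3
  refine ⟨x, hx5, mem_cz.mp hx.1, mem_cz.mp hx.2, hxi, ?_⟩
  refine orderOf_eq_prime (by rw [← S.img_pow (hle hx), hpow, S.img_Q (one_mem _)]) fun h1 => ?_
  have hxQ := (mem_cQ.mp (S.mem_Q_of_img_one_pair he T.z_ne_one hne hx.1 hx.2 h1)).1
  have hd : orderOf x ∣ 2 ^ 13 := orderOf_dvd_of_pow_eq_one (S.pow_Q hxQ)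
  rw [hx5] at hd
  norm_num at hd

/-- Kernel and fixed subgroup of the pairing between `xSub` and `E ∩ E_e`. -/
theorem five_fix (S : Setting z p) (F : AutFacts) (T : Setting e q) (he : e ∈ Q z)
    (hne : e ≠ z) {x : G} (hx5 : orderOf x = 5) (hxz : Commute x z) (hxe : Commute x e)
    (hxi : x ∈ inner z p) (himg : orderOf (S.img x) = 5) :
    (∀ v ∈ xSub z p e, (∀ d ∈ Q z ⊓ Q e, Commute v d) → v ∈ Q z) ∧
    (∀ d ∈ Q z ⊓ Q e, d⁻¹ * (x * d * x⁻¹) ∈ line z p e → d ∈ line z p e) := by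
  classical
  have := Fact.mk Nat.prime_five
  set D := Q z ⊓ Q e with hD
  have hcD : Nat.card ↥D = 2 ^ 7 := S.card_inter F T he hne
  have hcX := S.card_xSub F T he hne
  have hpow : x ^ 5 = 1 := by rw [← hx5, pow_orderOf_eq_one]
  have hDX : D ≤ xSub z p e := S.inter_le_xSub
  have hxX : ∀ v ∈ xSub z p e, x * v * x⁻¹ ∈ xSub z p e := by
    intro v hv
    obtain ⟨⟨hve, hvz⟩, hvi⟩ := mem_xSub.mp hv
    refine mem_xSub.mpr ⟨⟨isQ.normal hxe hve, ?_⟩, mul_mem (mul_mem hxi hvi) (inv_mem hxi)⟩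
    have := hvz.map (MulAut.conj x)
    simpa [mul_inv_eq_iff_eq_mul.mpr hxz.eq] using this
  have hxD : ∀ d ∈ D, x * d * x⁻¹ ∈ D := fun d hd => conj_inter hxz hxe hd
  -- elements of `xSub` centralised by `x` lie in `D`
  have hfp : ∀ v ∈ xSub z p e, Commute v x → v ∈ D := by
    intro v hv hc
    obtain ⟨⟨hve, hvz⟩, hvi⟩ := mem_xSub.mp hv
    have hvc : v ∈ cz z := mem_cz.mpr hvz
    by_contra hvD
    have h1 : S.img v ≠ 1 := fun h => by
      obtain ⟨k, hk⟩ := T.isPGroup_Q ⟨v, hve⟩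
      exact hvD ⟨S.mem_Q_of_img_one hvc h (congrArg Subtype.val hk), hve⟩
    have h2 : v * v ∈ Q z := by
      rcases T.es.sq_cases hve with h | h <;> rw [h]
      · exact one_mem _
      · exact he
    have hord : orderOf (S.img v) = 2 :=
      orderOf_eq_prime (by rw [sq, ← S.img_mul hvc hvc, S.img_Q h2]) h1
    refine F.five_not_commute _ himg _ ((S.img_mem_inn F hvc).mpr hvi) hord ?_
    show S.img x * S.img v = S.img v * S.img x
    rw [← S.img_mul (mem_cz.mpr hxz) hvc, ← S.img_mul hvc (mem_cz.mpr hxz), hc.eq]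
  have hmod : ∀ R : Subgroup G, D ≤ R → R ≤ xSub z p e → (∀ v ∈ R, x * v * x⁻¹ ∈ R) →
      Nat.card ↥R = 2 ^ 7 ∨ Nat.card ↥R = 2 ^ 11 := by
    intro R hDR hRX hRx
    have h1 := Five.card_fixed_modEq (n := 5) hpow hRx
    have h2 := Five.card_fixed_modEq (n := 5) hpow hxD
    have heq : R ⊓ Subgroup.centralizer ({x} : Set G) = D ⊓ Subgroup.centralizer ({x} : Set G) :=
      le_antisymm (fun v hv => ⟨hfp v (hRX hv.1) (mem_cz.mp hv.2), hv.2⟩) (inf_le_inf_right _ hDR)
    rw [heq] at h1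
    have h3 := h1.trans h2.symm
    obtain ⟨k, hk⟩ := two_pow_of_le T.isPGroup_Q (hRX.trans (inf_le_left.trans inf_le_left))
    have hk7 : 7 ≤ k := (Nat.pow_le_pow_iff_right (by norm_num : 1 < 2)).mp
      (hk ▸ hcD ▸ Subgroup.card_le_of_le hDR)
    have hk11 : k ≤ 11 := (Nat.pow_le_pow_iff_right (by norm_num : 1 < 2)).mp
      (hk ▸ hcX ▸ Subgroup.card_le_of_le hRX)
    rw [hk, hcD] at h3
    rw [hk]
    interval_cases k <;>
      first
        | (left; norm_num; done)
        | (right; norm_num; done)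
        | (exfalso; revert h3; unfold Nat.ModEq; norm_num)
  -- the kernel
  set D' := D.map (MulAut.conj p).toMonoidHom with hD'
  have hD'le : D' ≤ Q z := by
    rintro _ ⟨d, hd, rfl⟩
    exact S.conj_mem S.p_mem_cz hd.1
  set K0 := xSub z p e ⊓ Subgroup.centralizer (D : Set G) with hK0
  have hDK0 : D ≤ K0 := fun d hd => ⟨hDX hd,
    Subgroup.mem_centralizer_iff.mpr fun c hc => (S.comm_pair T hne hc hd).eq⟩
  have hline : line z p e ≤ Q z := (S.line_le_inter F T he hne).trans inf_le_left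
  set W := Q z ⊓ Subgroup.centralizer (line z p e : Set G) with hW
  have hcW : Nat.card ↥W = 2 ^ 11 := by
    have h := ESCount.card_perp S.es hline (z_mem_line _ _ _)
    rw [S.card_E, S.card_line F T he hne, ← hW] at h
    omega
  have hDW : D ≤ W := fun d hd => ⟨hd.1, Subgroup.mem_centralizer_iff.mpr fun l hl =>
    (S.comm_pair T hne (S.line_le_inter F T he hne hl) hd).eq⟩
  have hD'W : D' ≤ W := by
    rintro _ ⟨d, hd, rfl⟩
    refine ⟨hD'le ⟨d, hd, rfl⟩, Subgroup.mem_centralizer_iff.mpr fun l hl => ?_⟩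
    have hl' := (mem_mSub.mp (S.line_le_mSub F T he hne hl)).2
    have h := (S.comm_pair T hne hl' hd).map (MulAut.conj p)
    simp only [MulAut.conj_apply] at h
    rw [show p * (p⁻¹ * l * p) * p⁻¹ = l by group] at h
    exact h.eq
  obtain ⟨a, ha, haW⟩ : ∃ a ∈ Q z, a ∉ W := by
    by_contra h
    push Not at h
    have := Subgroup.card_le_of_le (fun a ha => h a ha : Q z ≤ W)
    rw [S.card_E, hcW] at this
    omega
  -- values of the commutators with `a`
  have hval : ∀ v ∈ K0, v * a * v⁻¹ * a⁻¹ ∈ line z p e := by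
    rintro v ⟨hv, hvc⟩
    obtain ⟨⟨hve, hvz⟩, hvi⟩ := mem_xSub.mp hv
    have hvQ : v ∈ cz z := mem_cz.mpr hvz
    set c := v * a * v⁻¹ * a⁻¹ with hc
    have hcQ : c ∈ Q z := S.comm_mem hvQ ha
    have hfix : ∀ y, y ∈ Q z → ModZ z (v⁻¹ * y * v) y → chi c y = 0 := by
      intro y hy hm
      rw [hc, S.es.chi_mul_left (S.conj_mem hvQ ha) (inv_mem ha) hy]
      have h1 : chi (v * a * v⁻¹) y = chi a (v⁻¹ * y * v) := by
        rw [← chi_conj v⁻¹ (v * a * v⁻¹) y]
        congr 1 <;> group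
      have h2 : chi a⁻¹ y = chi a y := by
        have h := S.es.chi_mul_left (inv_mem ha) ha hy
        rw [inv_mul_cancel, chi_eq_zero.mpr (Commute.one_left y)] at h
        exact CharTwo.add_eq_zero.mp h.symm
      rw [h1, h2, S.chi_modZ ha hy hm]
      exact CharTwo.add_self_eq_zero _
    have hvD : ∀ d ∈ D, v⁻¹ * d * v = d := fun d hd => by
      rw [mul_assoc, Subgroup.mem_centralizer_iff.mp hvc d hd, inv_mul_cancel_left]
    have hcD' : c ∈ D := S.perp_inter F T he hne hcQ fun d hd =>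
      chi_eq_zero.mp (hfix d hd.1 (Or.inl (hvD d hd)))
    have hcp : p⁻¹ * c * p ∈ D := by
      refine S.perp_inter F T he hne (S.conj_mem' S.p_mem_cz hcQ) fun d hd => ?_
      have h := hfix (p * d * p⁻¹) (hD'le ⟨d, hd, rfl⟩) (by
        have hi := (inv_mem hvi : v⁻¹ ∈ inner z p).2
        rw [show v⁻¹ * (p * d * p⁻¹) * v = (v⁻¹ * p * v⁻¹⁻¹ * p⁻¹) * (p * (v⁻¹ * d * v) * p⁻¹) *
          (v⁻¹ * p * v⁻¹⁻¹ * p⁻¹)⁻¹ by group, hvD d hd]
        exact S.conj_eq_of_mem hi (hD'le ⟨d, hd, rfl⟩))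
      have h' := (chi_eq_zero.mp h).map (MulAut.conj p⁻¹)
      simpa [mul_assoc] using h'
    rw [← S.mSub_eq_line F T he hne]
    exact mem_mSub.mpr ⟨hcD', hcp⟩
  have hinj : ∀ v ∈ K0, ∀ v' ∈ K0,
      v * a * v⁻¹ * a⁻¹ = v' * a * v'⁻¹ * a⁻¹ → v⁻¹ * v' ∈ D := by
    intro v hv v' hv' heq
    set w := v⁻¹ * v' with hw
    have hwK : w ∈ K0 := mul_mem (inv_mem hv) hv'
    obtain ⟨⟨hwe, hwz⟩, hwi⟩ := mem_xSub.mp hwK.1
    have hwa : w * a * w⁻¹ = a := by
      have h := mul_right_cancel heq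
      calc w * a * w⁻¹ = v⁻¹ * (v' * a * v'⁻¹) * v := by rw [hw]; group
        _ = a := by rw [← h]; group
    refine ⟨S.mem_Q_of_fix_mod (mem_cz.mpr hwz) fun y hy => ?_, hwe⟩
    let K : Subgroup G :=
      { carrier := {y | y ∈ Q z ∧ ModZ z (w * y * w⁻¹) y}
        one_mem' := ⟨one_mem _, Or.inl (by group)⟩
        mul_mem' := by
          rintro b c ⟨hb, hb'⟩ ⟨hc, hc'⟩
          refine ⟨mul_mem hb hc, ?_⟩
          rw [show w * (b * c) * w⁻¹ = (w * b * w⁻¹) * (w * c * w⁻¹) by group]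
          exact S.modZ_mul hc hb' hc'
        inv_mem' := by
          rintro b ⟨hb, hb'⟩
          refine ⟨inv_mem hb, ?_⟩
          rcases hb' with h | h
          · left
            calc w * b⁻¹ * w⁻¹ = (w * b * w⁻¹)⁻¹ := by group
              _ = b⁻¹ := by rw [h]
          · right
            calc w * b⁻¹ * w⁻¹ = (w * b * w⁻¹)⁻¹ := by group
              _ = b⁻¹ * z := by rw [h, mul_inv_rev, S.es.zinv, S.z_comm (inv_mem hb)] }
    have hpK : ∀ b ∈ K, p * b * p⁻¹ ∈ K := by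
      rintro b ⟨hb, hb'⟩
      have hpb := S.conj_mem S.p_mem_cz hb
      refine ⟨hpb, ?_⟩
      have hwc : w ∈ cz z := mem_cz.mpr hwz
      have h1 : ModZ z (w * (p * b * p⁻¹) * w⁻¹) (p * (w * b * w⁻¹) * p⁻¹) := by
        rw [show w * (p * b * p⁻¹) * w⁻¹ = (w * p * w⁻¹ * p⁻¹) * (p * (w * b * w⁻¹) * p⁻¹) *
          (w * p * w⁻¹ * p⁻¹)⁻¹ by group]
        exact S.conj_eq_of_mem hwi.2 (S.conj_mem S.p_mem_cz (S.conj_mem hwc hb))
      rcases hb' with h | h
      · rw [h] at h1; exact h1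
      · rw [h, show p * (b * z) * p⁻¹ = p * b * p⁻¹ * (p * z * p⁻¹) by group, S.p_z.eq,
          mul_inv_cancel_right] at h1
        rcases h1 with h1 | h1
        · exact Or.inr h1
        · exact Or.inl (h1.trans (by rw [mul_assoc _ z z, S.z_sq, mul_one]))
    have hDK : D ≤ K := fun d hd => ⟨hd.1, Or.inl (mul_inv_eq_iff_eq_mul.mpr
      (Subgroup.mem_centralizer_iff.mp hwK.2 d hd).symm)⟩
    have hD'K : D' ≤ K := by
      rintro _ ⟨d, hd, rfl⟩
      exact hpK d (hDK hd)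
    have hinf : Nat.card ↥(D ⊓ D') ≤ 8 := (le_of_eq (show Nat.card ↥(D ⊓ D') = 8 from
      (S.mSub_spec F T he hne).2))
    have hKQ : K ≤ Q z := fun b hb => hb.1
    have hmulW := card_mul_card_le (le_inf hDK hDW) (le_inf hD'K hD'W)
    rw [hD', Subgroup.card_map_of_injective (MulAut.conj p).injective, ← hD', hcD] at hmulW
    have hWK : W ≤ K := by
      have h11 : 2 ^ 11 ≤ Nat.card ↥(K ⊓ W) := by
        have := hmulW.trans (Nat.mul_le_mul_left _ hinf)
        omega
      exact (Subgroup.eq_of_le_of_card_ge inf_le_right (hcW ▸ h11)).ge.trans inf_le_left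
    have haK : a ∈ K := ⟨ha, Or.inl hwa⟩
    obtain ⟨k, hk, hkK⟩ := S.odd_exponent hKQ ⟨S.es.mem, Or.inl
      (mul_inv_eq_iff_eq_mul.mpr hwz.eq)⟩ hpK
    have h11 : 2 ^ 11 < Nat.card ↥K := by
      refine lt_of_le_of_ne (hcW ▸ Subgroup.card_le_of_le hWK) fun h => haW ?_
      rwa [Subgroup.eq_of_le_of_card_ge hWK (le_of_eq (h.symm.trans hcW.symm))]
    rw [hkK] at h11
    have hk12 := (Nat.pow_lt_pow_iff_right (by norm_num : 1 < 2)).mp h11
    have h13 : 2 ^ 13 ≤ Nat.card ↥K := hkK ▸ Nat.pow_le_pow_right (by norm_num) (by omega)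
    have hy' : y ∈ K := (Subgroup.eq_of_le_of_card_ge hKQ (S.card_E ▸ h13)).ge hy
    exact hy'.2
  have hK0le : Nat.card ↥K0 ≤ 8 * Nat.card ↥D := by
    have := Fintype.ofFinite ↥K0
    have := Fintype.ofFinite ↥(line z p e)
    have hfib : ∀ l ∈ (Finset.univ : Finset ↥(line z p e)),
        ((Finset.univ : Finset ↥K0).filter fun v : ↥K0 =>
          (⟨_, hval _ v.2⟩ : ↥(line z p e)) = l).card ≤ Nat.card ↥D := by
      intro l _
      rcases ((Finset.univ : Finset ↥K0).filter fun v : ↥K0 =>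
          (⟨_, hval _ v.2⟩ : ↥(line z p e)) = l).eq_empty_or_nonempty with h | ⟨v₀, hv₀⟩
      · rw [h]; simp
      · have := Fintype.ofFinite ↥D
        rw [Nat.card_eq_fintype_card, ← Finset.card_univ]
        refine Finset.card_le_card_of_injOn (fun v : ↥K0 => if h : (v₀ : G)⁻¹ * v ∈ D then
          (⟨_, h⟩ : ↥D) else 1) (fun _ _ => Finset.mem_univ _) ?_
        intro v hv v' hv' heq
        simp only [Finset.coe_filter, Set.mem_ofPred_eq, Finset.mem_filter] at hv hv' hv₀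
        have h1 : (v₀ : G)⁻¹ * v ∈ D := hinj _ v₀.2 _ v.2
          (congrArg Subtype.val (hv₀.2.trans hv.2.symm))
        have h1' : (v₀ : G)⁻¹ * v' ∈ D := hinj _ v₀.2 _ v'.2
          (congrArg Subtype.val (hv₀.2.trans hv'.2.symm))
        simp only [dif_pos h1, dif_pos h1', Subtype.mk.injEq] at heq
        exact Subtype.ext (mul_left_cancel heq)
    have hcount := Finset.card_le_mul_card_image_of_maps_to
      (s := (Finset.univ : Finset ↥K0)) (t := (Finset.univ : Finset ↥(line z p e)))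
      (f := fun v => (⟨_, hval _ v.2⟩ : ↥(line z p e)))
      (fun _ _ => Finset.mem_univ _) _ hfib
    rw [Finset.card_univ, Finset.card_univ, ← Nat.card_eq_fintype_card, ← Nat.card_eq_fintype_card,
      S.card_line F T he hne, mul_comm] at hcount
    exact hcount
  have hK0card : Nat.card ↥K0 = 2 ^ 7 := by
    refine (hmod K0 hDK0 inf_le_left ?_).resolve_right fun h => by rw [h, hcD] at hK0le; omega
    rintro v ⟨hv, hvc⟩
    refine ⟨hxX v hv, Subgroup.mem_centralizer_iff.mpr fun d hd => ?_⟩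
    have hd' : x⁻¹ * d * x ∈ D := by
      have h0 := conj_inter hxz.inv_left hxe.inv_left hd
      rwa [inv_inv] at h0
    have h := (Subgroup.mem_centralizer_iff.mp hvc _ hd')
    have h' := (show Commute (x⁻¹ * d * x) v from h).map (MulAut.conj x)
    simp only [MulAut.conj_apply] at h'
    rw [show x * (x⁻¹ * d * x) * x⁻¹ = d by group] at h'
    exact h'.eq
  have hK0D : K0 = D := (Subgroup.eq_of_le_of_card_ge hDK0 (by rw [hK0card, hcD])).symm
  refine ⟨fun v hv hc => ?_, fun d hd hxd => ?_⟩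
  · have hvK : v ∈ K0 := ⟨hv, Subgroup.mem_centralizer_iff.mpr fun d hd => (hc d hd).eq.symm⟩
    rw [hK0D] at hvK
    exact hvK.1
  -- the fixed subgroup is the line
  set F1 := D ⊓ Subgroup.centralizer (xSub z p e : Set G) with hF1
  have hF8 : Nat.card ↥F1 = 8 := by
    have h := Five.card_kernels (X := xSub z p e) (D := D) (K := K0) (F := F1) chi
      (fun b hb c hc d hd => T.es.chi_mul_left (mem_xSub.mp hb).1.1 (mem_xSub.mp hc).1.1 hd.2)
      (fun b hb c hc d hd => T.es.chi_mul_right (mem_xSub.mp hb).1.1 hc.2 hd.2)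
      (fun b => by
        rw [hK0, Subgroup.mem_inf, Subgroup.mem_centralizer_iff]
        exact and_congr Iff.rfl ⟨fun h d hd => chi_eq_zero.mpr (h d hd).symm,
          fun h d hd => (chi_eq_zero.mp (h d hd)).eq.symm⟩)
      (fun d => by
        rw [hF1, Subgroup.mem_inf, Subgroup.mem_centralizer_iff]
        exact and_congr Iff.rfl ⟨fun h b hb => chi_eq_zero.mpr (h b hb),
          fun h b hb => (chi_eq_zero.mp (h b hb)).eq⟩)
    rw [hK0card, hcD, hcX] at h
    omega
  have hLF : line z p e ≤ F1 := fun l hl => ⟨S.line_le_inter F T he hne hl,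
    Subgroup.mem_centralizer_iff.mpr fun v hv => (S.xSub_fix_line F T he hne hv hl).eq⟩
  have hLeq : line z p e = F1 :=
    Subgroup.eq_of_le_of_card_ge hLF (le_of_eq (hF8.trans (S.card_line F T he hne).symm))
  rw [hLeq]
  refine ⟨hd, ?_⟩
  -- the centralizer of `d` in `xSub` is everything
  set R := xSub z p e ⊓ cz d with hR
  have hDR : D ≤ R := fun c hc => ⟨hDX hc, mem_cz.mpr (S.comm_pair T hne hc hd)⟩
  have hRx : ∀ v ∈ R, x * v * x⁻¹ ∈ R := by
    rintro v ⟨hv, hvd⟩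
    refine ⟨hxX v hv, mem_cz.mpr ?_⟩
    have hl : Commute (x * v * x⁻¹) (d⁻¹ * (x * d * x⁻¹)) :=
      S.xSub_fix_line F T he hne (hxX v hv) hxd
    have hcx : Commute (x * v * x⁻¹) (x * d * x⁻¹) := by
      simpa using (mem_cz.mp hvd).map (MulAut.conj x)
    have := hcx.mul_right hl.inv_right
    rwa [show x * d * x⁻¹ * (d⁻¹ * (x * d * x⁻¹))⁻¹ = d by group] at this
  have h2 := card_le_two_cz (X := xSub z p e) (d := d) fun b hb c hc =>
    T.es.chi_mul_left (mem_xSub.mp hb).1.1 (mem_xSub.mp hc).1.1 hd.2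
  rw [← hR, hcX] at h2
  rcases hmod R hDR inf_le_left hRx with h | h
  · rw [h] at h2; omega
  · have hReq : R = xSub z p e :=
      Subgroup.eq_of_le_of_card_ge inf_le_left (le_of_eq (hcX.trans h.symm))
    refine Subgroup.mem_centralizer_iff.mpr fun v hv => ?_
    have hv' : v ∈ R := by rw [hReq]; exact hv
    exact (mem_cz.mp hv'.2).eq

theorem inter_comm : Q z ⊓ Q e = Q e ⊓ Q z := inf_comm _ _

/-- Lines are symmetric: the line through `e` seen from `z` is the line through `z` seen from `e`. -/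
theorem line_symm (S : Setting z p) (F : AutFacts) (T : Setting e q) (he : e ∈ Q z)
    (hne : e ≠ z) : line e q z = line z p e := by
  have hze := S.mem_swap F T he hne
  obtain ⟨x, hx5, hxz, hxe, hxi, himg⟩ := S.exists_five F T he hne
  have hfix := (S.five_fix F T he hne hx5 hxz hxe hxi himg).2
  set L := line z p e with hL
  set L' := line e q z with hL'
  have hcL := S.card_line F T he hne
  have hcL' := T.card_line F S hze (Ne.symm hne)
  -- `x` normalises both lines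
  have hnorm : ∀ {a b c y : G}, Commute y a → Commute y b →
      y * c * y⁻¹ ∈ Subgroup.closure ({a, b, c} : Set G) →
      ∀ l ∈ Subgroup.closure ({a, b, c} : Set G),
        y * l * y⁻¹ ∈ Subgroup.closure ({a, b, c} : Set G) := by
    intro a b c y hya hyb hyc l hl
    have hle : Subgroup.closure ({a, b, c} : Set G) ≤
        (Subgroup.closure ({a, b, c} : Set G)).comap (MulAut.conj y).toMonoidHom := by
      rw [Subgroup.closure_le]
      intro w hw
      rw [SetLike.mem_coe, Subgroup.mem_comap, MulEquiv.coe_toMonoidHom, MulAut.conj_apply]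
      rcases hw with rfl | rfl | rfl
      · rw [mul_inv_eq_iff_eq_mul.mpr hya.eq]; exact Subgroup.subset_closure (by simp)
      · rw [mul_inv_eq_iff_eq_mul.mpr hyb.eq]; exact Subgroup.subset_closure (by simp)
      · exact hyc
    exact hle hl
  have hxL : ∀ l ∈ L, x * l * x⁻¹ ∈ L := by
    refine hnorm hxz hxe ?_
    rcases (S.inner_iff_fix he T.z_ne_one hne hxz hxe).mp hxi with h | h <;> rw [h]
    · exact pe_mem_line _ _ _
    · exact mul_mem (pe_mem_line _ _ _) (z_mem_line _ _ _)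
  have hxiT : x ∈ inner e q := by
    have h2 : x * x ∈ inner e q := by
      by_cases hh : x ∈ inner e q
      · exact mul_mem hh hh
      · exact T.mul_mem_inner (mem_cz.mpr hxe) (mem_cz.mpr hxe) hh hh
    have : (x * x) ^ 3 = x := by
      rw [← sq, ← pow_mul, pow_succ, show x ^ 5 = 1 by rw [← hx5, pow_orderOf_eq_one], one_mul]
    rw [← this]
    exact pow_mem h2 3
  have hxL' : ∀ l ∈ L', x * l * x⁻¹ ∈ L' := by
    refine hnorm hxe hxz ?_
    rcases (T.inner_iff_fix hze S.z_ne_one (Ne.symm hne) hxe hxz).mp hxiT with h | h <;> rw [h]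
    · exact pe_mem_line _ _ _
    · exact mul_mem (pe_mem_line _ _ _) (z_mem_line _ _ _)
  refine Subgroup.eq_of_le_of_card_ge (fun d hd => ?_) (le_of_eq (hcL.trans hcL'.symm))
  by_contra hdL
  have hdD : d ∈ Q z ⊓ Q e := inter_comm (z := z) (e := e) ▸ T.line_le_inter F S hze (Ne.symm hne) hd
  refine hdL (hfix d hdD ?_)
  -- `L' ∩ L` has index two in `L'`
  have hsub : ({1, z, e, z * e} : Set G) ⊆ ((L' ⊓ L : Subgroup G) : Set G) := by
    rintro w (rfl | rfl | rfl | rfl)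
    · exact one_mem _
    · exact ⟨e_mem_line _ _ _, z_mem_line _ _ _⟩
    · exact ⟨z_mem_line _ _ _, e_mem_line _ _ _⟩
    · exact mul_mem (show z ∈ L' ⊓ L from ⟨e_mem_line _ _ _, z_mem_line _ _ _⟩)
        (show e ∈ L' ⊓ L from ⟨z_mem_line _ _ _, e_mem_line _ _ _⟩)
  have h4 : ({1, z, e, z * e} : Set G).ncard = 4 := by
    have hzeone : z * e ≠ 1 := fun h =>
      hne (by rw [← S.es.zinv]; exact eq_inv_of_mul_eq_one_right h)
    have hze' : z * e ≠ z := fun h => T.z_ne_one (by simpa using h)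
    have hze'' : z * e ≠ e := fun h => S.z_ne_one (by simpa using h)
    rw [Set.ncard_insert_of_notMem (by
        simp [Ne.symm S.z_ne_one, Ne.symm T.z_ne_one, Ne.symm hzeone]),
      Set.ncard_eq_three.mpr ⟨z, e, z * e, Ne.symm hne, Ne.symm hze', Ne.symm hze'', rfl⟩]
  have hge := Set.ncard_le_ncard hsub
  rw [h4, ← Nat.card_coe_set_eq, SetLike.coe_sort_coe] at hge
  have hlt : Nat.card ↥(L' ⊓ L) < 8 := by
    refine lt_of_le_of_ne (hcL' ▸ Subgroup.card_le_of_le inf_le_left) fun h => hdL ?_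
    have : L' ⊓ L = L' := Subgroup.eq_of_le_of_card_ge inf_le_left (le_of_eq (hcL'.trans h.symm))
    exact (this.ge hd).2
  have hdvd : Nat.card ↥(L' ⊓ L) ∣ 8 :=
    hcL' ▸ Subgroup.card_dvd_of_le (inf_le_left : L' ⊓ L ≤ L')
  have h4' : Nat.card ↥(L' ⊓ L) = 4 := by
    obtain ⟨k, hk⟩ := hdvd
    rcases k with _ | _ | _ | k <;> nlinarith
  have hidx : ((L' ⊓ L).subgroupOf L').index = 2 := by
    have h := Subgroup.card_mul_index ((L' ⊓ L).subgroupOf L')
    rw [Nat.card_congr (Subgroup.subgroupOfEquivOfLe (inf_le_left : L' ⊓ L ≤ L')).toEquiv, h4',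
      hcL'] at h
    omega
  have hout : ∀ {w}, (hw : w ∈ L') → (⟨w, hw⟩ : ↥L') ∈ (L' ⊓ L).subgroupOf L' ↔ w ∈ L :=
    fun {w} hw => ⟨fun h => h.2, fun h => ⟨hw, h⟩⟩
  have hxd' : x * d * x⁻¹ ∈ L' := hxL' d hd
  have hxdL : x * d * x⁻¹ ∉ L := fun h => by
    have h5 : ∀ (i : ℕ), x ^ i * (x * d * x⁻¹) * (x ^ i)⁻¹ ∈ L := by
      intro i
      induction i with
      | zero => simpa using h
      | succ j ih =>
        rw [show x ^ (j + 1) * (x * d * x⁻¹) * (x ^ (j + 1))⁻¹ =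
          x * (x ^ j * (x * d * x⁻¹) * (x ^ j)⁻¹) * x⁻¹ by rw [pow_succ']; group]
        exact hxL _ ih
    refine hdL ?_
    have := h5 4
    rwa [show x ^ 4 * (x * d * x⁻¹) * (x ^ 4)⁻¹ = x ^ 5 * d * (x ^ 5)⁻¹ by
      rw [pow_succ x 4]; group, show x ^ 5 = 1 by rw [← hx5, pow_orderOf_eq_one], one_mul, inv_one,
      mul_one] at this
  have hmem := (Subgroup.mul_mem_iff_of_index_two hidx
    (a := (⟨d⁻¹, inv_mem hd⟩ : ↥L')) (b := ⟨x * d * x⁻¹, hxd'⟩))
  have h1 : (⟨d⁻¹, inv_mem hd⟩ : ↥L') ∉ (L' ⊓ L).subgroupOf L' := fun h =>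
    hdL (inv_mem_iff.mp ((hout _).mp h))
  have h2 : (⟨x * d * x⁻¹, hxd'⟩ : ↥L') ∉ (L' ⊓ L).subgroupOf L' := fun h =>
    hxdL ((hout _).mp h)
  exact (hmem.mpr (iff_of_false h1 h2)).2

end Setting

end Cfsg.Agent.Lib.J4Local
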