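import Cfsg.Agent.Lib.J4Local.Core
import Cfsg.Agent.Lib.J4Local.ESCount

/-!
# The action of `C(z)` on `O₂(C(z))` modulo the centre

The subgroups `aSub z u` (preimage of `[V,u]`) and `ySub z u` (preimage of `C_V(u)`), their orders,
faithfulness of the action, and the rank bound for inner involutions.
-/

set_option autoImplicit false
set_option linter.unusedSectionVars false
set_option linter.unusedVariables false

namespace Cfsg.Agent.Lib.J4Local

open Cfsg.Agent.Lib.LargeExtraspecial.Basic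

variable {G : Type*} [Group G]

/-- The preimage of `[V, u]`. -/
def aSub (z u : G) : Subgroup G :=
  Subgroup.closure ({z} ∪ {x | ∃ e ∈ Q z, x = u * e * u⁻¹ * e⁻¹})

/-- The preimage of `C_V(u)`, defined as the orthogonal of `aSub z u`. -/
def ySub (z u : G) : Subgroup G := Q z ⊓ Subgroup.centralizer (aSub z u : Set G)

theorem z_mem_aSub (z u : G) : z ∈ aSub z u :=
  Subgroup.subset_closure (Or.inl rfl)

theorem comm_mem_aSub {z u e : G} (he : e ∈ Q z) : u * e * u⁻¹ * e⁻¹ ∈ aSub z u :=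
  Subgroup.subset_closure (Or.inr ⟨e, he, rfl⟩)

/-- Equality modulo `z`. -/
def ModZ (z x y : G) : Prop := x = y ∨ x = y * z

namespace Setting

variable [Finite G] {z p : G}

theorem z_comm (S : Setting z p) {e : G} (he : e ∈ Q z) : e * z = z * e := (S.es.comm e he).eq

theorem conj_mem (S : Setting z p) {u e : G} (hu : u ∈ cz z) (he : e ∈ Q z) :
    u * e * u⁻¹ ∈ Q z := isQ.normal (mem_cz.mp hu) he

theorem conj_mem' (S : Setting z p) {u e : G} (hu : u ∈ cz z) (he : e ∈ Q z) :
    u⁻¹ * e * u ∈ Q z := by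
  simpa using S.conj_mem (inv_mem hu) he

theorem comm_mem (S : Setting z p) {u e : G} (hu : u ∈ cz z) (he : e ∈ Q z) :
    u * e * u⁻¹ * e⁻¹ ∈ Q z := mul_mem (S.conj_mem hu he) (inv_mem he)

theorem aSub_le (S : Setting z p) {u : G} (hu : u ∈ cz z) : aSub z u ≤ Q z := by
  rw [aSub, Subgroup.closure_le]
  rintro x (hx | ⟨e, he, rfl⟩)
  · rw [Set.mem_singleton_iff.mp hx]; exact S.es.mem
  · exact S.comm_mem hu he

theorem conj_eq_of_mem (S : Setting z p) {a b : G} (ha : a ∈ Q z) (hb : b ∈ Q z) :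
    ModZ z (a * b * a⁻¹) b := S.es.conj a ha b hb

theorem modZ_mul (S : Setting z p) {a a' b b' : G} (hb : b ∈ Q z) (ha : ModZ z a' a)
    (hb' : ModZ z b' b) : ModZ z (a' * b') (a * b) := by
  have hzb : z * b = b * z := (S.z_comm hb).symm
  rcases ha with rfl | rfl <;> rcases hb' with rfl | rfl
  · exact Or.inl rfl
  · exact Or.inr (by rw [mul_assoc])
  · exact Or.inr (by rw [mul_assoc, hzb, mul_assoc])
  · left
    rw [mul_assoc, ← mul_assoc z, hzb, mul_assoc b, S.z_sq, mul_one]

/-- `e ↦ [u, e]` is additive modulo `z`. -/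
theorem comm_mul (S : Setting z p) {u e f : G} (hu : u ∈ cz z) (he : e ∈ Q z) (hf : f ∈ Q z) :
    ModZ z (u * (e * f) * u⁻¹ * (e * f)⁻¹) (u * e * u⁻¹ * e⁻¹ * (u * f * u⁻¹ * f⁻¹)) := by
  have e0 : u * (e * f) * u⁻¹ * (e * f)⁻¹ =
      u * e * u⁻¹ * e⁻¹ * (e * (u * f * u⁻¹ * f⁻¹) * e⁻¹) := by group
  rw [e0]
  exact S.modZ_mul (S.comm_mem hu hf) (Or.inl rfl) (S.conj_eq_of_mem he (S.comm_mem hu hf))

theorem mem_aSub (S : Setting z p) {u x : G} (hu : u ∈ cz z) :
    x ∈ aSub z u ↔ ∃ e ∈ Q z, ModZ z x (u * e * u⁻¹ * e⁻¹) := by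
  constructor
  · intro hx
    induction hx using Subgroup.closure_induction with
    | mem x hx =>
      rcases hx with hx | ⟨e, he, rfl⟩
      · exact ⟨1, one_mem _, Or.inr (by simpa using hx)⟩
      · exact ⟨e, he, Or.inl rfl⟩
    | one => exact ⟨1, one_mem _, Or.inl (by simp)⟩
    | mul a b _ _ ha hb =>
      obtain ⟨e, he, ha⟩ := ha
      obtain ⟨f, hf, hb⟩ := hb
      refine ⟨e * f, mul_mem he hf, ?_⟩
      have h1 := S.modZ_mul (S.comm_mem hu hf) ha hb
      rcases h1 with h1 | h1 <;> rcases S.comm_mul hu he hf with h2 | h2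
      · exact Or.inl (h1.trans h2.symm)
      · exact Or.inr (by rw [h1, h2, mul_assoc _ z z, S.z_sq, mul_one])
      · exact Or.inr (by rw [h1, h2])
      · exact Or.inl (by rw [h1, h2])
    | inv a _ ha =>
      obtain ⟨e, he, ha⟩ := ha
      refine ⟨e, he, ?_⟩
      have hm := S.comm_mem hu he
      have hmz : z * (u * e * u⁻¹ * e⁻¹)⁻¹ = (u * e * u⁻¹ * e⁻¹)⁻¹ * z :=
        (S.z_comm (inv_mem hm)).symm
      rcases S.es.sq_cases hm with h | h
      · have hi := inv_eq_of_mul_eq_one_right h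
        rcases ha with rfl | rfl
        · exact Or.inl hi
        · exact Or.inr (by rw [mul_inv_rev, S.es.zinv, hmz, hi])
      · have hi : (u * e * u⁻¹ * e⁻¹)⁻¹ = u * e * u⁻¹ * e⁻¹ * z := by
          refine inv_eq_of_mul_eq_one_right ?_
          rw [← mul_assoc, h, S.z_sq]
        rcases ha with rfl | rfl
        · exact Or.inr hi
        · exact Or.inl (by rw [mul_inv_rev, S.es.zinv, hmz, hi, mul_assoc _ z z, S.z_sq, mul_one])
  · rintro ⟨e, he, h | h⟩
    · rw [h]; exact comm_mem_aSub he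
    · rw [h]; exact mul_mem (comm_mem_aSub he) (z_mem_aSub z u)

/-- Membership in `ySub`. -/
theorem mem_ySub (S : Setting z p) {u y : G} (hu : u ∈ cz z) :
    y ∈ ySub z u ↔ y ∈ Q z ∧ ModZ z (u * y * u⁻¹) y := by
  have conjz : u * z * u⁻¹ = z := by rw [(mem_cz.mp hu).eq, mul_inv_cancel_right]
  have key : ∀ {y}, y ∈ Q z → ∀ e ∈ Q z,
      chi (u * e * u⁻¹ * e⁻¹) y = chi e (u⁻¹ * y * u) + chi e y := by
    intro y hy e he
    rw [S.es.chi_mul_left (S.conj_mem hu he) (inv_mem he) hy]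
    have h1 : chi (u * e * u⁻¹) y = chi e (u⁻¹ * y * u) := by
      have := chi_conj u⁻¹ (u * e * u⁻¹) y
      rw [← this]
      congr 1 <;> group
    have h2 : chi e⁻¹ y = chi e y := by
      have := S.es.chi_mul_left (inv_mem he) he hy
      rw [inv_mul_cancel] at this
      have h0 : chi (1 : G) y = 0 := chi_eq_zero.mpr (Commute.one_left y)
      rw [h0] at this
      exact CharTwo.add_eq_zero.mp this.symm
    rw [h1, h2]
  constructor
  · rintro ⟨hy, hc⟩
    refine ⟨hy, ?_⟩
    have hall : ∀ e ∈ Q z, chi e (u⁻¹ * y * u * y) = 0 := fun e he => by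
      rw [S.es.chi_mul_right he (S.conj_mem' hu hy) hy, ← key hy e he, chi_eq_zero]
      exact (Subgroup.mem_centralizer_iff.mp hc _ (comm_mem_aSub he) :)
    rcases ESCount.z_cases S.es (mul_mem (S.conj_mem' hu hy) hy) hall with h | h
    · have h1 : u⁻¹ * y * u = y⁻¹ := eq_inv_of_mul_eq_one_left h
      rcases S.es.sq_cases hy with hs | hs
      · left
        have h2 : u⁻¹ * y * u = y := h1.trans (inv_eq_of_mul_eq_one_right hs)
        calc u * y * u⁻¹ = u * (u⁻¹ * y * u) * u⁻¹ := by rw [h2]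
          _ = y := by group
      · right
        have h2 : u⁻¹ * y * u = y * z := by
          rw [h1]
          refine inv_eq_of_mul_eq_one_right ?_
          rw [← mul_assoc, hs, S.z_sq]
        have h3 : y = u * y * u⁻¹ * z := by
          calc y = u * (u⁻¹ * y * u) * u⁻¹ := by group
            _ = u * y * u⁻¹ * (u * z * u⁻¹) := by rw [h2]; group
            _ = _ := by rw [conjz]
        calc u * y * u⁻¹ = u * y * u⁻¹ * z * z := by rw [mul_assoc _ z z, S.z_sq, mul_one]
          _ = y * z := by rw [← h3]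
    · have hyy : u⁻¹ * y * u = z * y⁻¹ := eq_mul_inv_of_mul_eq h
      rcases S.es.sq_cases hy with hs | hs
      · right
        have h2 : u⁻¹ * y * u = y * z := by
          rw [hyy, inv_eq_of_mul_eq_one_right hs, S.z_comm hy]
        have h3 : y = u * y * u⁻¹ * z := by
          calc y = u * (u⁻¹ * y * u) * u⁻¹ := by group
            _ = u * y * u⁻¹ * (u * z * u⁻¹) := by rw [h2]; group
            _ = _ := by rw [conjz]
        calc u * y * u⁻¹ = u * y * u⁻¹ * z * z := by rw [mul_assoc _ z z, S.z_sq, mul_one]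
          _ = y * z := by rw [← h3]
      · left
        have h2 : u⁻¹ * y * u = y := by
          rw [hyy, ← hs]
          group
        calc u * y * u⁻¹ = u * (u⁻¹ * y * u) * u⁻¹ := by rw [h2]
          _ = y := by group
  · rintro ⟨hy, hmod⟩
    refine ⟨hy, Subgroup.mem_centralizer_iff.mpr fun x hx => ?_⟩
    have hinv : chi (u⁻¹ * y * u) = chi (u⁻¹ * y * u) := rfl
    obtain ⟨e, he, hx'⟩ := (S.mem_aSub hu).mp hx
    have h0 : chi (u * e * u⁻¹ * e⁻¹) y = 0 := by
      rw [key hy e he]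
      have h1 : ModZ z (u⁻¹ * y * u) y := by
        rcases hmod with h | h
        · left
          calc u⁻¹ * y * u = u⁻¹ * (u * y * u⁻¹) * u := by rw [h]
            _ = y := by group
        · right
          have h3 : u⁻¹ * z * u = z := by
            rw [mul_assoc, ← (mem_cz.mp hu).eq, inv_mul_cancel_left]
          have h4 : y = u⁻¹ * y * u * z := by
            calc y = u⁻¹ * (u * y * u⁻¹) * u := by group
              _ = u⁻¹ * y * u * (u⁻¹ * z * u) := by rw [h]; group
              _ = _ := by rw [h3]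
          calc u⁻¹ * y * u = u⁻¹ * y * u * z * z := by rw [mul_assoc _ z z, S.z_sq, mul_one]
            _ = y * z := by rw [← h4]
      rcases h1 with h | h
      · rw [h]; exact CharTwo.add_self_eq_zero _
      · rw [h, S.es.chi_mul_right he hy S.es.mem, S.es.chi_center_right he, add_zero]
        exact CharTwo.add_self_eq_zero _
    rcases hx' with rfl | rfl
    · exact (chi_eq_zero.mp h0).eq
    · exact ((chi_eq_zero.mp h0).mul_left (S.es.comm y hy).symm).eq

/-- The two subgroups have complementary orders. -/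
theorem card_aSub_ySub (S : Setting z p) {u : G} (hu : u ∈ cz z) :
    Nat.card ↥(ySub z u) * Nat.card ↥(aSub z u) = 2 ^ 14 := by
  rw [ySub, ESCount.card_perp S.es (S.aSub_le hu) (z_mem_aSub z u), S.card_E]
  norm_num

/-- The action is faithful. -/
theorem mem_Q_of_fix_mod (S : Setting z p) {u : G} (hu : u ∈ cz z)
    (h : ∀ e ∈ Q z, ModZ z (u * e * u⁻¹) e) : u ∈ Q z := by
  classical
  let c : G → ZMod 2 := fun e => if u * e * u⁻¹ = e then 0 else 1
  by_cases hall : ∀ e ∈ Q z, u * e * u⁻¹ = e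
  · exact S.self_centralizing u (mem_cz.mp hu) fun e he =>
      (mul_inv_eq_iff_eq_mul.mp (hall e he)).symm
  push Not at hall
  obtain ⟨e₀, he₀, hne⟩ := hall
  let K : Subgroup G :=
    { carrier := {e | e ∈ Q z ∧ u * e * u⁻¹ = e}
      one_mem' := ⟨one_mem _, by simp⟩
      mul_mem' := by
        rintro a b ⟨ha, ha'⟩ ⟨hb, hb'⟩
        exact ⟨mul_mem ha hb, by
          calc u * (a * b) * u⁻¹ = (u * a * u⁻¹) * (u * b * u⁻¹) := by group
            _ = a * b := by rw [ha', hb']⟩
      inv_mem' := by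
        rintro a ⟨ha, ha'⟩
        exact ⟨inv_mem ha, by
          calc u * a⁻¹ * u⁻¹ = (u * a * u⁻¹)⁻¹ := by group
            _ = a⁻¹ := by rw [ha']⟩ }
  have hK : K ≤ Q z := fun e he => he.1
  have conjz : u * z * u⁻¹ = z := by rw [(mem_cz.mp hu).eq, mul_inv_cancel_right]
  have hmulK : ∀ a ∈ Q z, ∀ b ∈ Q z, a ∉ K → b ∉ K → a * b ∈ K := by
    intro a ha b hb haK hbK
    refine ⟨mul_mem ha hb, ?_⟩
    have a1 : u * a * u⁻¹ = a * z := (h a ha).resolve_left fun hh => haK ⟨ha, hh⟩
    have b1 : u * b * u⁻¹ = b * z := (h b hb).resolve_left fun hh => hbK ⟨hb, hh⟩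
    calc u * (a * b) * u⁻¹ = (u * a * u⁻¹) * (u * b * u⁻¹) := by group
      _ = a * (z * b) * z := by rw [a1, b1]; group
      _ = a * b := by rw [← S.z_comm hb, mul_assoc, mul_assoc b, S.z_sq, mul_one]
  have hidx : (K.subgroupOf (Q z)).index = 2 := by
    rw [Subgroup.index_eq_two_iff]
    refine ⟨⟨e₀, he₀⟩, fun b => ?_⟩
    simp only [Subgroup.mem_subgroupOf, Subgroup.coe_mul]
    have he₀K : e₀ ∉ K := fun hh => hne hh.2
    by_cases hb : (b : G) ∈ K
    · exact Or.inr ⟨hb, fun hh => he₀K ((Subgroup.mul_mem_cancel_left _ hb).mp hh)⟩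
    · exact Or.inl ⟨hmulK _ b.2 _ he₀ hb he₀K, hb⟩
  have hKcard : Nat.card ↥K * 2 = 2 ^ 13 := by
    rw [← S.card_E, ← hidx, ← Nat.card_congr (Subgroup.subgroupOfEquivOfLe hK).toEquiv]
    exact Subgroup.card_mul_index _
  have hzK : z ∈ K := ⟨S.es.mem, conjz⟩
  have hperp := ESCount.card_perp S.es hK hzK
  rw [S.card_E] at hperp
  have h4 : Nat.card ↥(Q z ⊓ Subgroup.centralizer (K : Set G)) = 4 := by
    rw [show 2 * 2 ^ 13 = 4 * 2 ^ 12 by norm_num,
      show Nat.card ↥K = 2 ^ 12 by omega] at hperp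
    exact Nat.eq_of_mul_eq_mul_right (by norm_num) hperp
  obtain ⟨f, ⟨hf, hfc⟩, hf1⟩ : ∃ f, f ∈ Q z ⊓ Subgroup.centralizer (K : Set G) ∧
      (f ≠ 1 ∧ f ≠ z) := by
    by_contra hcon
    push Not at hcon
    have hsub : ((Q z ⊓ Subgroup.centralizer (K : Set G) : Subgroup G) : Set G) ⊆ {1, z} := by
      intro f hf
      by_cases h1 : f = 1
      · exact Or.inl h1
      · exact Or.inr (hcon f hf h1)
    have := Set.ncard_le_ncard hsub
    rw [Set.ncard_pair (Ne.symm S.z_ne_one), ← Nat.card_coe_set_eq] at this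
    rw [SetLike.coe_sort_coe] at this
    omega
  obtain ⟨q, hq, hqf⟩ := S.es.exists_conj_ne hf hf1.1 hf1.2
  have hqK : q ∉ K := fun hh => by
    rw [mul_inv_eq_iff_eq_mul.mpr (Subgroup.mem_centralizer_iff.mp hfc q hh)] at hqf
    exact S.z_ne_one (by simpa using hqf.symm)
  have huf : ∀ e ∈ Q z, u * e * u⁻¹ = f * e * f⁻¹ := by
    intro e he
    by_cases heK : e ∈ K
    · rw [heK.2, ← Subgroup.mem_centralizer_iff.mp hfc e heK, mul_inv_cancel_right]
    · rw [(h e he).resolve_left fun hh => heK ⟨he, hh⟩]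
      rcases S.es.conj f hf e he with h1 | h1
      · exfalso
        have h2 : e * q ∈ K := hmulK e he q hq heK hqK
        have h3 : Commute f (e * q) := (Subgroup.mem_centralizer_iff.mp hfc _ h2).symm
        have h4' : Commute f e := mul_inv_eq_iff_eq_mul.mp h1
        have h5 : Commute f q := by
          have := h4'.inv_right.mul_right h3
          rwa [inv_mul_cancel_left] at this
        rw [mul_inv_eq_iff_eq_mul.mpr h5.symm.eq] at hqf
        exact S.z_ne_one (by simpa using hqf.symm)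
      · exact h1.symm
  have hmem : f⁻¹ * u ∈ Q z := by
    refine S.self_centralizing _ ?_ fun e he => ?_
    · exact mem_cz.mp (mul_mem (inv_mem (Q_le_cz z hf)) hu)
    · show e * (f⁻¹ * u) = f⁻¹ * u * e
      calc e * (f⁻¹ * u) = f⁻¹ * (f * e * f⁻¹) * u := by group
        _ = f⁻¹ * (u * e * u⁻¹) * u := by rw [huf e he]
        _ = f⁻¹ * u * e := by group
  simpa using mul_mem hf hmem

end Setting

end Cfsg.Agent.Lib.J4Local
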