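import Mathlib

/-!
# The rank bound for an involution which is a square

`V` is a finite elementary abelian 2-group of order `2^12` (written multiplicatively), `q` an
endomorphism of order three without nontrivial fixed point, `n` an endomorphism commuting with `q`
with `n^4 = 1`.  Then the image of `n ∘ n` has order at most `2^4`.
-/

set_option autoImplicit false

namespace Cfsg.Agent.Lib.J4Local.RankBound

/-- A finite set with a permutation of order three fixing exactly `k` points. -/
theorem card_modEq {X : Type*} [Finite X] (σ : Equiv.Perm X) (h3 : σ ^ 3 = 1)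
    (S : Set X) (hS : ∀ x, σ x = x ↔ x ∈ S) : Nat.card X ≡ S.ncard [MOD 3] := by
  classical
  have := Fintype.ofFinite X
  have := Fact.mk Nat.prime_three
  have h := Equiv.Perm.card_compl_support_modEq (p := 3) (n := 1) (σ := σ) (by simpa using h3)
  rw [Nat.card_eq_fintype_card]
  refine h.symm.trans ?_
  have : (σ.supportᶜ : Finset X) = S.toFinset := by
    ext x
    simp [hS]
  rw [this, Set.ncard_eq_toFinset_card']

theorem two_pow_mod : ∀ i : ℕ, 2 ^ i % 3 = if i % 2 = 0 then 1 else 2 := fun i => by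
  induction i with
  | zero => rfl
  | succ j ih => rw [pow_succ, Nat.mul_mod, ih]; split_ifs <;> omega

variable {V : Type*} [Group V] [Finite V]

/-- A 2-group with a fixed-point-free map of order three has order a power of four. -/
theorem even_exponent {S : Subgroup V} {k : ℕ} (hk : Nat.card ↥S = 2 ^ k) (q : V →* V)
    (h3 : ∀ v, q (q (q v)) = v) (hf : ∀ v, q v = v → v = 1) (hS : ∀ v ∈ S, q v ∈ S) :
    k % 2 = 0 := by
  let σ : Equiv.Perm ↥S :=
    { toFun := fun v => ⟨q v, hS _ v.2⟩
      invFun := fun v => ⟨q (q v), hS _ (hS _ v.2)⟩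
      left_inv := fun v => Subtype.ext (h3 v)
      right_inv := fun v => Subtype.ext (h3 v) }
  have hσ : σ ^ 3 = 1 := by
    refine Equiv.ext fun v => ?_
    rw [pow_succ, pow_two]
    exact Subtype.ext (h3 v)
  have h := card_modEq σ hσ {1} fun v => by
    constructor
    · intro hv
      exact Subtype.ext (hf _ (congrArg Subtype.val hv))
    · intro hv
      rw [Set.mem_singleton_iff.mp hv]
      exact Subtype.ext (map_one q)
  rw [hk, Set.ncard_singleton, Nat.ModEq, two_pow_mod] at h
  split_ifs at h with hi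
  · exact hi
  · omega

theorem exists_two_pow {k : ℕ} (hV : Nat.card V = 2 ^ k) (S : Subgroup V) :
    ∃ j, j ≤ k ∧ Nat.card ↥S = 2 ^ j :=
  (Nat.dvd_prime_pow Nat.prime_two).mp (hV ▸ S.card_subgroup_dvd_card)

/-- The rank bound. -/
theorem card_range_sq (hV : Nat.card V = 2 ^ 12) (q n : V →* V) (h3 : ∀ v, q (q (q v)) = v)
    (hf : ∀ v, q v = v → v = 1) (hc : ∀ v, q (n v) = n (q v))
    (h4 : ∀ v, n (n (n (n v))) = 1) : Nat.card ↥(n.comp n).range ≤ 2 ^ 4 := by
  set R2 := (n.comp n).range with hR2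
  set K2 := (n.comp n).ker with hK2
  set R1 := n.range with hR1
  set K1 := n.ker with hK1
  have hle : R2 ≤ K2 := by
    rintro _ ⟨v, rfl⟩
    exact h4 v
  have hmul : Nat.card ↥R2 * Nat.card ↥K2 = 2 ^ 12 := by
    rw [← hV, hR2, hK2, ← Subgroup.index_ker (n.comp n)]
    exact Subgroup.index_mul_card _
  have hmul1 : Nat.card ↥R1 * Nat.card ↥K1 = 2 ^ 12 := by
    rw [← hV, hR1, hK1, ← Subgroup.index_ker n]
    exact Subgroup.index_mul_card _
  obtain ⟨a, -, ha⟩ := exists_two_pow hV R2
  obtain ⟨b, -, hb⟩ := exists_two_pow hV K2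
  obtain ⟨c, -, hcK⟩ := exists_two_pow hV K1
  obtain ⟨d, -, hd⟩ := exists_two_pow hV R1
  have hab : a ≤ b := (Nat.pow_le_pow_iff_right (by norm_num : 1 < 2)).mp
    (ha ▸ hb ▸ Subgroup.card_le_of_le hle)
  have hsum : a + b = 12 := by
    rw [ha, hb, ← pow_add] at hmul
    exact Nat.pow_right_injective (le_refl 2) hmul
  have hsum1 : d + c = 12 := by
    rw [hd, hcK, ← pow_add] at hmul1
    exact Nat.pow_right_injective (le_refl 2) hmul1
  have hae : a % 2 = 0 := even_exponent ha q h3 hf (by
    rintro _ ⟨v, rfl⟩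
    exact ⟨q v, by simp [hc]⟩)
  have hce : c % 2 = 0 := even_exponent hcK q h3 hf fun v hv => by
    simp only [hK1, MonoidHom.mem_ker] at hv ⊢
    rw [← hc, hv, map_one]
  rw [ha]
  refine Nat.pow_le_pow_right (by norm_num) ?_
  by_contra hlt
  have h6 : a = 6 := by omega
  have hb6 : b = 6 := by omega
  have heq : R2 = K2 := Subgroup.eq_of_le_of_card_ge hle (by rw [ha, hb, h6, hb6])
  have hK1R1 : K1 ≤ R1 := by
    intro v hv
    have h2 : v ∈ K2 := by
      simp only [hK2, MonoidHom.mem_ker, MonoidHom.comp_apply]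
      rw [MonoidHom.mem_ker.mp hv, map_one]
    rw [← heq] at h2
    obtain ⟨w, rfl⟩ := h2
    exact ⟨n w, rfl⟩
  set m : ↥R1 →* V := n.comp R1.subtype with hm
  have hrange : m.range = R2 := by
    ext v
    simp [hm, hR2, hR1, MonoidHom.mem_range]
  have hker : Nat.card ↥m.ker = Nat.card ↥K1 := by
    refine Nat.card_congr ⟨fun x => ⟨(x.1 : V), x.2⟩, fun x => ⟨⟨x.1, hK1R1 x.2⟩, x.2⟩, ?_, ?_⟩
    · exact fun x => rfl
    · exact fun x => rfl
  have hm2 : Nat.card ↥R2 * Nat.card ↥K1 = Nat.card ↥R1 := by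
    rw [← hrange, ← hker, ← Subgroup.index_ker m]
    exact Subgroup.index_mul_card _
  rw [ha, hcK, hd, ← pow_add] at hm2
  have := Nat.pow_right_injective (le_refl 2) hm2
  omega

end Cfsg.Agent.Lib.J4Local.RankBound
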