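import Cfsg.Agent.Lib.J4Local.Setting
import Cfsg.Agent.Lib.J4Local.RankBound

/-!
# The structure of the centralizer in the Janko-four type setting

The homomorphism to `Aut M22`, the inner subgroup, images of 2-subgroups.
-/

set_option autoImplicit false
set_option linter.unusedSectionVars false

namespace Cfsg.Agent.Lib.J4Local

open Cfsg.Agent.Lib.LargeExtraspecial.Basic

variable {G : Type*} [Group G]

/-- The inner subgroup: the elements of `C(z)` centralising `p` modulo `O₂`. -/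
def inner (z p : G) : Subgroup G where
  carrier := {h | Commute h z ∧ h * p * h⁻¹ * p⁻¹ ∈ Q z}
  one_mem' := ⟨Commute.one_left z, by simp⟩
  mul_mem' := by
    rintro g h ⟨hg, hg'⟩ ⟨hh, hh'⟩
    refine ⟨hg.mul_left hh, ?_⟩
    have e : g * h * p * (g * h)⁻¹ * p⁻¹ =
        g * (h * p * h⁻¹ * p⁻¹) * g⁻¹ * (g * p * g⁻¹ * p⁻¹) := by group
    rw [e]
    exact mul_mem (isQ.normal hg hh') hg'
  inv_mem' := by
    rintro g ⟨hg, hg'⟩
    refine ⟨hg.inv_left, ?_⟩
    have e : g⁻¹ * p * g⁻¹⁻¹ * p⁻¹ = g⁻¹ * (g * p * g⁻¹ * p⁻¹)⁻¹ * g⁻¹⁻¹ := by group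
    rw [e]
    exact isQ.normal hg.inv_left (inv_mem hg')

theorem mem_inner {z p h : G} :
    h ∈ inner z p ↔ Commute h z ∧ h * p * h⁻¹ * p⁻¹ ∈ Q z := Iff.rfl

theorem inner_le_cz (z p : G) : inner z p ≤ cz z := fun _ h => mem_cz.mpr h.1

namespace Setting

variable [Finite G] {z p : G}

theorem z_ne_one (S : Setting z p) : z ≠ 1 := S.es.ne

theorem z_sq (S : Setting z p) : z * z = 1 := S.es.sq

theorem p_mem_cz (S : Setting z p) : p ∈ cz z := mem_cz.mpr S.p_z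

theorem p_cube (S : Setting z p) : p ^ 3 = 1 := by rw [← S.ord_p, pow_orderOf_eq_one]

theorem p_mem_inner (S : Setting z p) : p ∈ inner z p := ⟨S.p_z, by simp⟩

theorem Q_le_inner (S : Setting z p) : Q z ≤ inner z p := fun e he => by
  refine ⟨isQ.commute he, ?_⟩
  rw [show e * p * e⁻¹ * p⁻¹ = e * (p * e⁻¹ * p⁻¹) by group]
  exact mul_mem he (isQ.normal S.p_z (inv_mem he))

theorem pow_Q (S : Setting z p) {e : G} (he : e ∈ Q z) : e ^ 2 ^ 13 = 1 := by
  have := pow_card_eq_one' (x := (⟨e, he⟩ : ↥(Q z)))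
  rw [S.card_E] at this
  exact congrArg Subtype.val this

theorem zpow_mem_Q (S : Setting z p) {i : ℤ} (h : p ^ i ∈ Q z) : p ^ i = 1 :=
  two_three (S.pow_Q h) ⟨13, rfl⟩ S.ord_p rfl

theorem p_not_mem (S : Setting z p) : p ∉ Q z := fun h => by
  have := S.zpow_mem_Q (i := 1) (by rwa [zpow_one])
  rw [zpow_one] at this
  simpa [this] using S.ord_p

/-- The map to `Aut M22` on `C(z)`. -/
noncomputable def phi (S : Setting z p) : ↥(cz z) →* AutM22 := S.exists_phi.choose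

theorem phi_surjective (S : Setting z p) : Function.Surjective S.phi := S.exists_phi.choose_spec.1

theorem phi_eq_one (S : Setting z p) (h : ↥(cz z)) :
    S.phi h = 1 ↔ ∃ e ∈ Q z, ∃ i : ℤ, (h : G) = e * p ^ i := S.exists_phi.choose_spec.2 h

open Classical in
/-- The image in `Aut M22` of an element of `C(z)` (junk outside). -/
noncomputable def img (S : Setting z p) (x : G) : AutM22 :=
  if h : x ∈ cz z then S.phi ⟨x, h⟩ else 1

theorem img_of_mem (S : Setting z p) {x : G} (h : x ∈ cz z) : S.img x = S.phi ⟨x, h⟩ := dif_pos h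

theorem img_mul (S : Setting z p) {x y : G} (hx : x ∈ cz z) (hy : y ∈ cz z) :
    S.img (x * y) = S.img x * S.img y := by
  rw [S.img_of_mem hx, S.img_of_mem hy, S.img_of_mem (mul_mem hx hy), ← map_mul]
  rfl

theorem img_inv (S : Setting z p) {x : G} (hx : x ∈ cz z) : S.img x⁻¹ = (S.img x)⁻¹ := by
  rw [S.img_of_mem hx, S.img_of_mem (inv_mem hx), ← map_inv]
  rfl

theorem img_pow (S : Setting z p) {x : G} (hx : x ∈ cz z) (n : ℕ) :
    S.img (x ^ n) = S.img x ^ n := by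
  rw [S.img_of_mem hx, S.img_of_mem (pow_mem hx n), ← map_pow]
  rfl

theorem img_eq_one (S : Setting z p) {x : G} (hx : x ∈ cz z) :
    S.img x = 1 ↔ ∃ e ∈ Q z, ∃ i : ℤ, x = e * p ^ i := by
  rw [S.img_of_mem hx, S.phi_eq_one]

theorem img_Q (S : Setting z p) {e : G} (he : e ∈ Q z) : S.img e = 1 :=
  (S.img_eq_one (Q_le_cz z he)).mpr ⟨e, he, 0, by simp⟩

theorem img_p (S : Setting z p) : S.img p = 1 :=
  (S.img_eq_one S.p_mem_cz).mpr ⟨1, one_mem _, 1, by simp⟩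

theorem img_surj (S : Setting z p) (a : AutM22) : ∃ x ∈ cz z, S.img x = a := by
  obtain ⟨⟨x, hx⟩, h⟩ := S.phi_surjective a
  exact ⟨x, hx, by rw [S.img_of_mem hx, h]⟩

theorem ker_le_inner (S : Setting z p) {x : G} (hx : x ∈ cz z) (h : S.img x = 1) :
    x ∈ inner z p := by
  obtain ⟨e, he, i, rfl⟩ := (S.img_eq_one hx).mp h
  exact mul_mem (S.Q_le_inner he) (zpow_mem S.p_mem_inner i)

/-- Outer elements invert `p` modulo `O₂`. -/
theorem inner_or_inverts (S : Setting z p) {x : G} (hx : x ∈ cz z) :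
    x ∈ inner z p ∨ x * p * x⁻¹ * p ∈ Q z := by
  have hc : x * p * x⁻¹ ∈ cz z := mul_mem (mul_mem hx S.p_mem_cz) (inv_mem hx)
  have h1 : S.img (x * p * x⁻¹) = 1 := by
    rw [S.img_mul (mul_mem hx S.p_mem_cz) (inv_mem hx), S.img_mul hx S.p_mem_cz, S.img_p,
      S.img_inv hx]
    simp
  obtain ⟨e, he, i, hi⟩ := (S.img_eq_one hc).mp h1
  have h3 : p ^ (3 : ℤ) = 1 := by
    rw [show (3 : ℤ) = ((3 : ℕ) : ℤ) from rfl, zpow_natCast, S.p_cube]
  have hk3 : p ^ i = p ^ (i % 3) := by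
    conv_lhs => rw [← Int.emod_add_mul_ediv i 3, zpow_add, zpow_mul, h3, one_zpow, mul_one]
  rw [hk3] at hi
  have hr : i % 3 = 0 ∨ i % 3 = 1 ∨ i % 3 = 2 := by omega
  rcases hr with hr | hr | hr <;> rw [hr] at hi
  · refine absurd ?_ S.p_not_mem
    rw [zpow_zero, mul_one] at hi
    have hzx : Commute x⁻¹ z := (mem_cz.mp hx).inv_left
    have := isQ.normal hzx (hi ▸ he : x * p * x⁻¹ ∈ Q z)
    simpa [mul_assoc] using this
  · left
    refine ⟨mem_cz.mp hx, ?_⟩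
    rw [hi, zpow_one, mul_inv_cancel_right]
    exact he
  · right
    rw [hi, mul_assoc, ← zpow_add_one, show (2 : ℤ) + 1 = 3 by norm_num, h3, mul_one]
    exact he

theorem exists_outer (S : Setting z p) : ∃ x ∈ cz z, x ∉ inner z p := by
  obtain ⟨h, hz, hh⟩ := S.moves
  refine ⟨h, mem_cz.mpr hz, fun hi => ?_⟩
  have := hi.2
  rw [hh] at this
  have h2 := S.zpow_mem_Q (i := -2) (by rw [show p ^ (-2 : ℤ) = p⁻¹ * p⁻¹ by group]; exact this)
  have h3 : p ^ (-2 : ℤ) * p ^ (3 : ℕ) = p := by group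
  rw [h2, S.p_cube, mul_one] at h3
  simpa [← h3] using S.ord_p

theorem mul_mem_inner (S : Setting z p) {x y : G} (hx : x ∈ cz z) (hy : y ∈ cz z)
    (hxo : x ∉ inner z p) (hyo : y ∉ inner z p) : x * y ∈ inner z p := by
  refine ⟨mem_cz.mp (mul_mem hx hy), ?_⟩
  have a := (S.inner_or_inverts hx).resolve_left hxo
  have b := (S.inner_or_inverts hy).resolve_left hyo
  have e : x * y * p * (x * y)⁻¹ * p⁻¹ =
      (x * (y * p * y⁻¹ * p) * x⁻¹) * (p * (x * p * x⁻¹ * p)⁻¹ * p⁻¹) := by group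
  rw [e]
  exact mul_mem (isQ.normal (mem_cz.mp hx) b) (isQ.normal S.p_z (inv_mem a))

theorem inner_index (S : Setting z p) : ((inner z p).subgroupOf (cz z)).index = 2 := by
  obtain ⟨x, hx, hxo⟩ := S.exists_outer
  rw [Subgroup.index_eq_two_iff]
  refine ⟨⟨x, hx⟩, fun b => ?_⟩
  simp only [Subgroup.mem_subgroupOf, Subgroup.coe_mul]
  by_cases hb : (b : G) ∈ inner z p
  · exact Or.inr ⟨hb, fun h => hxo ((Subgroup.mul_mem_cancel_left _ hb).mp h)⟩
  · exact Or.inl ⟨S.mul_mem_inner b.2 hx hb hxo, hb⟩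

theorem img_mem_inn (S : Setting z p) (F : AutFacts) {x : G} (hx : x ∈ cz z) :
    S.img x ∈ inn ↔ x ∈ inner z p := by
  have hmap : ((inner z p).subgroupOf (cz z)).map S.phi = inn := by
    refine F.index_two _ ?_
    rw [Subgroup.index_map_eq _ S.phi_surjective, S.inner_index]
    intro a ha
    have h := S.ker_le_inner a.2 (by rw [S.img_of_mem a.2]; exact ha)
    exact Subgroup.mem_subgroupOf.mpr h
  rw [S.img_of_mem hx, ← hmap]
  refine ⟨?_, fun h => ⟨⟨x, hx⟩, h, rfl⟩⟩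
  rintro ⟨a, ha, hax⟩
  have h1 : S.img ((a : G)⁻¹ * x) = 1 := by
    rw [S.img_mul (inv_mem a.2) hx, S.img_inv a.2, S.img_of_mem a.2, S.img_of_mem hx, hax]
    simp
  have ha' : (a : G) ∈ inner z p := ha
  have hm : (a : G)⁻¹ * x ∈ cz z := mul_mem (inv_mem a.2) hx
  have := mul_mem ha' (S.ker_le_inner hm h1)
  simpa using this

theorem card_ker (S : Setting z p) : Nat.card ↥S.phi.ker = 3 * 2 ^ 13 := by
  let f : ↥(Q z) × ↥(Subgroup.zpowers p) → ↥S.phi.ker := fun x =>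
    ⟨⟨x.1 * x.2, mul_mem (Q_le_cz z x.1.2) (Subgroup.zpowers_le.mpr S.p_mem_cz x.2.2)⟩, by
      obtain ⟨i, hi⟩ := Subgroup.mem_zpowers_iff.mp x.2.2
      exact (S.phi_eq_one _).mpr ⟨x.1, x.1.2, i, by rw [hi]⟩⟩
  have hinj : Function.Injective f := by
    rintro ⟨a, b⟩ ⟨c, d⟩ hh
    have hh' : (a : G) * b = c * d := congrArg (fun y : ↥S.phi.ker => (y.1 : G)) hh
    have h1 : ((c : G)⁻¹ * a) = d * (b : G)⁻¹ := by
      rw [eq_mul_inv_iff_mul_eq, mul_assoc, hh', inv_mul_cancel_left]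
    obtain ⟨i, hi⟩ := Subgroup.mem_zpowers_iff.mp
      (mul_mem d.2 (inv_mem b.2) : (d : G) * (b : G)⁻¹ ∈ Subgroup.zpowers p)
    have hone : (c : G)⁻¹ * a = 1 := by
      rw [h1, ← hi]
      exact S.zpow_mem_Q (by rw [hi, ← h1]; exact mul_mem (inv_mem c.2) a.2)
    have e1 : a = c := Subtype.ext (inv_mul_eq_one.mp hone).symm
    have e2 : b = d := Subtype.ext (mul_inv_eq_one.mp (h1.symm.trans hone)).symm
    rw [e1, e2]
  have hsurj : Function.Surjective f := by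
    rintro ⟨⟨h, hh⟩, hk⟩
    obtain ⟨e, he, i, hi⟩ := (S.phi_eq_one _).mp hk
    exact ⟨(⟨e, he⟩, ⟨p ^ i, Subgroup.zpow_mem_zpowers p i⟩), Subtype.ext (Subtype.ext hi.symm)⟩
  rw [← Nat.card_eq_of_bijective f ⟨hinj, hsurj⟩, Nat.card_prod, S.card_E, Nat.card_zpowers,
    S.ord_p, mul_comm]

theorem card_cz (S : Setting z p) (F : AutFacts) :
    Nat.card ↥(cz z) = 3 * 2 ^ 13 * 887040 := by
  have h := Subgroup.card_mul_index S.phi.ker
  rw [Subgroup.index_ker, MonoidHom.range_eq_top.mpr S.phi_surjective,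
    Nat.card_congr Subgroup.topEquiv.toEquiv, S.card_ker, F.card_aut] at h
  exact h.symm

/-- A 2-element of the kernel lies in `O₂`. -/
theorem mem_Q_of_img_one (S : Setting z p) {x : G} (hx : x ∈ cz z) (h : S.img x = 1) {k : ℕ}
    (h2 : x ^ 2 ^ k = 1) : x ∈ Q z := by
  obtain ⟨e, he, i, hi⟩ := (S.img_eq_one hx).mp h
  have key : ∀ n : ℕ, ∃ e' ∈ Q z, x ^ n = e' * p ^ (i * n) := by
    intro n
    induction n with
    | zero => exact ⟨1, one_mem _, by simp⟩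
    | succ m ih =>
      obtain ⟨e', he', hm⟩ := ih
      refine ⟨e' * (p ^ (i * m) * e * (p ^ (i * m))⁻¹),
        mul_mem he' (isQ.normal (S.p_z.zpow_left _) he), ?_⟩
      rw [pow_succ, hm, hi, Nat.cast_succ, mul_add, mul_one, zpow_add]
      group
  obtain ⟨e', he', hk⟩ := key (2 ^ k)
  rw [h2] at hk
  have hp : p ^ (i * (2 ^ k : ℕ)) ∈ Q z := by
    rw [show p ^ (i * (2 ^ k : ℕ)) = e'⁻¹ by rw [← mul_eq_one_iff_inv_eq.mp hk.symm]]
    exact inv_mem he'
  have h1 := S.zpow_mem_Q hp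
  have h3 : p ^ i = 1 := by
    refine two_three (n := 2 ^ k) ?_ ⟨k, rfl⟩ S.ord_p (i := i) rfl
    rw [← zpow_natCast, ← zpow_mul]
    exact h1
  rw [hi, h3, mul_one]
  exact he

/-- The image in `Aut M22` of a subgroup of `C(z)`. -/
noncomputable def imgS (S : Setting z p) (X : Subgroup G) : Subgroup AutM22 :=
  (X.subgroupOf (cz z)).map S.phi

theorem mem_imgS (S : Setting z p) {X : Subgroup G} (hX : X ≤ cz z) {a : AutM22} :
    a ∈ S.imgS X ↔ ∃ x ∈ X, S.img x = a := by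
  constructor
  · rintro ⟨⟨x, hx⟩, hxX, rfl⟩
    exact ⟨x, hxX, S.img_of_mem hx⟩
  · rintro ⟨x, hx, rfl⟩
    exact ⟨⟨x, hX hx⟩, hx, (S.img_of_mem (hX hx)).symm⟩

/-- The image of a 2-subgroup. -/
theorem card_imgS (S : Setting z p) {X : Subgroup G} (hX : X ≤ cz z) (h2 : IsPGroup 2 ↥X) :
    Nat.card ↥(S.imgS X) * Nat.card ↥(X ⊓ Q z) = Nat.card ↥X := by
  set m : ↥X →* AutM22 := S.phi.comp (Subgroup.inclusion hX) with hm
  have hrange : m.range = S.imgS X := by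
    ext a
    rw [S.mem_imgS hX]
    constructor
    · rintro ⟨x, rfl⟩; exact ⟨x, x.2, S.img_of_mem _⟩
    · rintro ⟨x, hx, rfl⟩; exact ⟨⟨x, hx⟩, (S.img_of_mem _).symm⟩
  have hker : Nat.card ↥m.ker = Nat.card ↥(X ⊓ Q z) := by
    refine Nat.card_congr ⟨fun x => ⟨x.1.1, x.1.2, ?_⟩, fun x => ⟨⟨x.1, x.2.1⟩, ?_⟩,
      fun _ => rfl, fun _ => rfl⟩
    · obtain ⟨k, hk⟩ := h2 x.1
      exact S.mem_Q_of_img_one (hX x.1.2) ((S.img_of_mem _).trans x.2) (congrArg Subtype.val hk)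
    · exact ((S.img_of_mem (hX x.2.1)).symm.trans (S.img_Q x.2.2) :)
  rw [← hrange, ← hker, ← Subgroup.index_ker m, mul_comm]
  exact Subgroup.card_mul_index _

theorem isPGroup_Q (S : Setting z p) : IsPGroup 2 ↥(Q z) := IsPGroup.of_card S.card_E

/-- Fixed points of `p` modulo the centre. -/
theorem fix_mod (S : Setting z p) {e : G} (he : e ∈ Q z)
    (h : p * e * p⁻¹ = e ∨ p * e * p⁻¹ = e * z) : e = 1 ∨ e = z := by
  rcases h with h | h
  · exact S.fix e he (mul_inv_eq_iff_eq_mul.mp h).symm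
  · have hpz : p * z * p⁻¹ = z := by rw [S.p_z.eq, mul_inv_cancel_right]
    have key : p * (e * z) * p⁻¹ = e := by
      calc p * (e * z) * p⁻¹ = p * e * p⁻¹ * (p * z * p⁻¹) := by group
        _ = e := by rw [h, hpz, mul_assoc, S.z_sq, mul_one]
    have h3 : p * (p * (p * e * p⁻¹) * p⁻¹) * p⁻¹ = e := by
      calc p * (p * (p * e * p⁻¹) * p⁻¹) * p⁻¹ = p ^ 3 * e * (p ^ 3)⁻¹ := by
            rw [pow_succ, pow_two]; group
        _ = e := by rw [S.p_cube]; group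
    rw [h, key, h] at h3
    exact absurd (by simpa using h3) S.z_ne_one

end Setting

end Cfsg.Agent.Lib.J4Local
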