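import Mathlib
import Cfsg.Prelude.Def_Spor_Mathieu

/-!
# The finite facts about the automorphism group of M22 used in the Janko-four type analysis

Only the interface; see notes/j4_type_base_helper48.md, list F1 - F8.
-/

set_option autoImplicit false

namespace Cfsg.Agent.Lib.J4Local

/-- The automorphism group of M22. -/
abbrev AutM22 : Type := MulAut ↥Cfsg.Spor.M22

/-- The inner automorphisms of M22. -/
def inn : Subgroup AutM22 := (MulAut.conj : ↥Cfsg.Spor.M22 →* AutM22).range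

/-- All elements square to one (so the subgroup is an elementary abelian 2-group). -/
def IsExp2 {A : Type*} [Group A] (S : Subgroup A) : Prop := ∀ a ∈ S, a * a = 1

/-- The centre of a subgroup, inside the ambient group. -/
def centreIn {A : Type*} [Group A] (S : Subgroup A) : Subgroup A :=
  S ⊓ Subgroup.centralizer (S : Set A)

/-- The finite facts about `Aut M22`. -/
structure AutFacts : Prop where
  card_aut : Nat.card AutM22 = 887040
  card_inn : Nat.card ↥inn = 443520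
  index_two : ∀ S : Subgroup AutM22, S.index = 2 → S = inn
  simple : IsSimpleGroup ↥inn
  conj_involution : ∀ a ∈ inn, ∀ b ∈ inn, orderOf a = 2 → orderOf b = 2 →
    ∃ c ∈ inn, c * a * c⁻¹ = b
  square : ∀ a ∈ inn, orderOf a = 2 → ∃ s ∈ inn, s * s = a
  cent_involution : ∀ a ∈ inn, orderOf a = 2 →
    Nat.card ↥(inn ⊓ Subgroup.centralizer ({a} : Set AutM22)) = 384
  exp2_card : ∀ S : Subgroup AutM22, IsExp2 S → Nat.card ↥S ≤ 32
  exp2_inn : ∀ S : Subgroup AutM22, IsExp2 S → Nat.card ↥S = 32 →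
    Nat.card ↥(S ⊓ inn) = 16
  exp2_normalizer : ∀ S : Subgroup AutM22, IsExp2 S → Nat.card ↥S = 32 →
    Nat.card ↥(Subgroup.normalizer (S : Set AutM22)) ∣ 3840
  centre_256 : ∀ S : Subgroup AutM22, Nat.card ↥S = 256 → Nat.card ↥(centreIn S) ≤ 2
  centre_128 : ∀ S : Subgroup AutM22, Nat.card ↥S = 128 → Nat.card ↥(centreIn S) ≤ 4
  centre_small : ∀ S : Subgroup AutM22, Nat.card ↥S = 32 ∨ Nat.card ↥S = 64 →
    (∃ a ∈ S, ∃ b ∈ S, a * b ≠ b * a) → Nat.card ↥(centreIn S) ≤ 8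
  five_not_commute : ∀ x : AutM22, orderOf x = 5 → ∀ a ∈ inn, orderOf a = 2 → ¬ Commute x a
  conj_three : ∀ a ∈ inn, ∀ b ∈ inn, orderOf a = 3 → orderOf b = 3 →
    ∃ c ∈ inn, c * a * c⁻¹ = b
  cent_three : ∀ y : AutM22, orderOf y = 3 →
    Nat.card ↥(Subgroup.centralizer ({y} : Set AutM22)) = 72 ∧
    Nat.card ↥(inn ⊓ Subgroup.centralizer ({y} : Set AutM22)) = 36
  cent_three_two : ∀ y : AutM22, orderOf y = 3 →
    ∀ S : Subgroup AutM22, S ≤ Subgroup.centralizer ({y} : Set AutM22) → Nat.card ↥S = 8 →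
      centreIn S ≤ ⁅S, S⁆
  sylow_three : ∀ R : Subgroup AutM22, Nat.card ↥R = 9 →
    (∀ a ∈ R, a ^ 3 = 1) ∧ Nat.card ↥(Subgroup.normalizer (R : Set AutM22)) = 144 ∧
    ∀ X : Subgroup AutM22, X ≤ R → Nat.card ↥X = 3 →
      ¬ Subgroup.normalizer (R : Set AutM22) ≤ Subgroup.normalizer (X : Set AutM22)

end Cfsg.Agent.Lib.J4Local
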