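import Cfsg.Agent.Lib.J4Local.Orders
import Cfsg.Agent.Lib.ZStar.UniqueCase

/-!
# Some conjugate of `z` lies in `O₂(C(z))` outside the centre
-/

set_option autoImplicit false
set_option linter.unusedSectionVars false
set_option linter.unusedVariables false

namespace Cfsg.Agent.Lib.J4Local

open Cfsg.Agent.Lib.LargeExtraspecial.Basic

variable {G : Type*} [Group G]

/-- No other conjugate of `z` lies in `O₂(C(z))`. -/
def NotFused (z : G) : Prop := ∀ e ∈ Q z, IsConj z e → e = z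

theorem NotFused.of_isConj {z u : G} (h : NotFused z) (hu : IsConj z u) : NotFused u := by
  obtain ⟨g, rfl⟩ := isConj_iff.mp hu
  intro e he hc
  have h1 : g⁻¹ * e * g ∈ Q z := by simpa [mul_assoc] using isQ.mem_conj g⁻¹ he
  have h2 : IsConj z (g⁻¹ * e * g) := by
    refine hu.trans (hc.trans (isConj_iff.mpr ⟨g⁻¹, ?_⟩))
    group
  have := h _ h1 h2
  calc e = g * (g⁻¹ * e * g) * g⁻¹ := by group
    _ = g * z * g⁻¹ := by rw [this]

theorem centre_image_le {A : Type*} [Group A] [Finite A] {X C : Subgroup A} (hX : X ≤ C)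
    (hc : ∀ x ∈ X, ∀ c ∈ C, x * c = c * x) : Nat.card ↥X ≤ Nat.card ↥(centreIn C) :=
  Subgroup.card_le_of_le fun x hx =>
    ⟨hX hx, Subgroup.mem_centralizer_iff.mpr fun c hc' => (hc x hx c hc').symm⟩

theorem two_pow_of_le {H : Type*} [Group H] [Finite H] {P : Subgroup H} (hP : IsPGroup 2 ↥P)
    {X : Subgroup H} (hX : X ≤ P) : ∃ j, Nat.card ↥X = 2 ^ j :=
  (hP.to_le hX).exists_card_eq

namespace Setting

variable [Finite G] {z p u q : G}

/-- The intersection of the two cores is central in `C_E(u)`. -/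
theorem comm_inter (S : Setting z p) (T : Setting u q) (hne : z ∉ Q u) {c d : G}
    (hc : c ∈ cQ z u) (hd : d ∈ Q z ⊓ Q u) : Commute c d := by
  rcases S.es.conj c (mem_cQ.mp hc).1 d hd.1 with h | h
  · exact mul_inv_eq_iff_eq_mul.mp h
  · exfalso
    refine hne ?_
    have h1 : d⁻¹ * (c * d * c⁻¹) ∈ Q u :=
      mul_mem (inv_mem hd.2) (isQ.normal (mem_cQ.mp hc).2 hd.2)
    rwa [h, inv_mul_cancel_left] at h1

theorem sq_inter (S : Setting z p) (T : Setting u q) (hne : z ∉ Q u) {d : G}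
    (hd : d ∈ Q z ⊓ Q u) : d * d = 1 :=
  (S.es.sq_cases hd.1).resolve_right fun h => hne (h ▸ mul_mem hd.2 hd.2)

theorem inter_le_cQ (T : Setting u q) : Q z ⊓ Q u ≤ cQ z u := fun d hd =>
  mem_cQ.mpr ⟨hd.1, isQ.commute hd.2⟩

theorem inter_le_perp (S : Setting z p) (T : Setting u q) (hne : z ∉ Q u) :
    Q z ⊓ Q u ≤ Q z ⊓ Subgroup.centralizer (cQ z u : Set G) := fun d hd =>
  ⟨hd.1, Subgroup.mem_centralizer_iff.mpr fun c hc => (S.comm_inter T hne hc hd).eq⟩

theorem aSub_le_perp (S : Setting z p) (hu : u ∈ cz z) :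
    aSub z u ≤ Q z ⊓ Subgroup.centralizer (cQ z u : Set G) := fun a ha =>
  ⟨S.aSub_le hu ha, Subgroup.mem_centralizer_iff.mpr fun c hc =>
    (commute_aSub_ySub ha (S.cQ_le_ySub hu hc)).eq.symm⟩

theorem card_perp_cQ (S : Setting z p) (hu : u ∈ cz z) :
    Nat.card ↥(Q z ⊓ Subgroup.centralizer (cQ z u : Set G)) * Nat.card ↥(cQ z u) = 2 ^ 14 := by
  rw [ESCount.card_perp (S := cQ z u) S.es inf_le_left (S.z_mem_cQ hu), S.card_E]
  norm_num

/-- The image of `C_E(u)` in `Aut M22` at `u`. -/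
theorem card_img_cQ (S : Setting z p) (T : Setting u q) :
    Nat.card ↥(T.imgS (cQ z u)) * Nat.card ↥(Q z ⊓ Q u) = Nat.card ↥(cQ z u) := by
  have h := T.card_imgS (X := cQ z u) inf_le_right (S.isPGroup_Q.to_le inf_le_left)
  rwa [show cQ z u ⊓ Q u = Q z ⊓ Q u from
    le_antisymm (inf_le_inf_right _ inf_le_left) (le_inf (inter_le_cQ T) inf_le_right)] at h

theorem img_two_le (T : Setting u q) (F : AutFacts) {X : Subgroup G} (hX : X ≤ cz u)
    (h2 : IsPGroup 2 ↥X) : Nat.card ↥(T.imgS X) ≤ 2 ^ 8 := by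
  have hp : IsPGroup 2 ↥(T.imgS X) := (h2.comap_of_injective _ Subtype.coe_injective).map _
  obtain ⟨n, hn⟩ := hp.exists_card_eq
  have hdvd : 2 ^ n ∣ 887040 := hn ▸ F.card_aut ▸ Subgroup.card_subgroup_dvd_card _
  rw [hn]
  refine Nat.pow_le_pow_right (by norm_num) ?_
  by_contra hlt
  push Not at hlt
  have h9 : 2 ^ 9 ∣ 887040 := (Nat.pow_dvd_pow 2 hlt).trans hdvd
  norm_num at h9

/-- A central subgroup of `C_E(u)` gives a lower bound for the centre of the image. -/
theorem centre_img (S : Setting z p) (T : Setting u q) {X : Subgroup G} (hX : X ≤ cQ z u)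
    (hc : ∀ x ∈ X, ∀ c ∈ cQ z u, Commute x c) :
    Nat.card ↥X ≤ Nat.card ↥(centreIn (T.imgS (cQ z u))) * Nat.card ↥(Q z ⊓ Q u) := by
  have hXu : X ≤ cz u := hX.trans inf_le_right
  have h := T.card_imgS hXu (S.isPGroup_Q.to_le (hX.trans inf_le_left))
  rw [← h]
  refine Nat.mul_le_mul (centre_image_le ?_ ?_) ?_
  · intro a ha
    obtain ⟨x, hx, rfl⟩ := (T.mem_imgS hXu).mp ha
    exact (T.mem_imgS (inf_le_right : cQ z u ≤ cz u)).mpr ⟨x, hX hx, rfl⟩
  · intro a ha c hc'
    obtain ⟨x, hx, rfl⟩ := (T.mem_imgS hXu).mp ha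
    obtain ⟨y, hy, rfl⟩ := (T.mem_imgS (inf_le_right : cQ z u ≤ cz u)).mp hc'
    rw [← T.img_mul (hXu hx) hy.2, ← T.img_mul hy.2 (hXu hx), (hc x hx y hy).eq]
  · exact Subgroup.card_le_of_le (inf_le_inf_right _ (hX.trans inf_le_left))

/-- The contradiction from a nontrivial exact commutator in both cores. -/
theorem no_inS (S : Setting z p) (T : Setting u q) (hu : IsConj z u) (h2 : u * u = 1)
    (hn : NotFused z) {d : G} (hd : d ∈ Q z ⊓ Q u) (hS : InS z u d) : d = 1 := by
  obtain ⟨h, -, hh⟩ := isConj_of_inS h2 hS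
  have hc : IsConj u (u * d) := isConj_iff.mpr ⟨h, hh⟩
  have := hn.of_isConj hu (u * d) (mul_mem T.es.mem hd.2) hc
  simpa using this

/-- A subgroup meeting the core intersection nontrivially. -/
theorem exists_mem_inf {D A P : Subgroup G} (hD : D ≤ P) (hA : A ≤ P)
    (h : Nat.card ↥P < Nat.card ↥D * Nat.card ↥A) : ∃ d ∈ D ⊓ A, d ≠ 1 := by
  by_contra hcon
  push Not at hcon
  have : D ⊓ A = ⊥ := by rw [Subgroup.eq_bot_iff_forall]; exact hcon
  have h1 := card_mul_card_le hD hA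
  rw [this, Subgroup.card_bot, mul_one] at h1
  omega

/-- An inner conjugate commuting with `z` forces fusion in the core. -/
theorem not_inner (S : Setting z p) (F : AutFacts) (T : Setting u q) (hu : IsConj z u)
    (hne : u ≠ z) (hcu : u ∈ inner z p) (hn : NotFused z) : False := by
  have huc : u ∈ cz z := inner_le_cz z p hcu
  have h2 : u * u = 1 := T.es.sq
  have huQ : u ∉ Q z := fun h => hne (hn u h hu)
  have hzQ : z ∉ Q u := fun h => hne (hn.of_isConj hu z h hu.symm).symm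
  obtain ⟨d, hd⟩ := two_pow_of_le S.isPGroup_Q (inf_le_left : Q z ⊓ Q u ≤ Q z)
  have him := S.card_img_cQ T
  obtain ⟨m, hm⟩ := ((S.isPGroup_Q.to_le (inf_le_left : cQ z u ≤ Q z)).comap_of_injective
    (cz u).subtype Subtype.coe_injective |>.map T.phi).exists_card_eq
  change Nat.card ↥(T.imgS (cQ z u)) = _ at hm
  have hm8 : m ≤ 8 := (Nat.pow_le_pow_iff_right (by norm_num : 1 < 2)).mp
    (hm ▸ T.img_two_le F (inf_le_right : cQ z u ≤ cz u) (S.isPGroup_Q.to_le inf_le_left))
  rw [hd, hm, ← pow_add] at him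
  have hperp := S.card_perp_cQ huc
  have hPD := S.inter_le_perp T hzQ
  have hPA : aSub z u ≤ Q z ⊓ Subgroup.centralizer (cQ z u : Set G) := S.aSub_le_perp huc
  -- a commutator in `D`
  have finish : InS z u z → Nat.card ↥(Q z ⊓ Subgroup.centralizer (cQ z u : Set G)) <
      Nat.card ↥(Q z ⊓ Q u) * Nat.card ↥(aSub z u) → False := by
    intro hz hlt
    obtain ⟨x, hx, hx1⟩ := exists_mem_inf hPD hPA hlt
    exact hx1 (S.no_inS T hu h2 hn hx.1 (S.inS_of_inS_z huc hz hx.2))
  set X := aSub z u ⊓ cQ z u with hX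
  have hXc : ∀ x ∈ X, ∀ c ∈ cQ z u, Commute x c := fun x hx c hc =>
    commute_aSub_ySub hx.1 (S.cQ_le_ySub huc hc)
  have hcentre := S.centre_img T (inf_le_right : X ≤ cQ z u) hXc
  have hXcard := card_mul_card_le (S.aSub_le_ySub huc h2) (S.cQ_le_ySub huc)
  rw [← hX] at hXcard
  rw [hd] at hcentre
  change Nat.card ↥X ≤ _ at hcentre
  rcases S.card_inner F hcu h2 huQ with ⟨hA, hY⟩ | ⟨hA, hY⟩ <;>
    rcases S.card_cQ huc with hC | ⟨hC, hz⟩ <;> rw [hY] at hC
  · -- `|A| = 8`, index one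
    rw [← hC] at him hperp
    have hdm := Nat.pow_right_injective (le_refl 2) him
    have hP8 : Nat.card ↥(Q z ⊓ Subgroup.centralizer (cQ z u : Set G)) = 2 ^ 3 := by omega
    have hle : 2 ^ 3 ≤ 2 ^ d := Nat.pow_le_pow_right (by norm_num) (by omega)
    have heq := Subgroup.eq_of_le_of_card_ge hPD (by rw [hP8, hd]; exact hle)
    have hzP : z ∈ Q z ⊓ Subgroup.centralizer (cQ z u : Set G) := hPA (z_mem_aSub z u)
    rw [← heq] at hzP
    exact hzQ hzP.2
  · -- `|A| = 8`, index two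
    have hC' : Nat.card ↥(cQ z u) = 2 ^ 10 := by omega
    rw [hC'] at him hperp
    have hdm := Nat.pow_right_injective (le_refl 2) him
    refine finish hz ?_
    have hP : Nat.card ↥(Q z ⊓ Subgroup.centralizer (cQ z u : Set G)) = 2 ^ 4 := by omega
    rw [hP, hd, hA, ← pow_add]
    exact Nat.pow_lt_pow_right (by norm_num) (by omega)
  · -- `|A| = 32`, index one
    rw [hA, ← hC, hY] at hXcard
    rw [← hC] at him hperp
    have hdm := Nat.pow_right_injective (le_refl 2) him
    have hX32 : 32 ≤ Nat.card ↥X := by omega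
    have hP : Nat.card ↥(Q z ⊓ Subgroup.centralizer (cQ z u : Set G)) = 2 ^ 5 := by omega
    have hAP : aSub z u = Q z ⊓ Subgroup.centralizer (cQ z u : Set G) :=
      Subgroup.eq_of_le_of_card_ge hPA (le_of_eq (by rw [hP, hA]))
    by_cases h3 : 3 ≤ d
    · obtain ⟨x, hx, hx1, hS⟩ := S.exists_inS huc h2 (hPD.trans hAP.ge) (by
        rw [hd]; exact le_trans (by norm_num) (Nat.pow_le_pow_right (n := 2) (by norm_num) h3))
      exact hx1 (S.no_inS T hu h2 hn hx hS)
    · rcases (show d = 1 ∨ d = 2 by omega) with rfl | rfl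
      · have := F.centre_256 _ (show Nat.card ↥(T.imgS (cQ z u)) = 256 by
          rw [hm, show m = 8 by omega]; norm_num)
        omega
      · have := F.centre_128 _ (show Nat.card ↥(T.imgS (cQ z u)) = 128 by
          rw [hm, show m = 7 by omega]; norm_num)
        omega
  · -- `|A| = 32`, index two
    have hC' : Nat.card ↥(cQ z u) = 2 ^ 8 := by omega
    rw [hA, hC', hY] at hXcard
    rw [hC'] at him hperp
    have hdm := Nat.pow_right_injective (le_refl 2) him
    have hX16 : 16 ≤ Nat.card ↥X := by omega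
    have hP : Nat.card ↥(Q z ⊓ Subgroup.centralizer (cQ z u : Set G)) = 2 ^ 6 := by omega
    by_cases h2' : 2 ≤ d
    · refine finish hz ?_
      rw [hP, hd, hA, ← pow_add]
      exact Nat.pow_lt_pow_right (by norm_num) (by omega)
    · rcases (show d = 0 ∨ d = 1 by omega) with rfl | rfl
      · have := F.centre_256 _ (show Nat.card ↥(T.imgS (cQ z u)) = 256 by
          rw [hm, show m = 8 by omega]; norm_num)
        omega
      · have := F.centre_128 _ (show Nat.card ↥(T.imgS (cQ z u)) = 128 by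
          rw [hm, show m = 7 by omega]; norm_num)
        omega

end Setting

end Cfsg.Agent.Lib.J4Local
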