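import Cfsg.Agent.Lib.J4Local.Rank

/-!
# An involution of `C(z)` acting on `O₂(C(z))`
-/

set_option autoImplicit false
set_option linter.unusedSectionVars false
set_option linter.unusedVariables false

namespace Cfsg.Agent.Lib.J4Local

open Cfsg.Agent.Lib.LargeExtraspecial.Basic

variable {G : Type*} [Group G]

/-- The centralizer of `u` in `O₂(C(z))`. -/
def cQ (z u : G) : Subgroup G := Q z ⊓ cz u

theorem mem_cQ {z u e : G} : e ∈ cQ z u ↔ e ∈ Q z ∧ Commute e u :=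
  and_congr Iff.rfl mem_cz

/-- The exact commutators `[u, e]`. -/
def InS (z u x : G) : Prop := ∃ e ∈ Q z, x = u * e * u⁻¹ * e⁻¹

theorem card_mul_card_le [Finite G] {A B E : Subgroup G} (hA : A ≤ E) (hB : B ≤ E) :
    Nat.card ↥A * Nat.card ↥B ≤ Nat.card ↥E * Nat.card ↥(A ⊓ B) := by
  have h1 : Nat.card ↥(B ⊓ A) * (B ⊓ A).relIndex A = Nat.card ↥A := by
    rw [← Subgroup.relIndex_bot_left, ← Subgroup.relIndex_bot_left]
    exact Subgroup.relIndex_mul_relIndex _ _ _ bot_le inf_le_right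
  have h2 : Nat.card ↥B * B.relIndex E = Nat.card ↥E := by
    rw [← Subgroup.relIndex_bot_left, ← Subgroup.relIndex_bot_left]
    exact Subgroup.relIndex_mul_relIndex _ _ _ bot_le hB
  have h3 : B.relIndex A ≤ B.relIndex E := by
    refine Subgroup.relIndex_le_of_le_right hA ?_
    exact Subgroup.index_ne_zero_of_finite
  rw [Subgroup.inf_relIndex_right] at h1
  rw [inf_comm A B]
  calc Nat.card ↥A * Nat.card ↥B
      = Nat.card ↥(B ⊓ A) * (Nat.card ↥B * B.relIndex A) := by rw [← h1]; ring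
    _ ≤ Nat.card ↥(B ⊓ A) * (Nat.card ↥B * B.relIndex E) := by gcongr
    _ = Nat.card ↥E * Nat.card ↥(B ⊓ A) := by rw [h2, mul_comm]

theorem isConj_of_inS {z u d : G} (hu : u * u = 1) (hd : InS z u d) :
    ∃ h ∈ Q z, h * u * h⁻¹ = u * d := by
  obtain ⟨e, he, rfl⟩ := hd
  refine ⟨e, he, ?_⟩
  have hi : u⁻¹ = u := inv_eq_of_mul_eq_one_right hu
  calc e * u * e⁻¹ = u * (u⁻¹ * e * u * e⁻¹) := by group
    _ = u * (u * e * u⁻¹ * e⁻¹) := by rw [hi]

namespace Setting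

variable [Finite G] {z p : G}

theorem z_mem_cQ (S : Setting z p) {u : G} (hu : u ∈ cz z) : z ∈ cQ z u :=
  mem_cQ.mpr ⟨S.es.mem, (mem_cz.mp hu).symm⟩

theorem cQ_le_ySub (S : Setting z p) {u : G} (hu : u ∈ cz z) : cQ z u ≤ ySub z u := fun e he =>
  (S.mem_ySub hu).mpr ⟨(mem_cQ.mp he).1,
    Or.inl (mul_inv_eq_iff_eq_mul.mpr (mem_cQ.mp he).2.symm.eq)⟩

/-- An involution inverts every element of `aSub`. -/
theorem conj_aSub (S : Setting z p) {u a : G} (hu : u ∈ cz z) (h2 : u * u = 1)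
    (ha : a ∈ aSub z u) : u * a * u⁻¹ = a⁻¹ := by
  have hi : u⁻¹ = u := inv_eq_of_mul_eq_one_right h2
  have conjz : u * z * u⁻¹ = z := by rw [(mem_cz.mp hu).eq, mul_inv_cancel_right]
  obtain ⟨e, he, h⟩ := (S.mem_aSub hu).mp ha
  have hc : u * (u * e * u⁻¹ * e⁻¹) * u⁻¹ = (u * e * u⁻¹ * e⁻¹)⁻¹ := by
    calc u * (u * e * u⁻¹ * e⁻¹) * u⁻¹ = (u * u) * e * (u⁻¹ * e⁻¹ * u⁻¹) := by group
      _ = (u * e * u⁻¹ * e⁻¹)⁻¹ := by rw [h2, hi]; simp [mul_assoc, hi]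
  rcases h with rfl | rfl
  · exact hc
  · rw [mul_inv_rev, S.es.zinv]
    calc u * (u * e * u⁻¹ * e⁻¹ * z) * u⁻¹
        = (u * (u * e * u⁻¹ * e⁻¹) * u⁻¹) * (u * z * u⁻¹) := by group
      _ = z * (u * e * u⁻¹ * e⁻¹)⁻¹ := by
          rw [hc, conjz, S.z_comm (inv_mem (S.comm_mem hu he))]

theorem aSub_le_ySub (S : Setting z p) {u : G} (hu : u ∈ cz z) (h2 : u * u = 1) :
    aSub z u ≤ ySub z u := fun a ha => by
  have haQ := S.aSub_le hu ha
  refine (S.mem_ySub hu).mpr ⟨haQ, ?_⟩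
  rw [S.conj_aSub hu h2 ha]
  rcases S.es.sq_cases haQ with h | h
  · exact Or.inl (inv_eq_of_mul_eq_one_right h)
  · exact Or.inr (inv_eq_of_mul_eq_one_right (by rw [← mul_assoc, h, S.z_sq]))

theorem commute_aSub_ySub {u a y : G} (ha : a ∈ aSub z u) (hy : y ∈ ySub z u) : Commute a y :=
  Subgroup.mem_centralizer_iff.mp hy.2 a ha

theorem commute_aSub (S : Setting z p) {u a b : G} (hu : u ∈ cz z) (h2 : u * u = 1)
    (ha : a ∈ aSub z u) (hb : b ∈ aSub z u) : Commute a b :=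
  commute_aSub_ySub ha (S.aSub_le_ySub hu h2 hb)

theorem commute_iff_sq (S : Setting z p) {u a : G} (hu : u ∈ cz z) (h2 : u * u = 1)
    (ha : a ∈ aSub z u) : Commute a u ↔ a * a = 1 := by
  have h := S.conj_aSub hu h2 ha
  constructor
  · intro hc
    rw [mul_inv_eq_iff_eq_mul.mpr hc.symm.eq] at h
    exact mul_eq_one_iff_eq_inv.mpr h
  · intro hs
    rw [inv_eq_of_mul_eq_one_right hs] at h
    exact (mul_inv_eq_iff_eq_mul.mp h).symm

/-- `[Y : C_E(u)] ≤ 2`. -/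
theorem card_cQ (S : Setting z p) {u : G} (hu : u ∈ cz z) :
    (Nat.card ↥(ySub z u) = Nat.card ↥(cQ z u)) ∨
    (Nat.card ↥(ySub z u) = 2 * Nat.card ↥(cQ z u) ∧ InS z u z) := by
  by_cases hle : ySub z u ≤ cQ z u
  · left
    rw [le_antisymm hle (S.cQ_le_ySub hu)]
  · right
    obtain ⟨a, ha, hac⟩ := SetLike.not_le_iff_exists.mp hle
    have moved : ∀ y ∈ ySub z u, y ∉ cQ z u → u * y * u⁻¹ = y * z := fun y hy hyc =>
      ((S.mem_ySub hu).mp hy).2.resolve_left fun h => hyc (mem_cQ.mpr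
        ⟨hy.1, (mul_inv_eq_iff_eq_mul.mp h).symm⟩)
    refine ⟨?_, ?_⟩
    · have hidx : ((cQ z u).subgroupOf (ySub z u)).index = 2 := by
        rw [Subgroup.index_eq_two_iff]
        refine ⟨⟨a, ha⟩, fun b => ?_⟩
        simp only [Subgroup.mem_subgroupOf, Subgroup.coe_mul]
        by_cases hb : (b : G) ∈ cQ z u
        · exact Or.inr ⟨hb, fun hh => hac ((Subgroup.mul_mem_cancel_left _ hb).mp hh)⟩
        · refine Or.inl ⟨mem_cQ.mpr ⟨mul_mem b.2.1 ha.1, ?_⟩, hb⟩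
          refine (mul_inv_eq_iff_eq_mul.mp ?_).symm
          calc u * ((b : G) * a) * u⁻¹ = (u * b * u⁻¹) * (u * a * u⁻¹) := by group
            _ = (b : G) * (z * a) * z := by rw [moved _ b.2 hb, moved _ ha hac]; group
            _ = (b : G) * a := by
              rw [← S.z_comm ha.1, mul_assoc, mul_assoc a, S.z_sq, mul_one]
      rw [← Subgroup.card_mul_index ((cQ z u).subgroupOf (ySub z u)), hidx,
        Nat.card_congr (Subgroup.subgroupOfEquivOfLe (S.cQ_le_ySub hu)).toEquiv, mul_comm]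
    · refine ⟨a, ha.1, ?_⟩
      rw [moved a ha hac, S.z_comm ha.1, mul_inv_cancel_right]

/-- If `z` is a commutator then every element of `aSub` is one. -/
theorem inS_of_inS_z (S : Setting z p) {u x : G} (hu : u ∈ cz z) (hz : InS z u z)
    (hx : x ∈ aSub z u) : InS z u x := by
  obtain ⟨y, hy, hyz⟩ := hz
  obtain ⟨e, he, h | h⟩ := (S.mem_aSub hu).mp hx
  · exact ⟨e, he, h⟩
  · refine ⟨e * y, mul_mem he hy, ?_⟩
    calc x = u * e * u⁻¹ * e⁻¹ * (e * z * e⁻¹) := by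
            rw [h, S.z_comm he, mul_inv_cancel_right]
      _ = u * (e * y) * u⁻¹ * (e * y)⁻¹ := by rw [hyz]; group

/-- A subgroup of `aSub` of order at least eight contains a nontrivial exact commutator. -/
theorem exists_inS (S : Setting z p) {u : G} (hu : u ∈ cz z) (h2 : u * u = 1) {D : Subgroup G}
    (hD : D ≤ aSub z u) (h8 : 8 ≤ Nat.card ↥D) : ∃ d ∈ D, d ≠ 1 ∧ InS z u d := by
  by_contra hcon
  push Not at hcon
  have hbad : ∀ d ∈ D, d ≠ 1 → ∃ e ∈ Q z, d = u * e * u⁻¹ * e⁻¹ * z := by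
    intro d hd hne
    obtain ⟨e, he, h | h⟩ := (S.mem_aSub hu).mp (hD hd)
    · exact absurd ⟨e, he, h⟩ (hcon d hd hne)
    · exact ⟨e, he, h⟩
  obtain ⟨d₁, hd₁, hne₁⟩ : ∃ d ∈ D, d ≠ 1 := by
    by_contra h
    push Not at h
    have : D = ⊥ := by rw [Subgroup.eq_bot_iff_forall]; exact h
    rw [this, Subgroup.card_bot] at h8
    omega
  obtain ⟨e₁, he₁, h₁⟩ := hbad d₁ hd₁ hne₁
  set K : Subgroup G := D ⊓ cz e₁ with hK
  have hKcard : 4 ≤ Nat.card ↥K := by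
    have hle : Nat.card ↥D ≤ 2 * Nat.card ↥K := by
      by_cases hall : D ≤ cz e₁
      · rw [hK, inf_eq_left.mpr hall]; omega
      · obtain ⟨a, ha, hac⟩ := SetLike.not_le_iff_exists.mp hall
        have hidx : (K.subgroupOf D).index = 2 := by
          rw [Subgroup.index_eq_two_iff]
          refine ⟨⟨a, ha⟩, fun b => ?_⟩
          simp only [Subgroup.mem_subgroupOf, Subgroup.coe_mul]
          by_cases hb : (b : G) ∈ K
          · exact Or.inr ⟨hb, fun hh => hac ((Subgroup.mul_mem_cancel_left _ hb).mp hh).2⟩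
          · refine Or.inl ⟨⟨mul_mem b.2 ha, mem_cz.mpr ?_⟩, hb⟩
            have hbQ := S.aSub_le hu (hD b.2)
            have haQ := S.aSub_le hu (hD ha)
            have c1 : chi e₁ (b : G) = 1 := ESCount.zmod_two _ fun h0 =>
              hb ⟨b.2, mem_cz.mpr (chi_eq_zero.mp h0).symm⟩
            have c2 : chi e₁ a = 1 := ESCount.zmod_two _ fun h0 =>
              hac (mem_cz.mpr (chi_eq_zero.mp h0).symm)
            refine (chi_eq_zero.mp ?_).symm
            rw [S.es.chi_mul_right he₁ hbQ haQ, c1, c2]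
            decide
        rw [← Subgroup.card_mul_index (K.subgroupOf D), hidx,
          Nat.card_congr (Subgroup.subgroupOfEquivOfLe (inf_le_left : K ≤ D)).toEquiv, mul_comm]
    omega
  obtain ⟨d₂, hd₂, hne₂, hne₁₂⟩ : ∃ d ∈ K, d ≠ 1 ∧ d₁ * d ≠ 1 := by
    by_contra h
    push Not at h
    have hsub : (K : Set G) ⊆ {1, d₁⁻¹} := fun d hd => by
      by_cases h1 : d = 1
      · exact Or.inl h1
      · exact Or.inr (eq_inv_of_mul_eq_one_right (h d hd h1))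
    have := Set.ncard_le_ncard hsub
    rw [Set.ncard_pair (Ne.symm (inv_ne_one.mpr hne₁)), ← Nat.card_coe_set_eq,
      SetLike.coe_sort_coe] at this
    omega
  obtain ⟨e₂, he₂, h₂⟩ := hbad d₂ hd₂.1 hne₂
  have hc2 := S.comm_mem hu he₂
  have hcomm : Commute e₁ (u * e₂ * u⁻¹ * e₂⁻¹) := by
    have hc : Commute e₁ d₂ := (mem_cz.mp hd₂.2).symm
    have := hc.mul_right (S.es.comm e₁ he₁)
    rwa [h₂, mul_assoc, S.z_sq, mul_one] at this
  refine hcon (d₁ * d₂) (mul_mem hd₁ hd₂.1) hne₁₂ ⟨e₁ * e₂, mul_mem he₁ he₂, ?_⟩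
  calc d₁ * d₂ = u * e₁ * u⁻¹ * e₁⁻¹ * (z * (u * e₂ * u⁻¹ * e₂⁻¹)) * z := by
          rw [h₁, h₂]; group
    _ = u * e₁ * u⁻¹ * e₁⁻¹ * (u * e₂ * u⁻¹ * e₂⁻¹) := by
          rw [← S.z_comm hc2]; simp [mul_assoc, S.z_sq]
    _ = u * e₁ * u⁻¹ * ((u * e₂ * u⁻¹ * e₂⁻¹) * e₁⁻¹) := by
          rw [← hcomm.inv_left.eq]; group
    _ = u * (e₁ * e₂) * u⁻¹ * (e₁ * e₂)⁻¹ := by group

end Setting

end Cfsg.Agent.Lib.J4Local
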