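import Cfsg.Agent.Lib.J4Local.Involution

/-!
# The orders of `aSub` and `ySub` for inner and outer involutions
-/

set_option autoImplicit false
set_option linter.unusedSectionVars false
set_option linter.unusedVariables false

namespace Cfsg.Agent.Lib.J4Local

open Cfsg.Agent.Lib.LargeExtraspecial.Basic

variable {G : Type*} [Group G]

namespace Setting

variable [Finite G] {z p : G}

/-- A subgroup of `O₂` containing `z` and invariant under `p` has odd exponent. -/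
theorem odd_exponent (S : Setting z p) {X : Subgroup G} (hX : X ≤ Q z) (hz : z ∈ X)
    (hinv : ∀ x ∈ X, p * x * p⁻¹ ∈ X) : ∃ k, k % 2 = 1 ∧ Nat.card ↥X = 2 ^ k := by
  obtain ⟨k, hk⟩ := (S.isPGroup_Q.to_le hX).exists_card_eq
  refine ⟨k, ?_, hk⟩
  have h3 : ∀ x : G, p * (p * (p * x * p⁻¹) * p⁻¹) * p⁻¹ = x := fun x => by
    calc p * (p * (p * x * p⁻¹) * p⁻¹) * p⁻¹ = p ^ 3 * x * (p ^ 3)⁻¹ := by
          rw [pow_succ, pow_two]; group
      _ = x := by rw [S.p_cube]; group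
  let σ : Equiv.Perm ↥X :=
    { toFun := fun v => ⟨p * v * p⁻¹, hinv _ v.2⟩
      invFun := fun v => ⟨p * (p * v * p⁻¹) * p⁻¹, hinv _ (hinv _ v.2)⟩
      left_inv := fun v => Subtype.ext (h3 v)
      right_inv := fun v => Subtype.ext (h3 v) }
  have hσ : σ ^ 3 = 1 := by
    refine Equiv.ext fun v => ?_
    rw [pow_succ, pow_two]
    exact Subtype.ext (h3 v)
  have h := RankBound.card_modEq σ hσ {(1 : ↥X), ⟨z, hz⟩} fun v => by
    constructor
    · intro hv
      have hv' : p * (v : G) * p⁻¹ = v := congrArg Subtype.val hv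
      rcases S.fix v (hX v.2) (mul_inv_eq_iff_eq_mul.mp hv').symm with h | h
      · exact Or.inl (Subtype.ext h)
      · exact Or.inr (Subtype.ext h)
    · rintro (rfl | rfl)
      · exact Subtype.ext (by simp [σ])
      · refine Subtype.ext ?_
        show p * z * p⁻¹ = z
        rw [S.p_z.eq, mul_inv_cancel_right]
  rw [hk, Set.ncard_pair fun h => S.z_ne_one (congrArg Subtype.val h).symm, Nat.ModEq,
    RankBound.two_pow_mod] at h
  split_ifs at h with hi <;> omega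

theorem aSub_invariant (S : Setting z p) {u : G} (hu : u ∈ inner z p) {a : G}
    (ha : a ∈ aSub z u) : p * a * p⁻¹ ∈ aSub z u := by
  have huc := inner_le_cz z p hu
  have hzp : p * z * p⁻¹ = z := by rw [S.p_z.eq, mul_inv_cancel_right]
  obtain ⟨e, he, hm⟩ := (S.mem_aSub huc).mp ha
  -- `p u p⁻¹ = f u` with `f` in `Q z`
  obtain ⟨f, hf, hpu⟩ : ∃ f ∈ Q z, p * u * p⁻¹ = f * u := by
    refine ⟨(u * p * u⁻¹ * p⁻¹)⁻¹, inv_mem hu.2, ?_⟩
    group
  set e' := p * e * p⁻¹ with he'd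
  have he' : e' ∈ Q z := S.conj_mem S.p_mem_cz he
  have key : p * (u * e * u⁻¹ * e⁻¹) * p⁻¹ = f * (u * e' * u⁻¹) * f⁻¹ * e'⁻¹ := by
    calc p * (u * e * u⁻¹ * e⁻¹) * p⁻¹
        = (p * u * p⁻¹) * e' * (p * u * p⁻¹)⁻¹ * e'⁻¹ := by rw [he'd]; group
      _ = _ := by rw [hpu]; group
  have hconj := S.conj_eq_of_mem hf (S.conj_mem huc he')
  have hin : p * (u * e * u⁻¹ * e⁻¹) * p⁻¹ ∈ aSub z u := by
    rw [key]
    rcases hconj with h | h
    · rw [h]; exact comm_mem_aSub he'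
    · rw [h, mul_assoc, ← S.z_comm (inv_mem he'), ← mul_assoc]
      exact mul_mem (comm_mem_aSub he') (z_mem_aSub z u)
  rcases hm with rfl | rfl
  · exact hin
  · rw [show p * (u * e * u⁻¹ * e⁻¹ * z) * p⁻¹ =
      (p * (u * e * u⁻¹ * e⁻¹) * p⁻¹) * (p * z * p⁻¹) by group, hzp]
    exact mul_mem hin (z_mem_aSub z u)

theorem img_ne_one (S : Setting z p) {u : G} (hu : u ∈ cz z) (h2 : u * u = 1) (hQ : u ∉ Q z) :
    S.img u ≠ 1 := fun h =>
  hQ (S.mem_Q_of_img_one hu h (k := 1) (by simpa [sq] using h2))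

theorem aSub_card_ne_two (S : Setting z p) {u : G} (hu : u ∈ cz z) (hQ : u ∉ Q z) :
    2 < Nat.card ↥(aSub z u) := by
  by_contra hle
  push Not at hle
  refine hQ (S.mem_Q_of_fix_mod hu fun e he => ?_)
  have hsub : ({1, z} : Set G) ⊆ (aSub z u : Set G) := by
    rintro x (rfl | rfl)
    · exact one_mem _
    · exact z_mem_aSub _ _
  have heq := Set.eq_of_subset_of_ncard_le hsub (by
    rw [Set.ncard_pair (Ne.symm S.z_ne_one), ← Nat.card_coe_set_eq, SetLike.coe_sort_coe]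
    exact hle) (Set.toFinite _)
  have hm : u * e * u⁻¹ * e⁻¹ ∈ ({1, z} : Set G) := heq ▸ comm_mem_aSub he
  rcases hm with h | h
  · exact Or.inl (mul_inv_eq_one.mp h)
  · exact Or.inr (by
      rw [mul_inv_eq_iff_eq_mul.mp (Set.mem_singleton_iff.mp h), S.z_comm he])

/-- Orders for an inner involution outside `O₂`. -/
theorem card_inner (S : Setting z p) (F : AutFacts) {u : G} (hu : u ∈ inner z p)
    (h2 : u * u = 1) (hQ : u ∉ Q z) :
    (Nat.card ↥(aSub z u) = 2 ^ 3 ∧ Nat.card ↥(ySub z u) = 2 ^ 11) ∨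
    (Nat.card ↥(aSub z u) = 2 ^ 5 ∧ Nat.card ↥(ySub z u) = 2 ^ 9) := by
  have huc := inner_le_cz z p hu
  obtain ⟨k, hk, hcard⟩ := S.odd_exponent (S.aSub_le huc) (z_mem_aSub z u)
    (fun x hx => S.aSub_invariant hu hx)
  have hgt := S.aSub_card_ne_two huc hQ
  have hle := S.card_aSub_le F hu (by rw [h2]; exact one_mem _) (S.img_ne_one huc h2 hQ)
  rw [hcard] at hgt hle
  have hk5 : k ≤ 5 := (Nat.pow_le_pow_iff_right (by norm_num)).mp hle
  have hk1 : 1 < k := (Nat.pow_lt_pow_iff_right (by norm_num : 1 < 2)).mp (by simpa using hgt)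
  have hmul := S.card_aSub_ySub huc
  rcases (show k = 3 ∨ k = 5 by omega) with rfl | rfl
  · left
    rw [hcard] at hmul ⊢
    exact ⟨rfl, by omega⟩
  · right
    rw [hcard] at hmul ⊢
    exact ⟨rfl, by omega⟩

/-- For an outer element `u`, `ySub` meets its conjugate under `p` in `⟨z⟩`. -/
theorem ySub_inf_conj (S : Setting z p) {u y : G} (hu : u ∈ cz z) (ho : u ∉ inner z p)
    (hy : y ∈ ySub z u) (hy' : p * y * p⁻¹ ∈ ySub z u) : y = 1 ∨ y = z := by
  have hyQ := hy.1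
  have hzp : p * z * p⁻¹ = z := by rw [S.p_z.eq, mul_inv_cancel_right]
  have hzp' : p⁻¹ * z * p = z := by rw [mul_assoc, ← S.p_z.eq, inv_mul_cancel_left]
  have hf : u * p * u⁻¹ * p ∈ Q z := (S.inner_or_inverts hu).resolve_left ho
  set f := u * p * u⁻¹ * p with hfd
  -- `u (p y p⁻¹) u⁻¹ = f p⁻¹ (u y u⁻¹) p f⁻¹`
  have e1 : u * (p * y * p⁻¹) * u⁻¹ = f * (p⁻¹ * (u * y * u⁻¹) * p) * f⁻¹ := by
    rw [hfd]; group
  have hm1 := ((S.mem_ySub hu).mp hy).2
  have hm2 := ((S.mem_ySub hu).mp hy').2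
  have hm3 : ModZ z (p⁻¹ * (u * y * u⁻¹) * p) (p⁻¹ * y * p) := by
    rcases hm1 with h | h
    · exact Or.inl (by rw [h])
    · right
      rw [h, show p⁻¹ * (y * z) * p = p⁻¹ * y * p * (p⁻¹ * z * p) by group, hzp']
  have hQ3 : p⁻¹ * y * p ∈ Q z := S.conj_mem' S.p_mem_cz hyQ
  have hQ4 : p⁻¹ * (u * y * u⁻¹) * p ∈ Q z := S.conj_mem' S.p_mem_cz (S.conj_mem hu hyQ)
  have hm4 : ModZ z (p * y * p⁻¹) (p⁻¹ * y * p) := by
    have hc := S.conj_eq_of_mem hf hQ4
    rw [← e1] at hc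
    have hz2 : ∀ {a b c : G}, ModZ z a b → ModZ z a c → ModZ z b c := by
      intro a b c hab hac
      rcases hab with rfl | rfl <;> rcases hac with h | h
      · exact Or.inl h
      · exact Or.inr h
      · right; rw [← h, mul_assoc, S.z_sq, mul_one]
      · left; exact mul_right_cancel h
    have hz1 : ∀ {a b c : G}, ModZ z a b → ModZ z b c → ModZ z a c := by
      intro a b c hab hbc
      rcases hab with rfl | rfl <;> rcases hbc with rfl | rfl
      · exact Or.inl rfl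
      · exact Or.inr rfl
      · exact Or.inr rfl
      · left; rw [mul_assoc, S.z_sq, mul_one]
    exact hz2 hm2 (hz1 hc hm3)
  refine S.fix_mod hyQ ?_
  have h3 : p * (p * (p * y * p⁻¹) * p⁻¹) * p⁻¹ = y := by
    calc p * (p * (p * y * p⁻¹) * p⁻¹) * p⁻¹ = p ^ 3 * y * (p ^ 3)⁻¹ := by
          rw [pow_succ, pow_two]; group
      _ = y := by rw [S.p_cube]; group
  have hp' : p⁻¹ * y * p = p * (p * y * p⁻¹) * p⁻¹ := by
    calc p⁻¹ * y * p = p⁻¹ * (p * (p * (p * y * p⁻¹) * p⁻¹) * p⁻¹) * p := by rw [h3]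
      _ = _ := by group
  rw [hp'] at hm4
  have inj : ∀ a b : G, p * a * p⁻¹ = p * b * p⁻¹ → a = b := fun a b h =>
    mul_left_cancel (mul_right_cancel h)
  rcases hm4 with h | h
  · exact Or.inl (inj _ _ h).symm
  · have h' : p * y * p⁻¹ = p * (p * y * p⁻¹ * z) * p⁻¹ :=
      h.trans (by
        calc p * (p * y * p⁻¹) * p⁻¹ * z = p * (p * y * p⁻¹) * p⁻¹ * (p * z * p⁻¹) := by rw [hzp]
          _ = _ := by group)
    refine Or.inr ?_
    calc p * y * p⁻¹ = p * y * p⁻¹ * z * z := by rw [mul_assoc _ z z, S.z_sq, mul_one]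
      _ = y * z := by rw [← inj _ _ h']

/-- Orders for an outer involution. -/
theorem card_outer (S : Setting z p) {u : G} (hu : u ∈ cz z) (ho : u ∉ inner z p)
    (h2 : u * u = 1) :
    aSub z u = ySub z u ∧ Nat.card ↥(ySub z u) = 2 ^ 7 := by
  have hY : ySub z u ≤ Q z := inf_le_left
  set Y' := (ySub z u).map (MulAut.conj p⁻¹).toMonoidHom with hY'
  have hY'le : Y' ≤ Q z := by
    rintro _ ⟨y, hy, rfl⟩
    simpa using S.conj_mem' S.p_mem_cz (hY hy)
  have hinf : Nat.card ↥(ySub z u ⊓ Y') ≤ 2 := by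
    have hsub : ((ySub z u ⊓ Y' : Subgroup G) : Set G) ⊆ {1, z} := by
      rintro y ⟨hy, y', hy', he⟩
      have h := S.ySub_inf_conj hu ho hy (by
        have he' : p⁻¹ * y' * p = y := by simpa using he
        rw [← he', show p * (p⁻¹ * y' * p) * p⁻¹ = y' by group]
        exact hy')
      exact h
    have := Set.ncard_le_ncard hsub
    rw [Set.ncard_pair (Ne.symm S.z_ne_one), ← Nat.card_coe_set_eq, SetLike.coe_sort_coe] at this
    exact this
  have hmul := card_mul_card_le hY hY'le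
  have hcY' : Nat.card ↥Y' = Nat.card ↥(ySub z u) :=
    Subgroup.card_map_of_injective (MulAut.conj p⁻¹).injective
  rw [hcY', S.card_E] at hmul
  have hle := Subgroup.card_le_of_le (S.aSub_le_ySub hu h2)
  have hprod := S.card_aSub_ySub hu
  have h128 : Nat.card ↥(ySub z u) = 2 ^ 7 := by
    have h14 : Nat.card ↥(ySub z u) * Nat.card ↥(ySub z u) ≤ 2 ^ 14 := by
      calc _ ≤ 2 ^ 13 * Nat.card ↥(ySub z u ⊓ Y') := hmul
        _ ≤ 2 ^ 13 * 2 := by gcongr
        _ = 2 ^ 14 := by norm_num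
    have h14' : 2 ^ 14 ≤ Nat.card ↥(ySub z u) * Nat.card ↥(ySub z u) :=
      hprod ▸ Nat.mul_le_mul_left _ hle
    have := le_antisymm h14 h14'
    have hh : Nat.card ↥(ySub z u) * Nat.card ↥(ySub z u) = 2 ^ 7 * 2 ^ 7 := by
      rw [this]; norm_num
    exact Nat.mul_self_inj.mp hh
  refine ⟨Subgroup.eq_of_le_of_card_ge (S.aSub_le_ySub hu h2) (le_of_eq ?_), h128⟩
  rw [h128] at hprod ⊢
  omega

/-- The centre of a subgroup `X ∋ z` of `O₂` is small. -/
theorem card_centre_mul (S : Setting z p) {X : Subgroup G} (hX : X ≤ Q z) (hz : z ∈ X) :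
    Nat.card ↥(centreIn X) * Nat.card ↥X ≤ 2 ^ 14 := by
  have h := ESCount.card_perp S.es hX hz
  rw [S.card_E] at h
  calc _ ≤ Nat.card ↥(Q z ⊓ Subgroup.centralizer (X : Set G)) * Nat.card ↥X :=
        Nat.mul_le_mul_right _ (Subgroup.card_le_of_le (inf_le_inf_right _ hX))
    _ = 2 ^ 14 := by rw [h]; norm_num

end Setting

end Cfsg.Agent.Lib.J4Local
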