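import Cfsg.Agent.Lib.J4Local.Fusion

/-!
# Adjacent pairs: `e` in `O₂(C(z))` a further centre of Janko-four type
-/

set_option autoImplicit false
set_option linter.unusedSectionVars false
set_option linter.unusedVariables false

namespace Cfsg.Agent.Lib.J4Local

open Cfsg.Agent.Lib.LargeExtraspecial.Basic

variable {G : Type*} [Group G]

/-- The inner part of `C_{O₂(C(e))}(z)`. -/
def xSub (z p e : G) : Subgroup G := cQ e z ⊓ inner z p

theorem mem_xSub {z p e v : G} :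
    v ∈ xSub z p e ↔ (v ∈ Q e ∧ Commute v z) ∧ v ∈ inner z p :=
  Subgroup.mem_inf.trans (and_congr mem_cQ Iff.rfl)

namespace Setting

variable [Finite G] {z p e q : G}

theorem card_cQ_self (S : Setting z p) (T : Setting e q) (he : e ∈ Q z) (hne : e ≠ z) :
    Nat.card ↥(cQ z e) = 2 ^ 12 := by
  obtain ⟨a, ha, hae⟩ := S.es.exists_conj_ne he T.z_ne_one hne
  have hac : a ∉ cQ z e := fun h => by
    rw [mul_inv_eq_iff_eq_mul.mpr (mem_cQ.mp h).2.eq] at hae
    exact S.z_ne_one (by simpa using hae.symm)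
  have hle : cQ z e ≤ Q z := inf_le_left
  have hidx : ((cQ z e).subgroupOf (Q z)).index = 2 := by
    rw [Subgroup.index_eq_two_iff]
    refine ⟨⟨a, ha⟩, fun b => ?_⟩
    simp only [Subgroup.mem_subgroupOf, Subgroup.coe_mul]
    by_cases hb : (b : G) ∈ cQ z e
    · exact Or.inr ⟨hb, fun hh => hac ((Subgroup.mul_mem_cancel_left _ hb).mp hh)⟩
    · refine Or.inl ⟨mem_cQ.mpr ⟨mul_mem b.2 ha, chi_eq_zero.mp ?_⟩, hb⟩
      have c1 : chi (b : G) e = 1 := ESCount.zmod_two _ fun h0 =>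
        hb (mem_cQ.mpr ⟨b.2, chi_eq_zero.mp h0⟩)
      have c2 : chi a e = 1 := ESCount.zmod_two _ fun h0 =>
        hac (mem_cQ.mpr ⟨ha, chi_eq_zero.mp h0⟩)
      rw [S.es.chi_mul_left b.2 ha he, c1, c2]
      decide
  have h := Subgroup.card_mul_index ((cQ z e).subgroupOf (Q z))
  rw [hidx, Nat.card_congr (Subgroup.subgroupOfEquivOfLe hle).toEquiv, S.card_E] at h
  omega

/-- Adjacency is symmetric. -/
theorem mem_swap (S : Setting z p) (F : AutFacts) (T : Setting e q) (he : e ∈ Q z) (hne : e ≠ z) :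
    z ∈ Q e := by
  by_contra hzQ
  have hC := S.card_cQ_self T he hne
  have hperp := S.card_perp_cQ (u := e) (Q_le_cz z he)
  have hle := Subgroup.card_le_of_le (S.inter_le_perp T hzQ)
  have him := S.card_img_cQ T
  have h8 := T.img_two_le F (X := cQ z e) inf_le_right (S.isPGroup_Q.to_le inf_le_left)
  rw [hC] at hperp him
  have hP : Nat.card ↥(Q z ⊓ Subgroup.centralizer (cQ z e : Set G)) = 4 := by omega
  rw [hP] at hle
  have := Nat.mul_le_mul h8 hle
  omega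

theorem sq_pair (S : Setting z p) (T : Setting e q) (hne : e ≠ z) {d : G}
    (hd : d ∈ Q z ⊓ Q e) : d * d = 1 := by
  rcases S.es.sq_cases hd.1 with h | h
  · exact h
  · rcases T.es.sq_cases hd.2 with h' | h'
    · exact h'
    · exact absurd (h'.symm.trans h) hne

theorem comm_pair (S : Setting z p) (T : Setting e q) (hne : e ≠ z) {c d : G}
    (hc : c ∈ Q z ⊓ Q e) (hd : d ∈ Q z ⊓ Q e) : Commute c d := by
  rcases S.es.conj c hc.1 d hd.1 with h | h
  · exact mul_inv_eq_iff_eq_mul.mp h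
  · rcases T.es.conj c hc.2 d hd.2 with h' | h'
    · exact mul_inv_eq_iff_eq_mul.mp h'
    · exact absurd (mul_left_cancel (h'.symm.trans h)) hne

theorem sq_cQ_mem (S : Setting z p) (F : AutFacts) (T : Setting e q) (he : e ∈ Q z) (hne : e ≠ z)
    {c : G} (hc : c ∈ cQ z e) : c * c ∈ Q e := by
  rcases S.es.sq_cases (mem_cQ.mp hc).1 with h | h <;> rw [h]
  · exact one_mem _
  · exact S.mem_swap F T he hne

theorem img_pair_exp (S : Setting z p) (F : AutFacts) (T : Setting e q) (he : e ∈ Q z)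
    (hne : e ≠ z) : IsExp2 (T.imgS (cQ z e)) := by
  intro a ha
  obtain ⟨x, hx, rfl⟩ := (T.mem_imgS (inf_le_right : cQ z e ≤ cz e)).mp ha
  rw [← T.img_mul hx.2 hx.2, T.img_Q (S.sq_cQ_mem F T he hne hx)]

/-- `|E ∩ E_e| = 2^7`. -/
theorem card_inter (S : Setting z p) (F : AutFacts) (T : Setting e q) (he : e ∈ Q z)
    (hne : e ≠ z) : Nat.card ↥(Q z ⊓ Q e) = 2 ^ 7 := by
  have hle : Q z ⊓ Q e ≤ Q z ⊓ Subgroup.centralizer ((Q z ⊓ Q e : Subgroup G) : Set G) :=
    fun d hd => ⟨hd.1, Subgroup.mem_centralizer_iff.mpr fun c hc => (S.comm_pair T hne hc hd).eq⟩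
  have hp := ESCount.card_perp S.es (inf_le_left : Q z ⊓ Q e ≤ Q z)
    ⟨S.es.mem, S.mem_swap F T he hne⟩
  rw [S.card_E] at hp
  have h1 := Nat.mul_le_mul_right (Nat.card ↥(Q z ⊓ Q e)) (Subgroup.card_le_of_le hle)
  rw [hp] at h1
  have h2 := F.exp2_card _ (S.img_pair_exp F T he hne)
  have h3 := S.card_img_cQ T
  rw [S.card_cQ_self T he hne] at h3
  have h4 : 2 ^ 7 ≤ Nat.card ↥(Q z ⊓ Q e) := by
    have := Nat.mul_le_mul_right (Nat.card ↥(Q z ⊓ Q e)) h2
    omega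
  have h5 := Nat.mul_le_mul h4 h4
  have h6 : Nat.card ↥(Q z ⊓ Q e) * Nat.card ↥(Q z ⊓ Q e) = 2 ^ 7 * 2 ^ 7 := by omega
  exact Nat.mul_self_inj.mp h6

theorem card_img_pair (S : Setting z p) (F : AutFacts) (T : Setting e q) (he : e ∈ Q z)
    (hne : e ≠ z) : Nat.card ↥(T.imgS (cQ z e)) = 32 := by
  have h := S.card_img_cQ T
  rw [S.card_inter F T he hne, S.card_cQ_self T he hne] at h
  omega

/-- `E ∩ E_e` is its own orthogonal. -/
theorem perp_inter (S : Setting z p) (F : AutFacts) (T : Setting e q) (he : e ∈ Q z)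
    (hne : e ≠ z) {x : G} (hx : x ∈ Q z) (h : ∀ d ∈ Q z ⊓ Q e, Commute x d) :
    x ∈ Q z ⊓ Q e := by
  have hle : Q z ⊓ Q e ≤ Q z ⊓ Subgroup.centralizer ((Q z ⊓ Q e : Subgroup G) : Set G) :=
    fun d hd => ⟨hd.1, Subgroup.mem_centralizer_iff.mpr fun c hc => (S.comm_pair T hne hc hd).eq⟩
  have hp := ESCount.card_perp S.es (inf_le_left : Q z ⊓ Q e ≤ Q z)
    ⟨S.es.mem, S.mem_swap F T he hne⟩
  rw [S.card_E, S.card_inter F T he hne] at hp
  have heq := Subgroup.eq_of_le_of_card_ge hle (by rw [S.card_inter F T he hne]; omega)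
  rw [heq]
  exact ⟨hx, Subgroup.mem_centralizer_iff.mpr fun d hd => (h d hd).eq.symm⟩

theorem xSub_le_cz : xSub z p e ≤ cz z := inf_le_right.trans (inner_le_cz z p)

theorem inter_le_xSub (S : Setting z p) : Q z ⊓ Q e ≤ xSub z p e := fun x hx =>
  mem_xSub.mpr ⟨⟨hx.2, isQ.commute hx.1⟩, S.Q_le_inner hx.1⟩

theorem imgS_xSub (S : Setting z p) (F : AutFacts) :
    S.imgS (xSub z p e) = S.imgS (cQ e z) ⊓ inn := by
  have hle : xSub z p e ≤ cz z := xSub_le_cz
  have hle' : cQ e z ≤ cz z := inf_le_right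
  ext a
  constructor
  · intro ha
    obtain ⟨x, hx, rfl⟩ := (S.mem_imgS hle).mp ha
    exact ⟨(S.mem_imgS hle').mpr ⟨x, hx.1, rfl⟩, (S.img_mem_inn F (hle hx)).mpr hx.2⟩
  · rintro ⟨ha, hi⟩
    obtain ⟨x, hx, rfl⟩ := (S.mem_imgS hle').mp ha
    exact (S.mem_imgS hle).mpr ⟨x, ⟨hx, (S.img_mem_inn F hx.2).mp hi⟩, rfl⟩

theorem xSub_inf (S : Setting z p) : xSub z p e ⊓ Q z = Q z ⊓ Q e :=
  le_antisymm (fun x hx => ⟨hx.2, (mem_xSub.mp hx.1).1.1⟩) fun x hx => ⟨S.inter_le_xSub hx, hx.1⟩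

theorem card_xSub (S : Setting z p) (F : AutFacts) (T : Setting e q) (he : e ∈ Q z)
    (hne : e ≠ z) : Nat.card ↥(xSub z p e) = 2 ^ 11 := by
  have hze := S.mem_swap F T he hne
  have h := S.card_imgS (xSub_le_cz : xSub z p e ≤ cz z)
    (T.isPGroup_Q.to_le (inf_le_left.trans inf_le_left))
  rw [S.xSub_inf, S.imgS_xSub F, S.card_inter F T he hne,
    F.exp2_inn _ (T.img_pair_exp F S hze (Ne.symm hne)) (T.card_img_pair F S hze (Ne.symm hne))] at h
  omega

theorem exists_outer_pair (S : Setting z p) (F : AutFacts) (T : Setting e q) (he : e ∈ Q z)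
    (hne : e ≠ z) : ∃ σ ∈ cQ e z, σ ∉ inner z p := by
  by_contra hcon
  push Not at hcon
  have hze := S.mem_swap F T he hne
  have heq : xSub z p e = cQ e z := inf_eq_left.mpr fun x hx => hcon x hx
  have := S.card_xSub F T he hne
  rw [heq, T.card_cQ_self S hze (Ne.symm hne)] at this
  omega

/-- Conjugation by elements of `C(z) ∩ C(e)` normalises `E ∩ E_e`. -/
theorem conj_inter {h d : G} (hz : Commute h z) (he : Commute h e) (hd : d ∈ Q z ⊓ Q e) :
    h * d * h⁻¹ ∈ Q z ⊓ Q e :=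
  ⟨isQ.normal hz hd.1, isQ.normal he hd.2⟩

theorem conj_Q_inter (S : Setting z p) (F : AutFacts) (T : Setting e q) (he : e ∈ Q z)
    (hne : e ≠ z) {f d : G} (hf : f ∈ Q z) (hd : d ∈ Q z ⊓ Q e) : f * d * f⁻¹ ∈ Q z ⊓ Q e := by
  rcases S.es.conj f hf d hd.1 with h | h <;> rw [h]
  · exact hd
  · exact mul_mem hd ⟨S.es.mem, S.mem_swap F T he hne⟩

end Setting

end Cfsg.Agent.Lib.J4Local
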