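import Cfsg.Agent.Lib.J4Local.Pair
import Cfsg.Agent.Lib.J4Local.FusionOuter

/-!
# The line through `e`: `E ∩ E_e` meets its conjugate under `p` in `⟨z, e, e^p⟩`
-/

set_option autoImplicit false
set_option linter.unusedSectionVars false
set_option linter.unusedVariables false

namespace Cfsg.Agent.Lib.J4Local

open Cfsg.Agent.Lib.LargeExtraspecial.Basic

variable {G : Type*} [Group G]

/-- The preimage of the line through `e`. -/
def line (z p e : G) : Subgroup G := Subgroup.closure {z, e, p * e * p⁻¹}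

theorem z_mem_line (z p e : G) : z ∈ line z p e := Subgroup.subset_closure (by simp)

theorem e_mem_line (z p e : G) : e ∈ line z p e := Subgroup.subset_closure (by simp)

theorem pe_mem_line (z p e : G) : p * e * p⁻¹ ∈ line z p e := Subgroup.subset_closure (by simp)

/-- `D ∩ p D p⁻¹` for `D = E ∩ E_e`. -/
def mSub (z p e : G) : Subgroup G :=
  (Q z ⊓ Q e) ⊓ (Q z ⊓ Q e).map (MulAut.conj p).toMonoidHom

theorem mem_mSub {z p e x : G} :
    x ∈ mSub z p e ↔ x ∈ Q z ⊓ Q e ∧ p⁻¹ * x * p ∈ Q z ⊓ Q e := by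
  refine Subgroup.mem_inf.trans (and_congr Iff.rfl ⟨?_, fun h => ⟨_, h, by simp [mul_assoc]⟩⟩)
  rintro ⟨y, hy, rfl⟩
  simpa [mul_assoc] using hy

namespace Setting

variable [Finite G] {z p e q : G}

theorem ne_modZ_pe (S : Setting z p) (he : e ∈ Q z) (he1 : e ≠ 1) (hne : e ≠ z) :
    ¬ ModZ z (p * e * p⁻¹) e := fun h => (S.fix_mod he h).elim he1 hne

/-- Among the elements fixing `z` and `e`, the inner ones are those fixing the line. -/
theorem inner_iff_fix (S : Setting z p) {h : G} (he : e ∈ Q z) (he1 : e ≠ 1) (hne : e ≠ z)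
    (hz : Commute h z) (hc : Commute h e) :
    h ∈ inner z p ↔ ModZ z (h * (p * e * p⁻¹) * h⁻¹) (p * e * p⁻¹) := by
  have hhe : h * e * h⁻¹ = e := mul_inv_eq_iff_eq_mul.mpr hc.eq
  have hpe : p * e * p⁻¹ ∈ Q z := S.conj_mem S.p_mem_cz he
  constructor
  · rintro ⟨-, hi⟩
    rw [show h * (p * e * p⁻¹) * h⁻¹ =
      (h * p * h⁻¹ * p⁻¹) * (p * (h * e * h⁻¹) * p⁻¹) * (h * p * h⁻¹ * p⁻¹)⁻¹ by group, hhe]
    exact S.conj_eq_of_mem hi hpe
  · intro hm
    refine (S.inner_or_inverts (mem_cz.mpr hz)).resolve_right fun hi => ?_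
    have e1 : h * (p * e * p⁻¹) * h⁻¹ =
        (h * p * h⁻¹ * p) * (p⁻¹ * (h * e * h⁻¹) * p) * (h * p * h⁻¹ * p)⁻¹ := by group
    rw [hhe] at e1
    have h1 := S.conj_eq_of_mem hi (S.conj_mem' S.p_mem_cz he)
    rw [← e1] at h1
    -- `p⁻¹ e p ≡ p e p⁻¹`
    have h2 : ModZ z (p⁻¹ * e * p) (p * e * p⁻¹) := by
      rcases h1 with h1 | h1 <;> rcases hm with hm | hm
      · exact Or.inl (h1.symm.trans hm)
      · exact Or.inr (h1.symm.trans hm)
      · exact Or.inr (by rw [← hm, h1, mul_assoc _ z z, S.z_sq, mul_one])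
      · exact Or.inl (mul_right_cancel (h1.symm.trans hm))
    refine S.ne_modZ_pe he he1 hne ?_
    have h3 : p * (p * e * p⁻¹) * p⁻¹ = p⁻¹ * e * p := by
      calc p * (p * e * p⁻¹) * p⁻¹ = p⁻¹ * (p ^ 3 * e * (p ^ 3)⁻¹) * p := by
            rw [pow_succ, pow_two]; group
        _ = _ := by rw [S.p_cube]; group
    rw [← h3] at h2
    have inj : ∀ a b : G, p * a * p⁻¹ = p * b * p⁻¹ → a = b := fun a b h =>
      mul_left_cancel (mul_right_cancel h)
    rcases h2 with h2 | h2
    · exact Or.inl (inj _ _ h2)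
    · refine Or.inr (inj _ _ (h2.trans ?_))
      calc p * e * p⁻¹ * z = p * e * p⁻¹ * (p * z * p⁻¹) := by
            rw [S.p_z.eq, mul_inv_cancel_right]
        _ = _ := by group

theorem mSub_le : mSub z p e ≤ Q z ⊓ Q e := inf_le_left

theorem z_mem_mSub (S : Setting z p) (F : AutFacts) (T : Setting e q) (he : e ∈ Q z)
    (hne : e ≠ z) : z ∈ mSub z p e := by
  have hz : z ∈ Q z ⊓ Q e := ⟨S.es.mem, S.mem_swap F T he hne⟩
  exact mem_mSub.mpr ⟨hz, by rwa [mul_assoc, ← S.p_z.eq, inv_mul_cancel_left]⟩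

theorem conj_p_mem_inter (S : Setting z p) (F : AutFacts) (T : Setting e q) (he : e ∈ Q z)
    (hne : e ≠ z) {x : G} (hx : x ∈ mSub z p e) : p * x * p⁻¹ ∈ Q z ⊓ Q e := by
  obtain ⟨hx1, hx2⟩ := mem_mSub.mp hx
  have hz : z ∈ Q z ⊓ Q e := ⟨S.es.mem, S.mem_swap F T he hne⟩
  have hmem : x⁻¹ * (p⁻¹ * x * p) ∈ Q z ⊓ Q e := mul_mem (inv_mem hx1) hx2
  rcases S.inv_conj_modZ hx1.1 with h | h <;> rw [h] at hmem
  · simpa using hmem
  · have := mul_mem hmem hz
    rw [← mul_assoc, inv_mul_cancel_left, mul_assoc _ z z, S.z_sq, mul_one] at this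
    exact this

theorem mSub_invariant (S : Setting z p) (F : AutFacts) (T : Setting e q) (he : e ∈ Q z)
    (hne : e ≠ z) {x : G} (hx : x ∈ mSub z p e) : p * x * p⁻¹ ∈ mSub z p e := by
  refine mem_mSub.mpr ⟨S.conj_p_mem_inter F T he hne hx, ?_⟩
  rw [show p⁻¹ * (p * x * p⁻¹) * p = x by group]
  exact (mem_mSub.mp hx).1

theorem conj_outer_mSub (S : Setting z p) (F : AutFacts) (T : Setting e q) (he : e ∈ Q z)
    (hne : e ≠ z) {σ x : G} (hσ : σ ∈ cQ e z) (ho : σ ∉ inner z p) (hx : x ∈ mSub z p e) :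
    σ * x * σ⁻¹ ∈ mSub z p e := by
  obtain ⟨hσe, hσz⟩ := mem_cQ.mp hσ
  have hi : σ * p * σ⁻¹ * p ∈ Q z := (S.inner_or_inverts (mem_cz.mpr hσz)).resolve_left ho
  have hf : σ⁻¹ * p⁻¹ * σ * p⁻¹ ∈ Q z := by
    have := S.conj_mem' (mem_cz.mpr hσz) (inv_mem hi)
    convert this using 1
    group
  refine mem_mSub.mpr ⟨conj_inter hσz (isQ.commute hσe) (mem_mSub.mp hx).1, ?_⟩
  set f := σ⁻¹ * p⁻¹ * σ * p⁻¹ with hfd
  rw [show p⁻¹ * (σ * x * σ⁻¹) * p = σ * (f * (p * x * p⁻¹) * f⁻¹) * σ⁻¹ by rw [hfd]; group]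
  exact conj_inter hσz (isQ.commute hσe)
    (S.conj_Q_inter F T he hne hf (S.conj_p_mem_inter F T he hne hx))

/-- `e` lies in `D ∩ p D p⁻¹`, which has order eight. -/
theorem mSub_spec (S : Setting z p) (F : AutFacts) (T : Setting e q) (he : e ∈ Q z)
    (hne : e ≠ z) : e ∈ mSub z p e ∧ Nat.card ↥(mSub z p e) = 8 := by
  classical
  have hD := S.card_inter F T he hne
  have hzM := S.z_mem_mSub F T he hne
  have hMQ : mSub z p e ≤ Q z := inf_le_left.trans inf_le_left
  obtain ⟨m, hm, hcard⟩ := S.odd_exponent hMQ hzM fun x hx => S.mSub_invariant F T he hne hx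
  obtain ⟨σ, hσ, ho⟩ := S.exists_outer_pair F T he hne
  obtain ⟨hσe, hσz⟩ := mem_cQ.mp hσ
  have hσc : σ ∈ cz z := mem_cz.mpr hσz
  -- elements of `M` fixed by `σ`
  set FM : Subgroup G := mSub z p e ⊓ cz σ with hFM
  have hFMcard : Nat.card ↥(mSub z p e) ≤ 2 * Nat.card ↥FM := by
    by_cases hall : mSub z p e ≤ cz σ
    · rw [hFM, inf_eq_left.mpr hall]; omega
    · obtain ⟨a, ha, hac⟩ := SetLike.not_le_iff_exists.mp hall
      have hidx : (FM.subgroupOf (mSub z p e)).index = 2 := by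
        rw [Subgroup.index_eq_two_iff]
        refine ⟨⟨a, ha⟩, fun b => ?_⟩
        simp only [Subgroup.mem_subgroupOf, Subgroup.coe_mul]
        by_cases hb : (b : G) ∈ FM
        · exact Or.inr ⟨hb, fun hh => hac ((Subgroup.mul_mem_cancel_left _ hb).mp hh).2⟩
        · refine Or.inl ⟨⟨mul_mem b.2 ha, mem_cz.mpr (chi_eq_zero.mp ?_)⟩, hb⟩
          have hbQ : (b : G) ∈ Q e := (mSub_le b.2).2
          have haQ : a ∈ Q e := (mSub_le ha).2
          have c1 : chi (b : G) σ = 1 := ESCount.zmod_two _ fun h0 =>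
            hb ⟨b.2, mem_cz.mpr (chi_eq_zero.mp h0)⟩
          have c2 : chi a σ = 1 := ESCount.zmod_two _ fun h0 =>
            hac (mem_cz.mpr (chi_eq_zero.mp h0))
          rw [T.es.chi_mul_left hbQ haQ hσe, c1, c2]
          decide
      have := Subgroup.card_mul_index (FM.subgroupOf (mSub z p e))
      rw [hidx, Nat.card_congr (Subgroup.subgroupOfEquivOfLe (show FM ≤ mSub z p e from inf_le_left)).toEquiv] at this
      omega
  set FM' := FM.map (MulAut.conj p).toMonoidHom with hFM'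
  have hFM'le : FM' ≤ mSub z p e := by
    rintro _ ⟨x, hx, rfl⟩
    exact S.mSub_invariant F T he hne hx.1
  have hinf : Nat.card ↥(FM ⊓ FM') ≤ 2 := by
    have hsub : ((FM ⊓ FM' : Subgroup G) : Set G) ⊆ {1, z} := by
      rintro y ⟨hy, x, hx, hxy⟩
      have hxy' : p * x * p⁻¹ = y := hxy
      have hY : ∀ {w}, w ∈ FM → w ∈ ySub z σ := fun {w} hw => (S.mem_ySub hσc).mpr
        ⟨hMQ hw.1, Or.inl (mul_inv_eq_iff_eq_mul.mpr (mem_cz.mp hw.2).symm.eq)⟩
      rcases S.ySub_inf_conj hσc ho (hY hx) (by rw [hxy']; exact hY hy) with h | h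
      · left; rw [← hxy', h]; group
      · right
        show y = z
        rw [← hxy', h, S.p_z.eq, mul_inv_cancel_right]
    have := Set.ncard_le_ncard hsub
    rw [Set.ncard_pair (Ne.symm S.z_ne_one), ← Nat.card_coe_set_eq, SetLike.coe_sort_coe] at this
    exact this
  have hsq := card_mul_card_le (inf_le_left : FM ≤ mSub z p e) hFM'le
  rw [hFM', Subgroup.card_map_of_injective (MulAut.conj p).injective, ← hFM'] at hsq
  have hsq' : Nat.card ↥FM * Nat.card ↥FM ≤ Nat.card ↥(mSub z p e) * 2 :=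
    hsq.trans (Nat.mul_le_mul_left _ hinf)
  have hm3 : m ≤ 3 := by
    by_contra hlt
    push Not at hlt
    rw [hcard] at hFMcard hsq'
    have h16 : 2 ^ 4 ≤ 2 ^ m := Nat.pow_le_pow_right (by norm_num) hlt
    have h1 := Nat.mul_le_mul hFMcard hFMcard
    nlinarith
  by_cases hall : mSub z p e ≤ cz σ
  · exfalso
    rw [hFM, inf_eq_left.mpr hall, hcard] at hsq'
    have hm1 : m = 1 := by
      have h2 : 2 ^ m ≤ 2 ^ 1 :=
        Nat.le_of_mul_le_mul_left (a := 2 ^ m) (by rwa [pow_one]) (pow_pos two_pos m)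
      have := (Nat.pow_le_pow_iff_right (by norm_num : 1 < 2)).mp h2
      omega
    rw [hm1] at hcard
    -- the case `|M| = 2`
    set D := Q z ⊓ Q e with hDdef
    set D' := D.map (MulAut.conj p).toMonoidHom with hD'
    have hD'le : D' ≤ Q z := by
      rintro _ ⟨x, hx, rfl⟩
      exact S.conj_mem S.p_mem_cz hx.1
    have hcD' : Nat.card ↥D' = 2 ^ 7 := by
      rw [hD', Subgroup.card_map_of_injective (MulAut.conj p).injective, hD]
    have hsmall : ∀ x ∈ mSub z p e, x = 1 ∨ x = z := by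
      intro x hx
      have hsub : ({1, z} : Set G) ⊆ (mSub z p e : Set G) := by
        rintro y (rfl | rfl)
        exacts [one_mem _, hzM]
      have heq := Set.eq_of_subset_of_ncard_le hsub (by
        rw [Set.ncard_pair (Ne.symm S.z_ne_one), ← Nat.card_coe_set_eq, SetLike.coe_sort_coe,
          hcard]
        norm_num) (Set.toFinite _)
      have : x ∈ ({1, z} : Set G) := heq ▸ hx
      exact this
    have hDQ : ∀ {d}, d ∈ D → d ∈ Q z := fun hd => hd.1
    have hpD : ∀ {d}, d ∈ D → p * d * p⁻¹ ∈ Q z := fun hd => S.conj_mem S.p_mem_cz (hDQ hd)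
    have hDe : ∀ {d}, d ∈ D → d ∈ Q e := fun hd => hd.2
    let b : G → G → ZMod 2 := fun x y => chi x (p * y * p⁻¹)
    have bsymm : ∀ {x y}, x ∈ D → y ∈ D → b x y = b y x := fun {x y} hx hy =>
      S.chi_p_symm (hDQ hx) (hDQ hy) (S.comm_pair T hne hx hy)
    have badd : ∀ {x y w}, x ∈ D → y ∈ D → w ∈ D → b x (y * w) = b x y + b x w := by
      intro x y w hx hy hw
      show chi x (p * (y * w) * p⁻¹) = _
      rw [show p * (y * w) * p⁻¹ = p * y * p⁻¹ * (p * w * p⁻¹) by group,
        S.es.chi_mul_right (hDQ hx) (hpD hy) (hpD hw)]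
    have badd' : ∀ {x y w}, x ∈ D → y ∈ D → w ∈ D → b (x * y) w = b x w + b y w :=
      fun {x y w} hx hy hw => S.es.chi_mul_left (hDQ hx) (hDQ hy) (hpD hw)
    have heD : e ∈ D := ⟨he, T.es.mem⟩
    -- invariance of the form under the elements of `xSub`
    have inv : ∀ v ∈ xSub z p e, ∀ x ∈ D, ∀ y ∈ D,
        b (v * x * v⁻¹) (v * y * v⁻¹) = b x y := by
      intro v hv x hx y hy
      obtain ⟨⟨hve, hvz⟩, hvi⟩ := mem_xSub.mp hv
      have hvD : ∀ {d}, d ∈ D → v * d * v⁻¹ ∈ D := fun hd =>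
        conj_inter hvz (isQ.commute hve) hd
      show chi (v * x * v⁻¹) (p * (v * y * v⁻¹) * p⁻¹) = chi x (p * y * p⁻¹)
      rw [← chi_conj v x (p * y * p⁻¹)]
      refine (S.chi_modZ (hDQ (hvD hx)) (hpD (hvD hy)) ?_).symm
      rw [show v * (p * y * p⁻¹) * v⁻¹ =
        (v * p * v⁻¹ * p⁻¹) * (p * (v * y * v⁻¹) * p⁻¹) * (v * p * v⁻¹ * p⁻¹)⁻¹ by group]
      exact S.conj_eq_of_mem hvi.2 (hpD (hvD hy))
    have moved : ∀ v ∈ xSub z p e, ∀ x ∈ D, chi v x ≠ 0 → v * x * v⁻¹ = x * e := by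
      intro v hv x hx h
      refine (T.es.conj v (mem_xSub.mp hv).1.1 x (hDe hx)).resolve_left fun hc => h ?_
      exact chi_eq_zero.mpr (mul_inv_eq_iff_eq_mul.mp hc)
    have fixed : ∀ v ∈ xSub z p e, ∀ x ∈ D, chi v x = 0 → v * x * v⁻¹ = x := fun v hv x hx h =>
      mul_inv_eq_iff_eq_mul.mpr (chi_eq_zero.mp h).eq
    obtain ⟨d₀, hd₀, hg⟩ : ∃ d ∈ D, b d e ≠ 0 := by
      by_contra hg
      push Not at hg
      have hpe : p * e * p⁻¹ ∈ Q z ⊓ Q e :=
        S.perp_inter F T he hne (S.conj_mem S.p_mem_cz he) fun d hd =>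
          (chi_eq_zero.mp (hg d hd)).symm
      rcases hsmall _ (mem_mSub.mpr ⟨hpe, by
        rw [show p⁻¹ * (p * e * p⁻¹) * p = e by group]; exact heD⟩) with h | h
      · exact T.z_ne_one (by simpa using h)
      · refine hne (mul_left_cancel (mul_right_cancel (h.trans ?_)) : e = z)
        rw [S.p_z.eq, mul_inv_cancel_right]
    have key : ∀ v ∈ xSub z p e, ∀ x ∈ D, chi v x ≠ 0 →
        ∀ y ∈ D, chi v y = b y e := by
      intro v hv x hx hfx y hy
      have h01 : ∀ a : ZMod 2, a = 0 ∨ a = 1 := by decide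
      have hc : b e e = 0 := by
        have h := inv v hv x hx x hx
        rw [moved v hv x hx hfx, badd (mul_mem hx heD) hx heD, badd' hx heD hx, badd' hx heD heD,
          bsymm heD hx] at h
        calc b e e = (b x x + b x e + (b x e + b e e)) - b x x - (b x e + b x e) := by ring
          _ = 0 := by rw [h, CharTwo.add_self_eq_zero]; simp
      have hy0 : ∀ y ∈ D, chi v y = 0 → b y e = 0 := by
        intro y hy h0
        have h := inv v hv x hx y hy
        rw [moved v hv x hx hfx, fixed v hv y hy h0, badd' hx heD hy] at h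
        rw [bsymm hy heD]
        calc b e y = (b x y + b e y) - b x y := by ring
          _ = 0 := by rw [h, sub_self]
      have hy1 : ∀ y ∈ D, chi v y ≠ 0 → b y e = b x e := by
        intro y hy h1
        have h := inv v hv x hx y hy
        rw [moved v hv x hx hfx, moved v hv y hy h1, badd (mul_mem hx heD) hy heD,
          badd' hx heD hy, badd' hx heD heD, hc, add_zero, bsymm heD hy] at h
        have h2 : b y e + b x e = 0 := by
          calc b y e + b x e = (b x y + b y e + b x e) - b x y := by ring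
            _ = 0 := by rw [h, sub_self]
        exact CharTwo.add_eq_zero.mp h2
      have hx1 : b x e = 1 := by
        refine ESCount.zmod_two _ fun h0 => hg ?_
        by_cases h : chi v d₀ = 0
        · exact hy0 _ hd₀ h
        · rw [hy1 _ hd₀ h, h0]
      rcases h01 (chi v y) with h | h
      · rw [h, hy0 y hy h]
      · rw [h, hy1 y hy (by rw [h]; decide), hx1]
    -- the kernel
    set K0 : Subgroup G := xSub z p e ⊓ Subgroup.centralizer (D : Set G) with hK0
    have hK0D : K0 ≤ D := by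
      rintro v ⟨hv, hvc⟩
      obtain ⟨⟨hve, hvz⟩, hvi⟩ := mem_xSub.mp hv
      refine ⟨S.mem_Q_of_fix_mod (mem_cz.mpr hvz) fun f hf => ?_, hve⟩
      let K : Subgroup G :=
        { carrier := {x | x ∈ Q z ∧ ModZ z (v * x * v⁻¹) x}
          one_mem' := ⟨one_mem _, Or.inl (by group)⟩
          mul_mem' := by
            rintro a c ⟨ha, ha'⟩ ⟨hc, hc'⟩
            refine ⟨mul_mem ha hc, ?_⟩
            rw [show v * (a * c) * v⁻¹ = (v * a * v⁻¹) * (v * c * v⁻¹) by group]
            exact S.modZ_mul hc ha' hc'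
          inv_mem' := by
            rintro a ⟨ha, ha'⟩
            refine ⟨inv_mem ha, ?_⟩
            rcases ha' with h | h
            · left
              calc v * a⁻¹ * v⁻¹ = (v * a * v⁻¹)⁻¹ := by group
                _ = a⁻¹ := by rw [h]
            · right
              calc v * a⁻¹ * v⁻¹ = (v * a * v⁻¹)⁻¹ := by group
                _ = a⁻¹ * z := by
                  rw [h, mul_inv_rev, S.es.zinv, S.z_comm (inv_mem ha)] }
      have hfix : ∀ x ∈ D, v * x * v⁻¹ = x := fun x hx =>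
        mul_inv_eq_iff_eq_mul.mpr (Subgroup.mem_centralizer_iff.mp hvc x hx).symm
      have hDK : D ≤ K := fun x hx => ⟨hDQ hx, Or.inl (hfix x hx)⟩
      have hD'K : D' ≤ K := by
        rintro _ ⟨x, hx, rfl⟩
        refine ⟨hpD hx, ?_⟩
        show ModZ z (v * (p * x * p⁻¹) * v⁻¹) (p * x * p⁻¹)
        rw [show v * (p * x * p⁻¹) * v⁻¹ =
          (v * p * v⁻¹ * p⁻¹) * (p * (v * x * v⁻¹) * p⁻¹) * (v * p * v⁻¹ * p⁻¹)⁻¹ by group,
          hfix x hx]
        exact S.conj_eq_of_mem hvi.2 (hpD hx)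
      have hmul := card_mul_card_le hDK hD'K
      have hDD' : Nat.card ↥(D ⊓ D') ≤ 2 := by
        have hsub : ((D ⊓ D' : Subgroup G) : Set G) ⊆ {1, z} := fun y hy => hsmall y hy
        have := Set.ncard_le_ncard hsub
        rw [Set.ncard_pair (Ne.symm S.z_ne_one), ← Nat.card_coe_set_eq, SetLike.coe_sort_coe]
          at this
        exact this
      rw [hcD', hD] at hmul
      have h13 : 2 ^ 13 ≤ Nat.card ↥K := by
        have := hmul.trans (Nat.mul_le_mul_left _ hDD')
        omega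
      have hKQ : K ≤ Q z := fun x hx => hx.1
      have hf' : f ∈ K := (Subgroup.eq_of_le_of_card_ge hKQ (S.card_E ▸ h13)).ge hf
      exact hf'.2
    have hidx : Nat.card ↥(xSub z p e) ≤ 2 * Nat.card ↥K0 := by
      by_cases hall' : xSub z p e ≤ Subgroup.centralizer (D : Set G)
      · rw [hK0, inf_eq_left.mpr hall']; omega
      · obtain ⟨a, ha, hac⟩ := SetLike.not_le_iff_exists.mp hall'
        have hmov : ∀ v ∈ xSub z p e, v ∉ K0 → ∀ y ∈ D, chi v y = b y e := by
          intro v hv hvK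
          obtain ⟨x, hx, hxne⟩ : ∃ x ∈ D, chi v x ≠ 0 := by
            by_contra hh
            push Not at hh
            exact hvK ⟨hv, Subgroup.mem_centralizer_iff.mpr fun x hx =>
              (chi_eq_zero.mp (hh x hx)).eq.symm⟩
          exact key v hv x hx hxne
        have hidx2 : (K0.subgroupOf (xSub z p e)).index = 2 := by
          rw [Subgroup.index_eq_two_iff]
          refine ⟨⟨a, ha⟩, fun c => ?_⟩
          simp only [Subgroup.mem_subgroupOf, Subgroup.coe_mul]
          by_cases hc : (c : G) ∈ K0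
          · exact Or.inr ⟨hc, fun hh => hac ((Subgroup.mul_mem_cancel_left _ hc).mp hh).2⟩
          · refine Or.inl ⟨⟨mul_mem c.2 ha, Subgroup.mem_centralizer_iff.mpr fun x hx => ?_⟩, hc⟩
            refine ((chi_eq_zero.mp ?_).eq).symm
            rw [T.es.chi_mul_left (mem_xSub.mp c.2).1.1 (mem_xSub.mp ha).1.1 (hDe hx),
              hmov _ c.2 hc x hx, hmov a ha (fun hh => hac hh.2) x hx]
            exact CharTwo.add_self_eq_zero _
        have := Subgroup.card_mul_index (K0.subgroupOf (xSub z p e))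
        rw [hidx2, Nat.card_congr
          (Subgroup.subgroupOfEquivOfLe (show K0 ≤ xSub z p e from inf_le_left)).toEquiv] at this
        omega
    have h7 := Subgroup.card_le_of_le hK0D
    rw [S.card_xSub F T he hne] at hidx
    rw [hD] at h7
    omega
  · obtain ⟨a, ha, hac⟩ := SetLike.not_le_iff_exists.mp hall
    have hσa : σ * a * σ⁻¹ = a * e :=
      (T.es.conj σ hσe a (mSub_le ha).2).resolve_left fun hc =>
        hac (mem_cz.mpr (mul_inv_eq_iff_eq_mul.mp hc).symm)
    have heM : e ∈ mSub z p e := by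
      have := mul_mem (inv_mem ha) (S.conj_outer_mSub F T he hne hσ ho ha)
      rwa [hσa, inv_mul_cancel_left] at this
    refine ⟨heM, ?_⟩
    rw [hcard]
    rcases (show m = 1 ∨ m = 3 by omega) with rfl | rfl
    · exfalso
      have hsub : ({1, z, e} : Set G) ⊆ (mSub z p e : Set G) := by
        rintro y (rfl | rfl | rfl)
        exacts [one_mem _, hzM, heM]
      have := Set.ncard_le_ncard hsub
      rw [Set.ncard_eq_three.mpr ⟨1, z, e, Ne.symm S.z_ne_one, Ne.symm T.z_ne_one, Ne.symm hne,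
        rfl⟩, ← Nat.card_coe_set_eq, SetLike.coe_sort_coe, hcard] at this
      omega
    · norm_num

theorem line_le_mSub (S : Setting z p) (F : AutFacts) (T : Setting e q) (he : e ∈ Q z)
    (hne : e ≠ z) : line z p e ≤ mSub z p e := by
  have h := (S.mSub_spec F T he hne).1
  rw [line, Subgroup.closure_le]
  rintro x (rfl | rfl | rfl)
  exacts [S.z_mem_mSub F T he hne, h, S.mSub_invariant F T he hne h]

theorem card_line (S : Setting z p) (F : AutFacts) (T : Setting e q) (he : e ∈ Q z)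
    (hne : e ≠ z) : Nat.card ↥(line z p e) = 8 := by
  have hle := S.line_le_mSub F T he hne
  have h8 := (S.mSub_spec F T he hne).2
  have hdvd := Subgroup.card_dvd_of_le hle
  rw [h8] at hdvd
  have hsub : ({1, z, e, e * z, p * e * p⁻¹} : Set G) ⊆ (line z p e : Set G) := by
    rintro y (rfl | rfl | rfl | rfl | rfl)
    exacts [one_mem _, z_mem_line _ _ _, e_mem_line _ _ _,
      mul_mem (e_mem_line _ _ _) (z_mem_line _ _ _), pe_mem_line _ _ _]
  have hn := S.ne_modZ_pe he T.z_ne_one hne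
  have h1 : p * e * p⁻¹ ≠ 1 := fun h => T.z_ne_one (by simpa using h)
  have h2 : p * e * p⁻¹ ≠ z := fun h => hne (mul_left_cancel (mul_right_cancel
    (h.trans (by rw [S.p_z.eq, mul_inv_cancel_right]) : p * e * p⁻¹ = p * z * p⁻¹)))
  have hez1 : e * z ≠ 1 := fun h => hne (mul_eq_one_iff_eq_inv.mp h |>.trans S.es.zinv)
  have hez2 : e * z ≠ z := fun h => T.z_ne_one (by simpa using h)
  have hez3 : e * z ≠ e := fun h => S.z_ne_one (by simpa using h)
  have h5 : ({1, z, e, e * z, p * e * p⁻¹} : Set G).ncard = 5 := by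
    rw [Set.ncard_insert_of_notMem (by
        simp [Ne.symm S.z_ne_one, Ne.symm T.z_ne_one, Ne.symm hez1, Ne.symm h1]),
      Set.ncard_insert_of_notMem (by simp [Ne.symm hne, Ne.symm hez2, Ne.symm h2]),
      Set.ncard_eq_three.mpr ⟨e, e * z, p * e * p⁻¹, Ne.symm hez3,
        fun h => hn (Or.inl h.symm), fun h => hn (Or.inr h.symm), rfl⟩]
  have := Set.ncard_le_ncard hsub
  rw [h5, ← Nat.card_coe_set_eq, SetLike.coe_sort_coe] at this
  rcases (Nat.dvd_prime_pow Nat.prime_two).mp (show Nat.card ↥(line z p e) ∣ 2 ^ 3 from hdvd) with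
    ⟨i, hi, hh⟩
  rw [hh] at this ⊢
  interval_cases i <;> omega

/-- `D ∩ p D p⁻¹` is the line. -/
theorem mSub_eq_line (S : Setting z p) (F : AutFacts) (T : Setting e q) (he : e ∈ Q z)
    (hne : e ≠ z) : mSub z p e = line z p e :=
  (Subgroup.eq_of_le_of_card_ge (S.line_le_mSub F T he hne)
    (by rw [(S.mSub_spec F T he hne).2, S.card_line F T he hne])).symm

theorem line_le_inter (S : Setting z p) (F : AutFacts) (T : Setting e q) (he : e ∈ Q z)
    (hne : e ≠ z) : line z p e ≤ Q z ⊓ Q e := (S.line_le_mSub F T he hne).trans mSub_le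

/-- The inner part of `C_{E_e}(z)` centralises the line. -/
theorem xSub_fix_line (S : Setting z p) (F : AutFacts) (T : Setting e q) (he : e ∈ Q z)
    (hne : e ≠ z) {v l : G} (hv : v ∈ xSub z p e) (hl : l ∈ line z p e) : Commute v l := by
  obtain ⟨⟨hve, hvz⟩, hvi⟩ := mem_xSub.mp hv
  have hc : Commute v (p * e * p⁻¹) := by
    rcases T.es.conj v hve _ (S.line_le_inter F T he hne (pe_mem_line z p e)).2 with h | h
    · exact mul_inv_eq_iff_eq_mul.mp h
    · exfalso
      have hm := (S.inner_iff_fix he T.z_ne_one hne hvz (isQ.commute hve)).mp hvi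
      rw [h] at hm
      rcases hm with hm | hm
      · exact T.z_ne_one (by simpa using hm)
      · exact hne (mul_left_cancel hm)
  have hmem : l ∈ cz v := by
    refine (Subgroup.closure_le (cz v)).mpr ?_ hl
    rintro x (rfl | rfl | rfl)
    exacts [mem_cz.mpr hvz.symm, mem_cz.mpr (isQ.commute hve).symm, mem_cz.mpr hc.symm]
  exact (mem_cz.mp hmem).symm

/-- An outer element of `C(z) ∩ C(e)` moves `e^p` modulo `z`. -/
theorem outer_moves_line (S : Setting z p) (he : e ∈ Q z) (he1 : e ≠ 1) (hne : e ≠ z) {h : G}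
    (hz : Commute h z) (hc : Commute h e) (ho : h ∉ inner z p) :
    ¬ Commute h (p * e * p⁻¹) := fun hh =>
  ho ((S.inner_iff_fix he he1 hne hz hc).mpr (Or.inl (mul_inv_eq_iff_eq_mul.mpr hh.eq)))

end Setting

end Cfsg.Agent.Lib.J4Local
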