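import Cfsg.Agent.Lib.J4Local.PairFive

/-!
# `[V,u]` has dimension four for inner involutions; the group `T = E_e ∩ E_{e^p}` and its fixed part
-/

set_option autoImplicit false
set_option linter.unusedSectionVars false
set_option linter.unusedVariables false

namespace Cfsg.Agent.Lib.J4Local

open Cfsg.Agent.Lib.LargeExtraspecial.Basic

variable {G : Type*} [Group G]

/-- `E_e ∩ E_{e^p}`. -/
def tSub (p e : G) : Subgroup G := Q e ⊓ Q (p * e * p⁻¹)

/-- The fixed part `C_T(p)`. -/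
def fSub (p e : G) : Subgroup G := tSub p e ⊓ cz p

/-- The three centres on the line form a four-group. -/
def Tri (p e : G) : Prop := p * (p * e * p⁻¹) * p⁻¹ = e * (p * e * p⁻¹)

namespace Setting

variable [Finite G] {z p e q : G}

theorem aSub_le_of_modZ (S : Setting z p) {u w : G} (hu : u ∈ cz z) (hw : w ∈ cz z)
    (h : ∀ f ∈ Q z, ModZ z (u * f * u⁻¹) (w * f * w⁻¹)) : aSub z u ≤ aSub z w := fun a ha => by
  obtain ⟨f, hf, hm⟩ := (S.mem_aSub hu).mp ha
  have h1 : u * f * u⁻¹ * f⁻¹ ∈ aSub z w := by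
    rcases h f hf with h | h <;> rw [h]
    · exact comm_mem_aSub hf
    · rw [mul_assoc _ z, ← S.z_comm (inv_mem hf), ← mul_assoc]
      exact mul_mem (comm_mem_aSub hf) (z_mem_aSub _ _)
  rcases hm with rfl | rfl
  · exact h1
  · exact mul_mem h1 (z_mem_aSub _ _)

theorem card_aSub_conj (S : Setting z p) {u h : G} (hu : u ∈ cz z) (hh : h ∈ cz z) :
    Nat.card ↥(aSub z (h * u * h⁻¹)) = Nat.card ↥(aSub z u) := by
  have key : ∀ {u h : G}, u ∈ cz z → h ∈ cz z →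
      (aSub z u).map (MulAut.conj h).toMonoidHom ≤ aSub z (h * u * h⁻¹) := by
    intro u h hu hh
    rintro _ ⟨a, ha, rfl⟩
    obtain ⟨f, hf, hm⟩ := (S.mem_aSub hu).mp ha
    show h * a * h⁻¹ ∈ _
    have h1 : h * (u * f * u⁻¹ * f⁻¹) * h⁻¹ =
        h * u * h⁻¹ * (h * f * h⁻¹) * (h * u * h⁻¹)⁻¹ * (h * f * h⁻¹)⁻¹ := by group
    have hm1 := comm_mem_aSub (z := z) (u := h * u * h⁻¹) (S.conj_mem hh hf)
    rw [← h1] at hm1
    rcases hm with rfl | rfl
    · exact hm1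
    · rw [show h * (u * f * u⁻¹ * f⁻¹ * z) * h⁻¹ =
        h * (u * f * u⁻¹ * f⁻¹) * h⁻¹ * (h * z * h⁻¹) by group,
        mul_inv_eq_iff_eq_mul.mpr (mem_cz.mp hh).eq]
      exact mul_mem hm1 (z_mem_aSub _ _)
  refine le_antisymm ?_ ?_
  · have h1 := Subgroup.card_le_of_le (key (mul_mem (mul_mem hh hu) (inv_mem hh)) (inv_mem hh))
    rw [Subgroup.card_map_of_injective (MulAut.conj h⁻¹).injective,
      show h⁻¹ * (h * u * h⁻¹) * h⁻¹⁻¹ = u by group] at h1
    exact h1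
  · have h1 := Subgroup.card_le_of_le (key hu hh)
    rwa [Subgroup.card_map_of_injective (MulAut.conj h).injective] at h1

theorem exists_moved (S : Setting z p) (F : AutFacts) (T : Setting e q) (he : e ∈ Q z)
    (hne : e ≠ z) {v : G} (hv : v ∈ xSub z p e) (hvQ : v ∉ Q z) :
    ∃ d ∈ Q z ⊓ Q e, v * d * v⁻¹ = d * e := by
  obtain ⟨x, hx5, hxz, hxe, hxi, himg⟩ := S.exists_five F T he hne
  by_contra hcon
  push Not at hcon
  refine hvQ ((S.five_fix F T he hne hx5 hxz hxe hxi himg).1 v hv fun d hd => ?_)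
  exact mul_inv_eq_iff_eq_mul.mp
    ((T.es.conj v (mem_xSub.mp hv).1.1 d hd.2).resolve_right (hcon d hd))

theorem line_le_aSub (S : Setting z p) (F : AutFacts) (T : Setting e q) (he : e ∈ Q z)
    (hne : e ≠ z) {v : G} (hv : v ∈ xSub z p e) (hvQ : v ∉ Q z) : line z p e ≤ aSub z v := by
  obtain ⟨⟨hve, hvz⟩, hvi⟩ := mem_xSub.mp hv
  obtain ⟨d, hd, hmv⟩ := S.exists_moved F T he hne hv hvQ
  have heA : e ∈ aSub z v := by
    have h := comm_mem_aSub (z := z) (u := v) hd.1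
    rwa [hmv, mul_assoc d e, ← (S.comm_pair T hne (inv_mem hd) ⟨he, T.es.mem⟩).eq, ← mul_assoc,
      mul_inv_cancel, one_mul] at h
  rw [line, Subgroup.closure_le]
  rintro x (rfl | rfl | rfl)
  exacts [z_mem_aSub _ _, heA, S.aSub_invariant hvi heA]

/-- `[V,v]` has dimension four for `v` in the inner part of `C_{E_e}(z)` outside `E`. -/
theorem card_aSub_xSub (S : Setting z p) (F : AutFacts) (T : Setting e q) (he : e ∈ Q z)
    (hne : e ≠ z) {v : G} (hv : v ∈ xSub z p e) (hvQ : v ∉ Q z) :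
    Nat.card ↥(aSub z v) = 2 ^ 5 := by
  obtain ⟨⟨hve, hvz⟩, hvi⟩ := mem_xSub.mp hv
  have hvc : v ∈ cz z := mem_cz.mpr hvz
  have hle := S.line_le_aSub F T he hne hv hvQ
  have h2 : v * v ∈ Q z := by
    rcases T.es.sq_cases hve with h | h <;> rw [h]
    · exact one_mem _
    · exact he
  have h1 : S.img v ≠ 1 := fun h => by
    obtain ⟨k, hk⟩ := T.isPGroup_Q ⟨v, hve⟩
    exact hvQ (S.mem_Q_of_img_one hvc h (congrArg Subtype.val hk))
  obtain ⟨k, hk, hcard⟩ := S.odd_exponent (S.aSub_le hvc) (z_mem_aSub z v)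
    (fun a ha => S.aSub_invariant hvi ha)
  have hup := S.card_aSub_le F hvi h2 h1
  have hlo := Subgroup.card_le_of_le hle
  rw [S.card_line F T he hne, hcard] at hlo
  rw [hcard] at hup ⊢
  have hk5 : k ≤ 5 := (Nat.pow_le_pow_iff_right (by norm_num : 1 < 2)).mp hup
  have hk3 : 3 ≤ k := (Nat.pow_le_pow_iff_right (by norm_num : 1 < 2)).mp (by norm_num; exact hlo)
  rcases (show k = 3 ∨ k = 5 by omega) with rfl | rfl
  · exfalso
    have heq : line z p e = aSub z v := Subgroup.eq_of_le_of_card_ge hle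
      (by rw [hcard, S.card_line F T he hne]; norm_num)
    obtain ⟨d, hd, hmv⟩ := S.exists_moved F T he hne hv hvQ
    have hdY : d ∈ ySub z v := ⟨hd.1, Subgroup.mem_centralizer_iff.mpr fun a ha => by
      rw [← heq] at ha
      exact (S.comm_pair T hne (S.line_le_inter F T he hne ha) hd).eq⟩
    rcases ((S.mem_ySub hvc).mp hdY).2 with h | h <;> rw [hmv] at h
    · exact T.z_ne_one (by simpa using h)
    · exact hne (mul_left_cancel h)
  · rfl

/-- All inner involutions outside `E` have `[V,u]` of dimension four. -/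
theorem card_aSub_invol (S : Setting z p) (F : AutFacts) (T : Setting e q) (he : e ∈ Q z)
    (hne : e ≠ z) {u : G} (hu : u ∈ inner z p) (h2 : u * u = 1) (hQ : u ∉ Q z) :
    Nat.card ↥(aSub z u) = 2 ^ 5 := by
  have huc : u ∈ cz z := inner_le_cz z p hu
  obtain ⟨v, hv, hvQ⟩ : ∃ v ∈ xSub z p e, v ∉ Q z := by
    by_contra h
    push Not at h
    have hle : xSub z p e ≤ Q z ⊓ Q e := fun v hv => ⟨h v hv, (mem_xSub.mp hv).1.1⟩
    have := Subgroup.card_le_of_le hle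
    rw [S.card_inter F T he hne, S.card_xSub F T he hne] at this
    omega
  obtain ⟨⟨hve, hvz⟩, hvi⟩ := mem_xSub.mp hv
  have hvc : v ∈ cz z := mem_cz.mpr hvz
  have hv1 : S.img v ≠ 1 := fun h => by
    obtain ⟨k, hk⟩ := T.isPGroup_Q ⟨v, hve⟩
    exact hvQ (S.mem_Q_of_img_one hvc h (congrArg Subtype.val hk))
  have hv2 : v * v ∈ Q z := by
    rcases T.es.sq_cases hve with h | h <;> rw [h]
    · exact one_mem _
    · exact he
  have ov : orderOf (S.img v) = 2 :=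
    orderOf_eq_prime (by rw [sq, ← S.img_mul hvc hvc, S.img_Q hv2]) hv1
  have ou : orderOf (S.img u) = 2 :=
    orderOf_eq_prime (by rw [sq, ← S.img_mul huc huc, h2, S.img_Q (one_mem _)])
      (S.img_ne_one huc h2 hQ)
  obtain ⟨c, hc, hcu⟩ := F.conj_involution _ ((S.img_mem_inn F hvc).mpr hvi) _
    ((S.img_mem_inn F huc).mpr hu) ov ou
  obtain ⟨h, hh, rfl⟩ := S.img_surj c
  have hhi : h ∈ inner z p := (S.img_mem_inn F hh).mp hc
  set w := h * v * h⁻¹ with hw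
  have hwi : w ∈ inner z p := mul_mem (mul_mem hhi hvi) (inv_mem hhi)
  have hwc : w ∈ cz z := inner_le_cz z p hwi
  have himg : S.img (w⁻¹ * u) = 1 := by
    rw [S.img_mul (inv_mem hwc) huc, S.img_inv hwc, hw, S.img_mul (mul_mem hh hvc) (inv_mem hh),
      S.img_mul hh hvc, S.img_inv hh, hcu, inv_mul_cancel]
  have hw2 : w * w ∈ Q z := by
    rw [hw, show h * v * h⁻¹ * (h * v * h⁻¹) = h * (v * v) * h⁻¹ by group]
    exact S.conj_mem hh hv2
  obtain ⟨f, hf, i, hi⟩ := (S.img_eq_one (mul_mem (inv_mem hwc) huc)).mp himg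
  -- `p ^ (2 i)` is trivial
  have hp2 : p ^ i = 1 := by
    set P' := act z ⟨p, S.p_mem_cz⟩ with hP'
    set W' := act z ⟨w, hwc⟩ with hW'
    set U' := act z ⟨u, huc⟩ with hU'
    have hcomm : Commute W' P' := by
      have h0 : act z (⟨w, hwc⟩ * ⟨p, S.p_mem_cz⟩ * (⟨w, hwc⟩)⁻¹ * (⟨p, S.p_mem_cz⟩)⁻¹) = 1 :=
        S.act_Q _ hwi.2
      rw [map_mul, map_mul, map_mul, map_inv, map_inv, mul_inv_eq_one, mul_inv_eq_iff_eq_mul] at h0
      exact h0
    have hUW : U' = W' * P' ^ i := by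
      have h0 : act z ((⟨w, hwc⟩)⁻¹ * ⟨u, huc⟩) =
          act z (⟨f, Q_le_cz z hf⟩ * ⟨p, S.p_mem_cz⟩ ^ i) :=
        congrArg _ (Subtype.ext (by simpa using hi))
      rw [map_mul, map_inv, map_mul, map_zpow, S.act_Q ⟨f, Q_le_cz z hf⟩ hf, one_mul] at h0
      exact inv_mul_eq_iff_eq_mul.mp h0
    have hU2 : U' * U' = 1 := by
      rw [hU', ← map_mul]
      exact S.act_Q _ (by show u * u ∈ Q z; rw [h2]; exact one_mem _)
    have hW2 : W' * W' = 1 := by rw [hW', ← map_mul]; exact S.act_Q _ hw2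
    rw [hUW, (hcomm.zpow_right i).symm.mul_mul_mul_comm, hW2, one_mul, ← zpow_add] at hU2
    have h0 : act z ((⟨p, S.p_mem_cz⟩ : ↥(cz z)) ^ (i + i)) = 1 := by rw [map_zpow]; exact hU2
    have hmem : p ^ (i + i) ∈ Q z := by
      refine S.mem_Q_of_fix_mod (zpow_mem S.p_mem_cz _) fun a ha => ?_
      have h1 := DFunLike.congr_fun h0 (mkV z ⟨a, ha⟩)
      rw [act_mk, MulAut.one_apply, S.mk_eq_iff] at h1
      simpa using h1
    have h2i := S.zpow_mem_Q hmem
    have h3 : p ^ (3 : ℤ) = 1 := by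
      rw [show (3 : ℤ) = ((3 : ℕ) : ℤ) from rfl, zpow_natCast, S.p_cube]
    calc p ^ i = p ^ (i + i) * p ^ (i + i) * (p ^ (3 : ℤ)) ^ (-i) := by
          rw [← zpow_mul, ← zpow_add, ← zpow_add]; congr 1; ring
      _ = 1 := by rw [h2i, h3, one_zpow, one_mul, one_mul]
  rw [hp2, mul_one] at hi
  have hmodz : ∀ a ∈ Q z, ModZ z (u * a * u⁻¹) (w * a * w⁻¹) := by
    intro a ha
    rw [show u * a * u⁻¹ = (w * (w⁻¹ * u) * w⁻¹) * (w * a * w⁻¹) * (w * (w⁻¹ * u) * w⁻¹)⁻¹ by group,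
      hi]
    exact S.conj_eq_of_mem (S.conj_mem hwc hf) (S.conj_mem hwc ha)
  have hle := S.aSub_le_of_modZ huc hwc hmodz
  have hge := S.aSub_le_of_modZ hwc huc fun a ha => by
    rcases hmodz a ha with h | h
    · exact Or.inl h.symm
    · exact Or.inr (by rw [h, mul_assoc _ z z, S.z_sq, mul_one])
  rw [le_antisymm hle hge, hw, S.card_aSub_conj hvc hh]
  exact S.card_aSub_xSub F T he hne hv hvQ

/-- One can move `e` by `E` so that its `p`-orbit forms a four-group. -/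
theorem exists_tri (S : Setting z p) (F : AutFacts) (T : Setting e q) (he : e ∈ Q z)
    (hne : e ≠ z) : ∃ f ∈ Q z, Tri p (f * e * f⁻¹) := by
  obtain ⟨g, hg, hge⟩ := S.es.exists_conj_ne he T.z_ne_one hne
  set e₂ := p * e * p⁻¹ with he₂
  set e₃ := p * e₂ * p⁻¹ with he₃
  have hm := S.mSub_spec F T he hne
  have hm2 := S.mSub_invariant F T he hne hm.1
  have hm3 := S.mSub_invariant F T he hne hm2
  have heD : e ∈ Q z ⊓ Q e := mSub_le hm.1
  have he2D : e₂ ∈ Q z ⊓ Q e := mSub_le hm2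
  have he3D : e₃ ∈ Q z ⊓ Q e := mSub_le hm3
  set w := e * e₂ * e₃ with hw
  have hp3 : p * e₃ * p⁻¹ = e := by
    calc p * e₃ * p⁻¹ = p ^ 3 * e * (p ^ 3)⁻¹ := by rw [he₃, he₂, pow_succ, pow_two]; group
      _ = e := by rw [S.p_cube]; group
  have hwfix : p * w * p⁻¹ = w := by
    calc p * w * p⁻¹ = (p * e * p⁻¹) * (p * e₂ * p⁻¹) * (p * e₃ * p⁻¹) := by rw [hw]; group
      _ = e₂ * e₃ * e := by rw [← he₂, ← he₃, hp3]
      _ = e * (e₂ * e₃) := (S.comm_pair T hne (mul_mem he2D he3D) heD).eq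
      _ = w := (mul_assoc _ _ _).symm
  have hwQ : w ∈ Q z := mul_mem (mul_mem heD.1 he2D.1) he3D.1
  have hsq : ∀ {a}, a ∈ Q z ⊓ Q e → a⁻¹ = a := fun ha =>
    inv_eq_of_mul_eq_one_right (S.sq_pair T hne ha)
  rcases S.fix_mod hwQ (Or.inl hwfix) with h | h
  · refine ⟨1, one_mem _, ?_⟩
    rw [one_mul, inv_one, mul_one]
    show e₃ = e * e₂
    rw [eq_inv_of_mul_eq_one_right h, hsq (mul_mem heD he2D)]
  · refine ⟨g, hg, ?_⟩
    rw [hge]
    show p * (p * (e * z) * p⁻¹) * p⁻¹ = e * z * (p * (e * z) * p⁻¹)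
    have hzp : p * z * p⁻¹ = z := by rw [S.p_z.eq, mul_inv_cancel_right]
    have h2 : p * (e * z) * p⁻¹ = e₂ * z := by
      calc p * (e * z) * p⁻¹ = p * e * p⁻¹ * (p * z * p⁻¹) := by group
        _ = _ := by rw [hzp]
    rw [h2, show p * (e₂ * z) * p⁻¹ = p * e₂ * p⁻¹ * (p * z * p⁻¹) by group, hzp, ← he₃]
    have h3 : e₃ = e * e₂ * z := by
      rw [eq_inv_mul_of_mul_eq h, hsq (mul_mem heD he2D)]
    rw [h3]
    calc e * e₂ * z * z = e * (e₂ * (z * z)) := by group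
      _ = e * (z * (e₂ * z)) := by rw [← mul_assoc z e₂ z, ← S.z_comm he2D.1, mul_assoc e₂ z z]
      _ = _ := by group

section Tri

theorem pe_mem_Qe (S : Setting z p) (F : AutFacts) (T : Setting e q) (he : e ∈ Q z)
    (hne : e ≠ z) : p * e * p⁻¹ ∈ Q e :=
  (S.line_le_inter F T he hne (pe_mem_line z p e)).2

theorem pe_ne (S : Setting z p) (T : Setting e q) (he : e ∈ Q z) (hne : e ≠ z) :
    p * e * p⁻¹ ≠ e := fun h => S.ne_modZ_pe he T.z_ne_one hne (Or.inl h)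

theorem card_tSub (S : Setting z p) (F : AutFacts) (T : Setting e q) (he : e ∈ Q z)
    (hne : e ≠ z) : Nat.card ↥(tSub p e) = 2 ^ 7 :=
  T.card_inter F (T.conj p) (S.pe_mem_Qe F T he hne) (S.pe_ne T he hne)

theorem tSub_comm (S : Setting z p) (F : AutFacts) (T : Setting e q) (he : e ∈ Q z)
    (hne : e ≠ z) {a b : G} (ha : a ∈ tSub p e) (hb : b ∈ tSub p e) : Commute a b :=
  T.comm_pair (T.conj p) (S.pe_ne T he hne) ha hb

theorem tSub_sq (S : Setting z p) (F : AutFacts) (T : Setting e q) (he : e ∈ Q z)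
    (hne : e ≠ z) {a : G} (ha : a ∈ tSub p e) : a * a = 1 :=
  T.sq_pair (T.conj p) (S.pe_ne T he hne) ha

theorem z_mem_tSub (S : Setting z p) (F : AutFacts) (T : Setting e q) (he : e ∈ Q z)
    (hne : e ≠ z) : z ∈ tSub p e := by
  refine ⟨S.mem_swap F T he hne, ?_⟩
  have := isQ.mem_conj p (S.mem_swap F T he hne)
  rwa [S.p_z.eq, mul_inv_cancel_right] at this

theorem tSub_le_xSub (S : Setting z p) (F : AutFacts) (T : Setting e q) (he : e ∈ Q z)
    (hne : e ≠ z) : tSub p e ≤ xSub z p e := fun x hx => by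
  have hxz : Commute x z := S.tSub_comm F T he hne hx (S.z_mem_tSub F T he hne)
  have hxe : Commute x e := isQ.commute hx.1
  have hxe2 : Commute x (p * e * p⁻¹) := isQ.commute hx.2
  exact mem_xSub.mpr ⟨⟨hx.1, hxz⟩, (S.inner_iff_fix he T.z_ne_one hne hxz hxe).mpr
    (Or.inl (mul_inv_eq_iff_eq_mul.mpr hxe2.eq))⟩

theorem tSub_inf (S : Setting z p) (F : AutFacts) (T : Setting e q) (he : e ∈ Q z)
    (hne : e ≠ z) : tSub p e ⊓ Q z = line z p e := by
  rw [← S.mSub_eq_line F T he hne]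
  ext x
  rw [mem_mSub]
  constructor
  · rintro ⟨⟨hxe, hxe2⟩, hxz⟩
    refine ⟨⟨hxz, hxe⟩, S.conj_mem' S.p_mem_cz hxz, ?_⟩
    have := isQ.mem_conj p⁻¹ hxe2
    simpa [mul_assoc] using this
  · rintro ⟨⟨hxz, hxe⟩, hxz', hxe'⟩
    refine ⟨⟨hxe, ?_⟩, hxz⟩
    have := isQ.mem_conj p hxe'
    rwa [show p * (p⁻¹ * x * p) * p⁻¹ = x by group] at this

theorem tSub_invariant (S : Setting z p) (F : AutFacts) (T : Setting e q) (he : e ∈ Q z)
    (hne : e ≠ z) (htri : Tri p e) {x : G} (hx : x ∈ tSub p e) :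
    p * x * p⁻¹ ∈ tSub p e := by
  set e₂ := p * e * p⁻¹ with he₂
  have hT2 : Setting e₂ (p * q * p⁻¹) := T.conj p
  have h2e : e₂ ∈ Q e := S.pe_mem_Qe F T he hne
  have hne2 : e₂ ≠ e := S.pe_ne T he hne
  have he2 : e ∈ Q e₂ := T.mem_swap F hT2 h2e hne2
  obtain ⟨h, hh, hhe⟩ := hT2.es.exists_conj_ne he2 T.z_ne_one (Ne.symm hne2)
  have hhe' : h * e * h⁻¹ = p * e₂ * p⁻¹ := hhe.trans htri.symm
  have hle : tSub p e ≤ (tSub p e).map (MulAut.conj p).toMonoidHom := by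
    intro y hy
    have h1 : h * y * h⁻¹ ∈ Q (p * e₂ * p⁻¹) := hhe' ▸ isQ.mem_conj h hy.1
    have h2 : e₂ ∈ Q (p * e₂ * p⁻¹) := by
      rw [← hhe']
      have := isQ.mem_conj h h2e
      rwa [mul_inv_eq_iff_eq_mul.mpr (isQ.commute hh).eq] at this
    have h3 : y ∈ Q (p * e₂ * p⁻¹) := by
      rcases hT2.es.conj h hh y hy.2 with hc | hc <;> rw [hc] at h1
      · exact h1
      · have := mul_mem h1 h2
        rwa [mul_assoc y e₂ e₂, hT2.z_sq, mul_one] at this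
    have hy2 : y ∈ Q (p * e * p⁻¹) := hy.2
    refine ⟨p⁻¹ * y * p, ⟨?_, ?_⟩, by simp [mul_assoc]⟩
    · simpa [mul_assoc] using isQ.mem_conj p⁻¹ hy2
    · have h4 := isQ.mem_conj p⁻¹ h3
      rw [show p⁻¹ * (p * e₂ * p⁻¹) * p⁻¹⁻¹ = p * e * p⁻¹ by rw [he₂]; group] at h4
      simpa using h4
  have heq := Subgroup.eq_of_le_of_card_ge hle
    (le_of_eq (Subgroup.card_map_of_injective (MulAut.conj p).injective))
  rw [heq]
  exact ⟨x, hx, rfl⟩

theorem fSub_spec (S : Setting z p) (F : AutFacts) (T : Setting e q) (he : e ∈ Q z)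
    (hne : e ≠ z) (htri : Tri p e) :
    Nat.card ↥(fSub p e) = 32 ∧
      ∀ v ∈ xSub z p e, ∃ t ∈ fSub p e, t⁻¹ * v ∈ Q z ⊓ Q e := by
  have hTx := S.tSub_le_xSub F T he hne
  have hinv : ∀ {x}, x ∈ tSub p e → p * x * p⁻¹ ∈ tSub p e := fun hx =>
    S.tSub_invariant F T he hne htri hx
  have hnorm : ∀ x ∈ tSub p e, ∃ t ∈ fSub p e, t⁻¹ * x ∈ Q z := by
    intro x hx
    set x2 := p * x * p⁻¹ with hx2
    set x3 := p * x2 * p⁻¹ with hx3
    have hx2m : x2 ∈ tSub p e := hinv hx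
    have hx3m : x3 ∈ tSub p e := hinv hx2m
    have h3 : p * x3 * p⁻¹ = x := by
      calc p * x3 * p⁻¹ = p ^ 3 * x * (p ^ 3)⁻¹ := by rw [hx3, hx2, pow_succ, pow_two]; group
        _ = x := by rw [S.p_cube]; group
    refine ⟨x * x2 * x3, ⟨mul_mem (mul_mem hx hx2m) hx3m, mem_cz.mpr ?_⟩, ?_⟩
    · refine (mul_inv_eq_iff_eq_mul.mp (?_ : p * (x * x2 * x3) * p⁻¹ = x * x2 * x3)).symm
      calc p * (x * x2 * x3) * p⁻¹ = p * x * p⁻¹ * (p * x2 * p⁻¹) * (p * x3 * p⁻¹) := by group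
        _ = x2 * x3 * x := by rw [← hx2, ← hx3, h3]
        _ = x * (x2 * x3) := (S.tSub_comm F T he hne (mul_mem hx2m hx3m) hx).eq
        _ = _ := (mul_assoc _ _ _).symm
    · have hi : ∀ {y}, y ∈ tSub p e → y⁻¹ * (p * y * p⁻¹) ∈ Q z := by
        intro y hy
        have hyi := (inner z p).inv_mem (mem_xSub.mp (hTx hy)).2
        have h4 := hyi.2
        rw [inv_inv] at h4
        rwa [show y⁻¹ * p * y * p⁻¹ = y⁻¹ * (p * y * p⁻¹) by group] at h4
      have hprod : x2⁻¹ * x3 ∈ Q z := hi hx2m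
      have hsq : ∀ {y}, y ∈ tSub p e → y⁻¹ = y := fun hy =>
        inv_eq_of_mul_eq_one_right (S.tSub_sq F T he hne hy)
      have e1 : (x * x2 * x3)⁻¹ * x = x2⁻¹ * x3 := by
        rw [hsq (mul_mem (mul_mem hx hx2m) hx3m), hsq hx2m]
        calc x * x2 * x3 * x = x * (x2 * x3 * x) := by group
          _ = x * (x * (x2 * x3)) := by rw [(S.tSub_comm F T he hne (mul_mem hx2m hx3m) hx).eq]
          _ = x * x * (x2 * x3) := by group
          _ = x2 * x3 := by rw [S.tSub_sq F T he hne hx, one_mul]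
      rw [e1]
      exact hprod
  have hTcz : tSub p e ≤ cz z := hTx.trans xSub_le_cz
  have hFcz : fSub p e ≤ cz z := inf_le_left.trans hTcz
  have hTpg : IsPGroup 2 ↥(tSub p e) := T.isPGroup_Q.to_le inf_le_left
  have hcT := S.card_imgS hTcz hTpg
  rw [S.tSub_inf F T he hne, S.card_line F T he hne, S.card_tSub F T he hne] at hcT
  have himgeq : S.imgS (fSub p e) = S.imgS (tSub p e) := by
    ext a
    rw [S.mem_imgS hFcz, S.mem_imgS hTcz]
    constructor
    · rintro ⟨x, hx, rfl⟩; exact ⟨x, hx.1, rfl⟩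
    · rintro ⟨x, hx, rfl⟩
      obtain ⟨t, ht, htx⟩ := hnorm x hx
      refine ⟨t, ht, ?_⟩
      have h0 := S.img_Q htx
      rw [S.img_mul (inv_mem (hFcz ht)) (hTcz hx), S.img_inv (hFcz ht)] at h0
      exact inv_mul_eq_one.mp h0
  have hzF : z ∈ fSub p e := ⟨S.z_mem_tSub F T he hne, mem_cz.mpr S.p_z.symm⟩
  have hFQ : Nat.card ↥(fSub p e ⊓ Q z) = 2 := by
    have e2 : ((fSub p e ⊓ Q z : Subgroup G) : Set G) = {1, z} := by
      ext x
      constructor
      · rintro ⟨hx, hxQ⟩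
        exact S.fix x hxQ (mem_cz.mp hx.2)
      · rintro (rfl | rfl)
        exacts [one_mem _, ⟨hzF, S.es.mem⟩]
    rw [← SetLike.coe_sort_coe, Nat.card_coe_set_eq, e2, Set.ncard_pair (Ne.symm S.z_ne_one)]
  refine ⟨?_, ?_⟩
  · have hcF := S.card_imgS hFcz (hTpg.to_le inf_le_left)
    rw [himgeq, hFQ] at hcF
    omega
  · intro v hv
    have hvc : v ∈ cz z := xSub_le_cz hv
    have hxle : S.imgS (fSub p e) ≤ S.imgS (xSub z p e) := by
      rw [himgeq]
      exact Subgroup.map_mono (Subgroup.comap_mono hTx)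
    have hxc : Nat.card ↥(S.imgS (xSub z p e)) = 16 := by
      have h := S.card_imgS (xSub_le_cz : xSub z p e ≤ cz z)
        (T.isPGroup_Q.to_le (inf_le_left.trans inf_le_left))
      rw [S.xSub_inf, S.card_inter F T he hne, S.card_xSub F T he hne] at h
      omega
    have heq := Subgroup.eq_of_le_of_card_ge hxle (by rw [hxc, himgeq]; omega)
    have hm : S.img v ∈ S.imgS (fSub p e) := heq ▸ (S.mem_imgS xSub_le_cz).mpr ⟨v, hv, rfl⟩
    obtain ⟨t, ht, htv⟩ := (S.mem_imgS hFcz).mp hm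
    have htQ : t⁻¹ * v ∈ Q e := mul_mem (inv_mem ht.1.1) (mem_xSub.mp hv).1.1
    obtain ⟨k, hk⟩ := T.isPGroup_Q ⟨_, htQ⟩
    refine ⟨t, ht, S.mem_Q_of_img_one (mul_mem (inv_mem (hFcz ht)) hvc) ?_
      (congrArg Subtype.val hk), htQ⟩
    rw [S.img_mul (inv_mem (hFcz ht)) hvc, S.img_inv (hFcz ht), htv, inv_mul_cancel]

end Tri

end Setting

end Cfsg.Agent.Lib.J4Local
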