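import Cfsg.Agent.Lib.J4Local.Action

/-!
# The quotient of `O₂(C(z))` by its centre and the rank bound
-/

set_option autoImplicit false
set_option linter.unusedSectionVars false
set_option linter.unusedVariables false

namespace Cfsg.Agent.Lib.J4Local

open Cfsg.Agent.Lib.LargeExtraspecial.Basic

variable {G : Type*} [Group G]

/-- `O₂(C(z))` modulo its centre. -/
abbrev Vec (z : G) : Type _ := ↥(Q z) ⧸ Subgroup.center ↥(Q z)

/-- The class of an element. -/
abbrev mkV (z : G) (e : ↥(Q z)) : Vec z := QuotientGroup.mk e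

/-- Conjugation by an element of `C(z)` as an automorphism of `O₂(C(z))`. -/
def conjQ (z : G) : ↥(cz z) →* MulAut ↥(Q z) where
  toFun h :=
    { toFun := fun e => ⟨(h : G) * e * (h : G)⁻¹, isQ.normal (mem_cz.mp h.2) e.2⟩
      invFun := fun e => ⟨(h : G)⁻¹ * e * h, by
        simpa using isQ.normal (mem_cz.mp h.2).inv_left e.2⟩
      left_inv := fun e => Subtype.ext (by dsimp; group)
      right_inv := fun e => Subtype.ext (by dsimp; group)
      map_mul' := fun a b => Subtype.ext (by dsimp; group) }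
  map_one' := MulEquiv.ext fun e => Subtype.ext (by simp)
  map_mul' a b := MulEquiv.ext fun e => Subtype.ext (by simp [mul_assoc])

theorem map_center_eq {H : Type*} [Group H] (φ : MulAut H) :
    (Subgroup.center H).map φ.toMonoidHom = Subgroup.center H :=
  Subgroup.characteristic_iff_map_eq.mp inferInstance φ

/-- The action of `C(z)` on `Vec z`. -/
def act (z : G) : ↥(cz z) →* MulAut (Vec z) where
  toFun h := QuotientGroup.congr _ _ (conjQ z h) (map_center_eq _)
  map_one' := MulEquiv.ext fun v => QuotientGroup.induction_on v fun e => by simp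
  map_mul' a b := MulEquiv.ext fun v => QuotientGroup.induction_on v fun e => by
    show QuotientGroup.mk (conjQ z (a * b) e) = QuotientGroup.mk (conjQ z a (conjQ z b e))
    rw [map_mul]
    rfl

theorem act_mk {z : G} (h : ↥(cz z)) (e : ↥(Q z)) :
    act z h (mkV z e) = mkV z ⟨(h : G) * e * (h : G)⁻¹, isQ.normal (mem_cz.mp h.2) e.2⟩ := rfl

namespace Setting

variable [Finite G] {z p : G}

theorem mem_center (S : Setting z p) (e : ↥(Q z)) :
    e ∈ Subgroup.center ↥(Q z) ↔ (e : G) = 1 ∨ (e : G) = z := by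
  constructor
  · intro h
    exact S.es.center e e.2 fun q hq =>
      congrArg Subtype.val (Subgroup.mem_center_iff.mp h ⟨q, hq⟩)
  · intro h
    refine Subgroup.mem_center_iff.mpr fun q => Subtype.ext ?_
    rcases h with h | h <;> simp only [Subgroup.coe_mul, h]
    · simp
    · exact S.z_comm q.2

theorem mk_eq_iff (S : Setting z p) (a b : ↥(Q z)) :
    mkV z a = mkV z b ↔ ModZ z (a : G) b := by
  rw [QuotientGroup.eq, S.mem_center, Subgroup.coe_mul, Subgroup.coe_inv]
  constructor
  · rintro (h | h)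
    · exact Or.inl (inv_mul_eq_one.mp h)
    · right
      rw [inv_mul_eq_iff_eq_mul.mp h, mul_assoc, S.z_sq, mul_one]
  · rintro (h | h)
    · left; rw [h, inv_mul_cancel]
    · right; rw [h, mul_inv_rev, S.es.zinv, mul_assoc, inv_mul_cancel, mul_one]

theorem vec_comm (S : Setting z p) (v w : Vec z) : v * w = w * v := by
  induction v using QuotientGroup.induction_on with
  | H a =>
    induction w using QuotientGroup.induction_on with
    | H b =>
      rw [← QuotientGroup.mk_mul, ← QuotientGroup.mk_mul]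
      refine (S.mk_eq_iff _ _).mpr ?_
      rcases S.es.conj a a.2 b b.2 with h | h
      · exact Or.inl (mul_inv_eq_iff_eq_mul.mp h)
      · right
        have h' : (a : G) * b = b * z * a := mul_inv_eq_iff_eq_mul.mp h
        simp only [Subgroup.coe_mul]
        rw [h', mul_assoc, ← S.z_comm a.2, ← mul_assoc]

theorem vec_sq (S : Setting z p) (v : Vec z) : v * v = 1 := by
  induction v using QuotientGroup.induction_on with
  | H a =>
    rw [← QuotientGroup.mk_mul, ← QuotientGroup.mk_one]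
    refine (S.mk_eq_iff _ _).mpr ?_
    rcases S.es.sq_cases a.2 with h | h
    · exact Or.inl h
    · exact Or.inr (by simpa using h)

theorem card_vec (S : Setting z p) : Nat.card (Vec z) = 2 ^ 12 := by
  have h2 : Nat.card ↥(Subgroup.center ↥(Q z)) = 2 := by
    have e : (Subgroup.center ↥(Q z) : Set ↥(Q z)) = {1, ⟨z, S.es.mem⟩} := by
      ext x
      simp only [SetLike.mem_coe, S.mem_center, Set.mem_insert_iff, Set.mem_singleton_iff]
      exact or_congr OneMemClass.coe_eq_one
        ⟨fun hh => Subtype.ext hh, fun hh => congrArg Subtype.val hh⟩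
    rw [← SetLike.coe_sort_coe, Nat.card_coe_set_eq, e,
      Set.ncard_pair fun h => S.z_ne_one (congrArg Subtype.val h).symm]
  have h := Subgroup.card_eq_card_quotient_mul_card_subgroup (Subgroup.center ↥(Q z))
  rw [S.card_E, h2] at h
  show Nat.card (↥(Q z) ⧸ Subgroup.center ↥(Q z)) = 2 ^ 12
  omega

theorem act_Q (S : Setting z p) (h : ↥(cz z)) (hh : (h : G) ∈ Q z) : act z h = 1 :=
  MulEquiv.ext fun v => QuotientGroup.induction_on v fun e =>
    (S.mk_eq_iff _ _).mpr (S.conj_eq_of_mem hh e.2)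

/-- `v ↦ σ v v⁻¹` for an automorphism of `Vec z`. -/
def delta (S : Setting z p) (σ : MulAut (Vec z)) : Vec z →* Vec z where
  toFun v := σ v * v⁻¹
  map_one' := by simp
  map_mul' a b := by
    rw [map_mul, mul_inv_rev, mul_assoc, ← mul_assoc (σ b), S.vec_comm (σ b) b⁻¹,
      mul_assoc b⁻¹, S.vec_comm (σ b), ← mul_assoc, ← mul_assoc, ← mul_assoc,
      mul_assoc (σ a), S.vec_comm b⁻¹ a⁻¹, ← mul_assoc, mul_assoc (σ a * a⁻¹), S.vec_comm b⁻¹]

theorem delta_delta (S : Setting z p) (σ : MulAut (Vec z)) (v : Vec z) :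
    S.delta σ (S.delta σ v) = S.delta (σ * σ) v := by
  have hinv : ∀ x : Vec z, x⁻¹ = x := fun x => inv_eq_of_mul_eq_one_right (S.vec_sq x)
  show σ (σ v * v⁻¹) * (σ v * v⁻¹)⁻¹ = (σ * σ) v * v⁻¹
  simp only [hinv, map_mul, MulAut.mul_apply]
  rw [mul_assoc, ← mul_assoc (σ v) (σ v), S.vec_sq, one_mul]

/-- The rank bound: for an involution of `H/E` in the inner part, `|[V,u]| ≤ 2^4`. -/
theorem card_aSub_le (S : Setting z p) (F : AutFacts) {u : G} (hu : u ∈ inner z p)
    (h2 : u * u ∈ Q z) (h1 : S.img u ≠ 1) : Nat.card ↥(aSub z u) ≤ 2 ^ 5 := by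
  have huc : u ∈ cz z := inner_le_cz z p hu
  have hord : orderOf (S.img u) = 2 := by
    refine orderOf_eq_prime ?_ h1
    rw [sq, ← S.img_mul huc huc, S.img_Q h2]
  obtain ⟨s', hs', hss⟩ := F.square _ ((S.img_mem_inn F huc).mpr hu) hord
  obtain ⟨s, hs, rfl⟩ := S.img_surj s'
  have hsi : s ∈ inner z p := (S.img_mem_inn F hs).mp hs'
  obtain ⟨e, he, i, hi⟩ := (S.img_eq_one (mul_mem (inv_mem huc) (mul_mem hs hs))).mp (by
    rw [S.img_mul (inv_mem huc) (mul_mem hs hs), S.img_mul hs hs, S.img_inv huc, hss,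
      inv_mul_cancel])
  set P' : MulAut (Vec z) := act z ⟨p, S.p_mem_cz⟩ with hP'
  set U : MulAut (Vec z) := act z ⟨u, huc⟩ with hU
  set A : MulAut (Vec z) := act z ⟨s, hs⟩ with hA
  have hP3 : P' ^ 3 = 1 := by
    rw [hP', ← map_pow, ← map_one (act z)]
    exact congrArg _ (Subtype.ext S.p_cube)
  have hU2 : U * U = 1 := by
    rw [hU, ← map_mul]
    exact S.act_Q _ h2
  have comm : ∀ (x : G) (hx : x ∈ inner z p),
      Commute (act z ⟨x, inner_le_cz z p hx⟩) P' := by
    intro x hx
    have h : act z (⟨x, inner_le_cz z p hx⟩ * ⟨p, S.p_mem_cz⟩ * (⟨x, inner_le_cz z p hx⟩)⁻¹ *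
        (⟨p, S.p_mem_cz⟩)⁻¹) = 1 := S.act_Q _ hx.2
    rw [map_mul, map_mul, map_mul, map_inv, map_inv, mul_inv_eq_one, mul_inv_eq_iff_eq_mul] at h
    exact h
  have hAU : A * A = U * P' ^ i := by
    have h : act z ((⟨u, huc⟩)⁻¹ * (⟨s, hs⟩ * ⟨s, hs⟩)) =
        act z (⟨e, Q_le_cz z he⟩ * ⟨p, S.p_mem_cz⟩ ^ i) :=
      congrArg _ (Subtype.ext (by simpa using hi))
    rw [map_mul, map_inv, map_mul, map_mul, map_zpow, S.act_Q ⟨e, Q_le_cz z he⟩ he,
      one_mul] at h
    exact inv_mul_eq_iff_eq_mul.mp h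
  set B := A ^ 3 with hB
  have hB2 : B * B = U := by
    have : B * B = (A * A) ^ 3 := by rw [hB, ← sq, ← sq, ← pow_mul, ← pow_mul]
    have hi3 : (P' ^ i) ^ 3 = 1 := by
      rw [← zpow_natCast, ← zpow_mul, mul_comm, zpow_mul, zpow_natCast, hP3, one_zpow]
    rw [this, hAU, ((comm u hu).zpow_right i).mul_pow, hi3, mul_one, pow_succ, sq, hU2, one_mul]
  have hq : ∀ v, P' (S.delta B v) = S.delta B (P' v) := by
    intro v
    have hc : Commute B P' := (comm s hsi).pow_left 3
    show P' (B v * v⁻¹) = B (P' v) * (P' v)⁻¹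
    rw [map_mul, map_inv, show P' (B v) = B (P' v) from (DFunLike.congr_fun hc.eq v).symm]
  have hP3' : ∀ v, P' (P' (P' v)) = v := fun v => by
    have := DFunLike.congr_fun hP3 v
    rwa [pow_succ, sq, MulAut.mul_apply, MulAut.mul_apply, MulAut.one_apply] at this
  have hfix : ∀ v, P' v = v → v = 1 := fun v => QuotientGroup.induction_on v fun a ha => by
    have hm := (S.mk_eq_iff _ _).mp ha
    rcases S.fix_mod a.2 hm with h | h
    · rw [show a = 1 from Subtype.ext h]; rfl
    · rw [QuotientGroup.eq_one_iff, S.mem_center]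
      exact Or.inr h
  have h4 : ∀ v, S.delta B (S.delta B (S.delta B (S.delta B v))) = 1 := fun v => by
    rw [S.delta_delta, S.delta_delta B v, hB2, S.delta_delta, hU2]
    exact mul_inv_cancel v
  have hbound := RankBound.card_range_sq S.card_vec P'.toMonoidHom (S.delta B)
    hP3' hfix hq h4
  let m : ↥(aSub z u) →* Vec z :=
    (QuotientGroup.mk' _).comp (Subgroup.inclusion (S.aSub_le huc))
  have hmr : m.range ≤ ((S.delta B).comp (S.delta B)).range := by
    rintro _ ⟨⟨x, hx⟩, rfl⟩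
    obtain ⟨f, hf, hxm⟩ := (S.mem_aSub huc).mp hx
    refine ⟨mkV z ⟨f, hf⟩, ?_⟩
    show S.delta B (S.delta B _) = _
    rw [S.delta_delta, hB2]
    exact ((S.mk_eq_iff ⟨x, S.aSub_le huc hx⟩
      ⟨u * f * u⁻¹ * f⁻¹, S.comm_mem huc hf⟩).mpr hxm).symm
  have hker : Nat.card ↥m.ker ≤ 2 := by
    have hsub : (m.ker : Set ↥(aSub z u)) ⊆ {1, ⟨z, z_mem_aSub z u⟩} := by
      intro x hx
      have hx' : (Subgroup.inclusion (S.aSub_le huc) x) ∈ Subgroup.center ↥(Q z) :=
        (QuotientGroup.eq_one_iff _).mp hx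
      rcases (S.mem_center _).mp hx' with h | h
      · exact Or.inl (Subtype.ext h)
      · exact Or.inr (Subtype.ext h)
    rw [← SetLike.coe_sort_coe, Nat.card_coe_set_eq]
    exact (Set.ncard_le_ncard hsub).trans (Set.ncard_insert_le _ _ |>.trans (by simp))
  have hcard := Subgroup.card_mul_index m.ker
  rw [Subgroup.index_ker] at hcard
  rw [← hcard]
  calc Nat.card ↥m.ker * Nat.card ↥m.range ≤ 2 * 2 ^ 4 :=
        Nat.mul_le_mul hker ((Subgroup.card_le_of_le hmr).trans hbound)
    _ = 2 ^ 5 := by norm_num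

end Setting

end Cfsg.Agent.Lib.J4Local
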