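import Cfsg.Agent.Lib.J4Local.RowsK

/-!
# The Sylow 3-subgroups of `C(z)`
-/

set_option autoImplicit false
set_option linter.unusedSectionVars false
set_option linter.unusedVariables false

namespace Cfsg.Agent.Lib.J4Local

open Cfsg.Agent.Lib.LargeExtraspecial.Basic

variable {G : Type*} [Group G]

/-- Cubing is multiplicative up to class two. -/
theorem pow_three_mul {x y c : G} (hcx : c * x = x * c) (hcy : c * y = y * c) (hc : c ^ 3 = 1)
    (hyx : y * x = x * (y * c)) : (x * y) ^ 3 = x ^ 3 * y ^ 3 := by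
  have hcx' : ∀ w, c * (x * w) = x * (c * w) := fun w => by rw [← mul_assoc, hcx, mul_assoc]
  have hcy' : ∀ w, c * (y * w) = y * (c * w) := fun w => by rw [← mul_assoc, hcy, mul_assoc]
  have hyx' : ∀ w, y * (x * w) = x * (y * (c * w)) := fun w => by
    rw [← mul_assoc, hyx]; simp only [mul_assoc]
  have hc3 : c * (c * c) = 1 := by rw [← mul_assoc, ← sq, ← pow_succ]; exact hc
  simp only [pow_succ, pow_zero, one_mul, mul_assoc, hcx, hcy, hyx, hcx', hcy', hyx', hc3, mul_one]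

namespace Setting

variable [Finite G] {z p : G}

/-- A 27-element with the same image. -/
theorem img_eq_modP (S : Setting z p) {a b : G} (ha : a ∈ kSub z p) (hb : b ∈ kSub z p)
    (ha27 : a ^ 27 = 1) (hb27 : b ^ 27 = 1) (h : S.img a = S.img b) :
    ∃ i : ℤ, b = a * p ^ i := by
  have himg : S.img (a⁻¹ * b) = 1 := by
    rw [S.img_mul (inv_mem ha.1) hb.1, S.img_inv ha.1, h, inv_mul_cancel]
  obtain ⟨i, hi | hi⟩ := S.ker_kSub (mul_mem (inv_mem ha) hb) himg
  · exact ⟨i, inv_mul_eq_iff_eq_mul.mp hi⟩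
  · exfalso
    obtain ⟨haz, hap⟩ := mem_kSub.mp ha
    have hpow : (p ^ i) ^ 27 = 1 := by
      rw [← zpow_natCast, ← zpow_mul, mul_comm, zpow_mul, zpow_natCast,
        show p ^ 27 = (p ^ 3) ^ 9 by rw [← pow_mul], S.p_cube, one_pow, one_zpow]
    rw [inv_mul_eq_iff_eq_mul.mp hi, (haz.mul_right (hap.zpow_right i)).mul_pow, ha27, one_mul,
      (S.p_z.symm.zpow_right i).mul_pow, hpow, mul_one,
      show z ^ 27 = (z * z) ^ 13 * z by rw [← sq, ← pow_mul, ← pow_succ], S.z_sq, one_pow,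
      one_mul] at hb27
    exact S.z_ne_one hb27

theorem sylow_three_card (S : Setting z p) (F : AutFacts) (R : Sylow 3 ↥(cz z)) :
    Nat.card ↥(R : Subgroup ↥(cz z)) = 27 := by
  have := Fact.mk Nat.prime_three
  obtain ⟨k, hk⟩ := R.2.exists_card_eq
  have hmul := Subgroup.card_mul_index (R : Subgroup ↥(cz z))
  have hni := R.not_dvd_index
  rw [S.card_cz F, hk] at hmul
  have h27 : 27 ∣ 3 ^ k := by
    refine (Nat.Coprime.pow_left 3 ((Nat.Prime.coprime_iff_not_dvd Nat.prime_three).mpr hni) :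
      Nat.Coprime (3 ^ 3) (R : Subgroup ↥(cz z)).index).dvd_of_dvd_mul_right ?_
    rw [hmul]
    norm_num
  have hup : 3 ^ k ∣ 3 * 2 ^ 13 * 887040 := ⟨_, hmul.symm⟩
  rw [hk]
  have hk3 : k ≤ 3 := by
    by_contra hlt
    push Not at hlt
    have h4 := (Nat.pow_dvd_pow 3 hlt).trans hup
    norm_num at h4
  have hk3' : 3 ≤ k := (Nat.pow_dvd_pow_iff_le_right (by norm_num : 1 < 3)).mp (show 3 ^ 3 ∣ 3 ^ k by simpa using h27)
  rw [show k = 3 by omega]
  norm_num

/-- Every 3-element of `C(z)` lies in a subgroup of order 27. -/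
theorem exists_sylow_three (S : Setting z p) (F : AutFacts) {x : G} (hx : x ∈ cz z)
    (hx3 : ∃ k, x ^ 3 ^ k = 1) : ∃ R : Subgroup G, R ≤ cz z ∧ Nat.card ↥R = 27 ∧ x ∈ R := by
  have hp : IsPGroup 3 ↥(Subgroup.zpowers (⟨x, hx⟩ : ↥(cz z))) := by
    rintro ⟨_, i, rfl⟩
    obtain ⟨k, hk⟩ := hx3
    refine ⟨k, Subtype.ext (Subtype.ext ?_)⟩
    simp only [SubmonoidClass.coe_pow, SubgroupClass.coe_zpow]
    rw [← zpow_natCast, ← zpow_mul, mul_comm, zpow_mul, zpow_natCast, hk, one_zpow]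
    rfl
  obtain ⟨R, hR⟩ := hp.exists_le_sylow
  refine ⟨(R : Subgroup ↥(cz z)).map (cz z).subtype, Subgroup.map_subtype_le _, ?_,
    ⟨⟨x, hx⟩, hR (Subgroup.mem_zpowers _), rfl⟩⟩
  rw [Subgroup.card_map_of_injective (Subgroup.subtype_injective _), S.sylow_three_card F R]

/-- Subgroups of order 27 are conjugate in `C(z)`. -/
theorem conj_sylow_three (S : Setting z p) (F : AutFacts) {R R' : Subgroup G} (hR : R ≤ cz z)
    (hR' : R' ≤ cz z) (hc : Nat.card ↥R = 27) (hc' : Nat.card ↥R' = 27) :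
    ∃ h ∈ cz z, ∀ x ∈ R', h * x * h⁻¹ ∈ R := by
  have := Fact.mk Nat.prime_three
  have key : ∀ R : Subgroup G, R ≤ cz z → Nat.card ↥R = 27 →
      ∃ P : Sylow 3 ↥(cz z), (P : Subgroup ↥(cz z)) = R.subgroupOf (cz z) := by
    intro R hR hc
    have hcard : Nat.card ↥(R.subgroupOf (cz z)) = 27 := by
      rw [Nat.card_congr (Subgroup.subgroupOfEquivOfLe hR).toEquiv, hc]
    obtain ⟨P, hP⟩ := (IsPGroup.of_card (p := 3) (n := 3) (by rw [hcard]; norm_num) :
      IsPGroup 3 ↥(R.subgroupOf (cz z))).exists_le_sylow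
    exact ⟨P, (Subgroup.eq_of_le_of_card_ge hP (by rw [S.sylow_three_card F P, hcard])).symm⟩
  obtain ⟨P, hP⟩ := key R hR hc
  obtain ⟨P', hP'⟩ := key R' hR' hc'
  obtain ⟨h, hh⟩ := MulAction.exists_smul_eq ↥(cz z) P' P
  refine ⟨h, h.2, fun x hx => ?_⟩
  have h1 : (⟨x, hR' hx⟩ : ↥(cz z)) ∈ (P' : Subgroup ↥(cz z)) := by rw [hP']; exact hx
  have h2 : h * ⟨x, hR' hx⟩ * h⁻¹ ∈ ((h • P' : Sylow 3 ↥(cz z)) : Subgroup ↥(cz z)) :=
    Subgroup.smul_mem_pointwise_smul (⟨x, hR' hx⟩ : ↥(cz z)) (MulAut.conj h) _ h1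
  rw [hh, hP] at h2
  exact h2

section Three

variable {R : Subgroup G}

theorem pow_27 (hc : Nat.card ↥R = 27) {x : G} (hx : x ∈ R) : x ^ 27 = 1 := by
  have := pow_card_eq_one' (x := (⟨x, hx⟩ : ↥R))
  rw [hc] at this
  exact congrArg Subtype.val this

theorem three_le_kSub (S : Setting z p) (hR : R ≤ cz z) (hc : Nat.card ↥R = 27) (hp : p ∈ R) :
    R ≤ kSub z p := by
  intro x hx
  refine ⟨hR hx, mem_cz.mpr ?_⟩
  -- `x p x⁻¹ p⁻¹` is a 3-element of `O₂`, once `x` is inner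
  have hodd : x ∈ inner z p := by
    have h2 : x * x ∈ inner z p := by
      by_cases hh : x ∈ inner z p
      · exact mul_mem hh hh
      · exact S.mul_mem_inner (hR hx) (hR hx) hh hh
    have : (x * x) ^ 14 = x := by
      rw [← sq, ← pow_mul, show 2 * 14 = 27 + 1 by norm_num, pow_succ, pow_27 hc hx, one_mul]
    rw [← this]
    exact pow_mem h2 14
  have hd : x * p * x⁻¹ * p⁻¹ ∈ R := mul_mem (mul_mem (mul_mem hx hp) (inv_mem hx)) (inv_mem hp)
  have h1 := pow_27 hc hd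
  have h2 := S.pow_Q hodd.2
  have h3 : x * p * x⁻¹ * p⁻¹ = 1 := orderOf_eq_one_iff.mp (Nat.dvd_one.mp
    ((show Nat.Coprime 27 (2 ^ 13) by norm_num) ▸
      Nat.dvd_gcd (orderOf_dvd_of_pow_eq_one h1) (orderOf_dvd_of_pow_eq_one h2)))
  exact mul_inv_eq_iff_eq_mul.mp (mul_inv_eq_one.mp h3)

theorem three_ker (S : Setting z p) (hR : R ≤ cz z) (hc : Nat.card ↥R = 27) (hp : p ∈ R) {x : G}
    (hx : x ∈ R) : S.img x = 1 ↔ x ∈ Subgroup.zpowers p := by
  refine ⟨fun h => S.ker_three (S.three_le_kSub hR hc hp hx) h (pow_27 hc hx), ?_⟩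
  rintro ⟨i, rfl⟩
  exact (S.img_eq_one (hR hx)).mpr ⟨1, one_mem _, i, (one_mul _).symm⟩

theorem three_img (S : Setting z p) (F : AutFacts) (hR : R ≤ cz z) (hc : Nat.card ↥R = 27)
    (hp : p ∈ R) : Nat.card ↥(S.imgS R) = 9 := by
  set m : ↥R →* AutM22 := S.phi.comp (Subgroup.inclusion hR) with hm
  have hrange : m.range = S.imgS R := by
    ext a
    rw [S.mem_imgS hR]
    constructor
    · rintro ⟨x, rfl⟩; exact ⟨x, x.2, S.img_of_mem _⟩
    · rintro ⟨x, hx, rfl⟩; exact ⟨⟨x, hx⟩, (S.img_of_mem _).symm⟩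
  have hker : m.ker = (Subgroup.zpowers p).subgroupOf R := by
    ext x
    rw [MonoidHom.mem_ker, Subgroup.mem_subgroupOf, ← S.three_ker hR hc hp x.2, S.img_of_mem (hR x.2)]
    rfl
  have h := Subgroup.card_mul_index m.ker
  rw [Subgroup.index_ker, hrange, hc, hker, Nat.card_congr (Subgroup.subgroupOfEquivOfLe
    (H := Subgroup.zpowers p) (Subgroup.zpowers_le.mpr hp)).toEquiv, Nat.card_zpowers, S.ord_p] at h
  omega

theorem three_img_cube (S : Setting z p) (F : AutFacts) (hR : R ≤ cz z) (hc : Nat.card ↥R = 27)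
    (hp : p ∈ R) {x : G} (hx : x ∈ R) : S.img x ^ 3 = 1 :=
  (F.sylow_three _ (S.three_img F hR hc hp)).1 _ ((S.mem_imgS hR).mpr ⟨x, hx, rfl⟩)

theorem three_comm (S : Setting z p) (F : AutFacts) (hR : R ≤ cz z) (hc : Nat.card ↥R = 27)
    (hp : p ∈ R) {x y : G} (hx : x ∈ R) (hy : y ∈ R) :
    x * y * x⁻¹ * y⁻¹ ∈ Subgroup.zpowers p := by
  have := Fact.mk Nat.prime_three
  rw [← S.three_ker hR hc hp (mul_mem (mul_mem (mul_mem hx hy) (inv_mem hx)) (inv_mem hy)),
    S.img_mul (mul_mem (mul_mem (hR hx) (hR hy)) (inv_mem (hR hx))) (inv_mem (hR hy)),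
    S.img_mul (mul_mem (hR hx) (hR hy)) (inv_mem (hR hx)), S.img_mul (hR hx) (hR hy),
    S.img_inv (hR hx), S.img_inv (hR hy)]
  have hab := IsPGroup.commutative_of_card_eq_prime_sq (p := 3) (G := ↥(S.imgS R))
    (by rw [S.three_img F hR hc hp]; norm_num)
    ⟨_, (S.mem_imgS hR).mpr ⟨x, hx, rfl⟩⟩ ⟨_, (S.mem_imgS hR).mpr ⟨y, hy, rfl⟩⟩
  have hab' : S.img x * S.img y = S.img y * S.img x := congrArg Subtype.val hab
  rw [hab']
  group

open scoped IsMulCommutative in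
theorem three_nonabelian (S : Setting z p) (F : AutFacts) (hR : R ≤ cz z)
    (hc : Nat.card ↥R = 27) (hp : p ∈ R) : ∃ x ∈ R, ∃ y ∈ R, x * y ≠ y * x := by
  by_contra hcon
  push Not at hcon
  have hK := S.three_le_kSub hR hc hp
  set R' := R.subgroupOf (kSub z p) with hR'
  have : IsMulCommutative ↥R' := ⟨⟨fun a b => Subtype.ext (Subtype.ext (hcon _ a.2 _ b.2))⟩⟩
  set p' : ↥(kSub z p) := ⟨p, S.p_mem_kSub⟩ with hp'
  have hcen : ∀ x : ↥(kSub z p), Commute x p' := fun x => Subtype.ext (mem_kSub.mp x.2).2.eq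
  have hcomm : p' ∈ commutator ↥(kSub z p) := by
    have h := S.derived
    have hmap : (commutator ↥(kSub z p)).map (kSub z p).subtype =
        ⁅kSub z p, kSub z p⁆ := by
      rw [commutator_def, Subgroup.map_commutator, ← MonoidHom.range_eq_map, Subgroup.range_subtype]
    rw [show cz z ⊓ cz p = kSub z p from rfl, ← hmap] at h
    obtain ⟨w, hw, hwp⟩ := h
    rwa [show p' = w from Subtype.ext hwp.symm]
  have key : ∀ (k : ℕ) (g₀ : ↥(kSub z p)), g₀⁻¹ * p' ^ k * g₀ ∈ R' →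
      g₀⁻¹ * p' ^ k * g₀ = p' ^ k := fun k g₀ _ => by
    rw [mul_assoc, ← ((hcen g₀).pow_right k).eq, inv_mul_cancel_left]
  have h1 := MonoidHom.transfer_eq_pow (MonoidHom.id ↥R') p' key
  have h2 : MonoidHom.transfer (MonoidHom.id ↥R') p' = 1 :=
    Abelianization.commutator_subset_ker _ hcomm
  rw [h2] at h1
  have h3 : p ^ R'.index = 1 := congrArg (fun a : ↥R' => ((a : ↥(kSub z p)) : G)) h1.symm
  have hidx := Subgroup.card_mul_index R'
  rw [hR', Nat.card_congr (Subgroup.subgroupOfEquivOfLe hK).toEquiv, hc, S.card_kSub F] at hidx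
  have hd := orderOf_dvd_of_pow_eq_one h3
  rw [S.ord_p, hR', show (R.subgroupOf (kSub z p)).index = 98560 by omega] at hd
  norm_num at hd

theorem three_centre (S : Setting z p) (F : AutFacts) (hR : R ≤ cz z) (hc : Nat.card ↥R = 27)
    (hp : p ∈ R) {x : G} (hx : x ∈ R) (hcen : ∀ y ∈ R, x * y = y * x) :
    x ∈ Subgroup.zpowers p := by
  have := Fact.mk Nat.prime_three
  by_contra hxP
  obtain ⟨a, ha, b, hb, hab⟩ := S.three_nonabelian F hR hc hp
  refine hab ?_
  set Z := Subgroup.center ↥R with hZ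
  have hPZ : (Subgroup.zpowers p).subgroupOf R < Z := by
    refine lt_of_le_of_ne (fun w hw => Subgroup.mem_center_iff.mpr fun y => ?_) fun h => hxP ?_
    · obtain ⟨i, hi⟩ := Subgroup.mem_subgroupOf.mp hw
      refine Subtype.ext ?_
      simp only [Subgroup.coe_mul]
      rw [← hi]
      exact ((mem_kSub.mp (S.three_le_kSub hR hc hp y.2)).2.zpow_right i).eq
    · have hm : (⟨x, hx⟩ : ↥R) ∈ Z :=
        Subgroup.mem_center_iff.mpr fun y => Subtype.ext (hcen y y.2).symm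
      rw [← h] at hm
      exact hm
  have hP3 : Nat.card ↥((Subgroup.zpowers p).subgroupOf R) = 3 := by
    rw [Nat.card_congr (Subgroup.subgroupOfEquivOfLe (H := Subgroup.zpowers p)
      (Subgroup.zpowers_le.mpr hp)).toEquiv, Nat.card_zpowers, S.ord_p]
  have hlt : 3 < Nat.card ↥Z := by
    by_contra hle
    exact hPZ.ne (Subgroup.eq_of_le_of_card_ge hPZ.le (by omega))
  have hdvd : Nat.card ↥Z ∣ 3 ^ 3 := by
    have := Subgroup.card_subgroup_dvd_card Z
    rw [hc] at this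
    simpa using this
  obtain ⟨j, hj3, hj⟩ := (Nat.dvd_prime_pow Nat.prime_three).mp hdvd
  have hmul := Subgroup.card_mul_index Z
  rw [hc, hj] at hmul
  rw [hj] at hlt
  have hcyc : IsCyclic (↥R ⧸ Z) := by
    rcases (show j = 2 ∨ j = 3 by
      interval_cases j <;> first | omega | norm_num at hlt) with rfl | rfl
    · exact isCyclic_of_prime_card (p := 3) (by rw [← Subgroup.index_eq_card]; omega)
    · have : Subsingleton (↥R ⧸ Z) := by
        refine (Nat.card_eq_one_iff_unique.mp ?_).1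
        rw [← Subgroup.index_eq_card]; omega
      infer_instance
  exact congrArg Subtype.val
    ((MonoidHom.isMulCommutative_of_isCyclic_of_ker_le_center (QuotientGroup.mk' Z)
      (by rw [QuotientGroup.ker_mk'])).is_comm.comm (⟨a, ha⟩ : ↥R) ⟨b, hb⟩)

/-- Outside `⟨p⟩` the classes of `R` are cosets. -/
theorem three_exists_conj (S : Setting z p) (F : AutFacts) (hR : R ≤ cz z)
    (hc : Nat.card ↥R = 27) (hp : p ∈ R) {x : G} (hx : x ∈ R) (hxP : x ∉ Subgroup.zpowers p)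
    (i : ℤ) : ∃ g ∈ R, g * x * g⁻¹ = x * p ^ i := by
  obtain ⟨g, hg, hgx⟩ : ∃ g ∈ R, x * g ≠ g * x := by
    by_contra h
    push Not at h
    exact hxP (S.three_centre F hR hc hp hx h)
  obtain ⟨j, hj⟩ := Subgroup.mem_zpowers_iff.mp
    (S.three_comm F hR hc hp (inv_mem hx) hg)
  set c := p ^ j with hcdef
  have hgc : g * x * g⁻¹ = x * c := by rw [hj]; group
  have hgp : Commute g c := (mem_kSub.mp (S.three_le_kSub hR hc hp hg)).2.zpow_right j
  have hpow : ∀ n : ℕ, g ^ n * x * (g ^ n)⁻¹ = x * c ^ n := by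
    intro n
    induction n with
    | zero => simp
    | succ m ih =>
      calc g ^ (m + 1) * x * (g ^ (m + 1))⁻¹ = g * (g ^ m * x * (g ^ m)⁻¹) * g⁻¹ := by
            rw [pow_succ']; group
        _ = g * x * g⁻¹ * (g * c ^ m * g⁻¹) := by rw [ih]; group
        _ = x * c ^ (m + 1) := by
          rw [hgc, (hgp.pow_right m).eq, mul_inv_cancel_right, pow_succ', mul_assoc]
  have hc1 : c ≠ 1 := fun h => hgx (by
    rw [h, mul_one] at hgc
    exact (mul_inv_eq_iff_eq_mul.mp hgc).symm)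
  have hp3 : p * p * (p * p) = p := by
    calc p * p * (p * p) = p ^ 3 * p := by rw [pow_succ, pow_two]; group
      _ = p := by rw [S.p_cube, one_mul]
  rcases S.p_zpow_cases i with h | h | h <;> rw [h]
  · exact ⟨1, one_mem _, by simp⟩
  · rcases S.p_zpow_cases j with hj' | hj' | hj' <;> rw [← hcdef] at hj'
    · exact absurd hj' hc1
    · exact ⟨g, hg, by rw [hgc, hj']⟩
    · refine ⟨g ^ 2, pow_mem hg 2, ?_⟩
      rw [hpow, hj', sq, hp3]
  · rcases S.p_zpow_cases j with hj' | hj' | hj' <;> rw [← hcdef] at hj'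
    · exact absurd hj' hc1
    · refine ⟨g ^ 2, pow_mem hg 2, ?_⟩
      rw [hpow, hj', sq]
    · exact ⟨g, hg, by rw [hgc, hj']⟩

theorem three_cube (S : Setting z p) (F : AutFacts) (hR : R ≤ cz z) (hc : Nat.card ↥R = 27)
    (hp : p ∈ R) {x : G} (hx : x ∈ R) : x ^ 3 = 1 := by
  have hK := S.three_le_kSub hR hc hp
  have hPc : ∀ {c y}, c ∈ Subgroup.zpowers p → y ∈ R → c * y = y * c := by
    intro c y hc' hy
    obtain ⟨i, rfl⟩ := hc'
    exact ((mem_kSub.mp (hK hy)).2.zpow_right i).eq.symm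
  have hP3 : ∀ {c}, c ∈ Subgroup.zpowers p → c ^ 3 = 1 := by
    rintro c ⟨i, rfl⟩
    rw [← zpow_natCast, ← zpow_mul, mul_comm, zpow_mul, zpow_natCast, S.p_cube, one_zpow]
  have hmulc : ∀ {a b}, a ∈ R → b ∈ R → (a * b) ^ 3 = a ^ 3 * b ^ 3 := by
    intro a b ha hb
    have hcP := S.three_comm F hR hc hp (inv_mem hb) (inv_mem ha)
    exact pow_three_mul (hPc hcP ha) (hPc hcP hb) (hP3 hcP) (by group)
  let θ : ↥R →* ↥R :=
    { toFun := fun a => a ^ 3
      map_one' := one_pow 3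
      map_mul' := fun a b => Subtype.ext (by simpa using hmulc a.2 b.2) }
  have hrange : θ.range ≤ (Subgroup.zpowers p).subgroupOf R := by
    rintro _ ⟨a, rfl⟩
    rw [Subgroup.mem_subgroupOf]
    refine (S.three_ker hR hc hp (θ a).2).mp ?_
    show S.img (((a : G)) ^ 3) = 1
    rw [S.img_pow (hR a.2), S.three_img_cube F hR hc hp a.2]
  obtain ⟨x0, hx0, hx0P⟩ : ∃ x0 ∈ R, x0 ^ 3 = 1 ∧ x0 ∉ Subgroup.zpowers p := by
    by_contra hcon
    push Not at hcon
    have hker : θ.ker ≤ (Subgroup.zpowers p).subgroupOf R := fun a ha =>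
      hcon a a.2 (congrArg Subtype.val (ha : a ^ 3 = 1))
    have h1 := Subgroup.card_le_of_le hrange
    have h2 := Subgroup.card_le_of_le hker
    have h := Subgroup.card_mul_index θ.ker
    rw [Subgroup.index_ker, hc] at h
    rw [Nat.card_congr (Subgroup.subgroupOfEquivOfLe (H := Subgroup.zpowers p)
      (Subgroup.zpowers_le.mpr hp)).toEquiv, Nat.card_zpowers, S.ord_p] at h1 h2
    have := Nat.mul_le_mul h2 h1
    omega
  by_cases hxP : x ∈ Subgroup.zpowers p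
  · exact hP3 hxP
  have := Fact.mk Nat.prime_three
  have hord : ∀ {a}, a ∈ R → a ∉ Subgroup.zpowers p → orderOf (S.img a) = 3 := fun ha haP =>
    orderOf_eq_prime (S.three_img_cube F hR hc hp ha)
      (fun h => haP ((S.three_ker hR hc hp ha).mp h))
  have hinn : ∀ {a}, a ∈ R → S.img a ∈ inn := fun ha =>
    (S.img_mem_inn F (hR ha)).mpr (S.kSub_le_inner (hK ha))
  obtain ⟨c, hc', hcx⟩ := F.conj_three _ (hinn hx0) _ (hinn hx) (hord hx0 hx0P.2)
    (hord hx hxP)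
  obtain ⟨k, hk, rfl⟩ := S.exists_lift F hc'
  have hk0 : k * x0 * k⁻¹ ∈ kSub z p := mul_mem (mul_mem hk (hK hx0)) (inv_mem hk)
  obtain ⟨i, hi⟩ := S.img_eq_modP hk0 (hK hx) (by
      rw [conj_pow, show x0 ^ 27 = (x0 ^ 3) ^ 9 by rw [← pow_mul], hx0P.1, one_pow, mul_one,
        mul_inv_cancel]) (pow_27 hc hx) (by
      rw [S.img_mul (mul_mem hk.1 (hR hx0)) (inv_mem hk.1), S.img_mul hk.1 (hR hx0),
        S.img_inv hk.1, hcx])
  rw [hi, ((mem_kSub.mp hk0).2.zpow_right i).mul_pow, conj_pow, hx0P.1, mul_one, mul_inv_cancel,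
    one_mul]
  exact hP3 (Subgroup.zpow_mem_zpowers p i)

end Three

end Setting

end Cfsg.Agent.Lib.J4Local
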