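import Cfsg.Agent.Lib.J4Local.RowsR
import Cfsg.Agent.Lib.J4Local.PairFive
import Cfsg.Agent.Lib.J4Local.FusionOuter

/-!
# A conjugate of `z` in `C(z) ∩ C(p)`: the element `p` seen from it
-/

set_option autoImplicit false
set_option linter.unusedSectionVars false
set_option linter.unusedVariables false

namespace Cfsg.Agent.Lib.J4Local

open Cfsg.Agent.Lib.LargeExtraspecial.Basic

variable {G : Type*} [Group G]

/-- An involution `t ≠ z` of `C(z) ∩ C(p)` with its own setting. -/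
structure At (z p t r : G) : Prop where
  tz : Commute t z
  tp : Commute t p
  tne : t ≠ z
  T : Setting t r

/-- `C_{O₂(C(t))}(p)`. -/
abbrev qFix (t p : G) : Subgroup G := Q t ⊓ cz p

theorem card_fixed_cube {V : Type*} [CommGroup V] [Finite V] (h2 : ∀ v : V, v * v = 1)
    (σ ρ γ : MulAut V) (hσ : ∀ v, σ (σ (σ v)) = v) (hρ : ∀ v, ρ (ρ (ρ v)) = v)
    (hfix : ∀ v, ρ v = v → v = 1) (hc : ∀ v, σ (ρ v) = ρ (σ v))
    (hγρ : ∀ v, γ (ρ v) = ρ (γ v)) (hγσ : ∀ v, γ (σ v) = σ (ρ (γ v))) :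
    Nat.card V = Nat.card {v : V // σ v = v} ^ 3 := by
  -- the three projections
  have h3 : ∀ v : V, v * v * v = v := fun v => by rw [h2, one_mul]
  let τ : MulAut V := σ * ρ
  let τ' : MulAut V := σ * ρ * ρ
  have hτ : ∀ v, τ v = σ (ρ v) := fun v => rfl
  have hτ' : ∀ v, τ' v = σ (ρ (ρ v)) := fun v => rfl
  have hτ3 : ∀ v, τ (τ (τ v)) = v := fun v => by simp only [hτ, hc, hρ, hσ]
  have hτ'3 : ∀ v, τ' (τ' (τ' v)) = v := fun v => by simp only [hτ', hc, hρ, hσ]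
  have hfixed : ∀ (f : MulAut V), (∀ v, f (f (f v)) = v) → ∀ v,
      f (v * f v * f (f v)) = v * f v * f (f v) := fun f hf v => by
    rw [map_mul, map_mul, hf, mul_comm (f v * f (f v)) v, mul_assoc v]
  -- a projection kills the other fixed spaces
  have hrho : ∀ w, w * ρ w * ρ (ρ w) = 1 := fun w => hfix _ (hfixed ρ hρ w)
  have hkill : ∀ (f : MulAut V), (∀ v, f (ρ v) = ρ (f v)) → ∀ w,
      (f w = ρ w ∨ f w = ρ (ρ w)) → w * f w * f (f w) = 1 := by
    intro f hf w hw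
    rcases hw with h | h
    · rw [h, hf, h]; exact hrho w
    · rw [h, hf, hf, h, hρ, mul_right_comm]; exact hrho w
  have hcτ : ∀ v, τ (ρ v) = ρ (τ v) := fun v => by simp only [hτ, hc]
  have hcτ' : ∀ v, τ' (ρ v) = ρ (τ' v) := fun v => by simp only [hτ', hc]
  have e1 : Nat.card {v : V // σ v = v} = Nat.card {v : V // τ v = v} := by
    refine Nat.card_congr ⟨fun v => ⟨γ v.1, ?_⟩, fun v => ⟨γ.symm v.1, ?_⟩, fun v => ?_, fun v => ?_⟩
    · rw [hτ, ← hγσ, v.2]
    · apply γ.injective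
      rw [hγσ, γ.apply_symm_apply, ← hτ, v.2]
    · exact Subtype.ext (γ.symm_apply_apply _)
    · exact Subtype.ext (γ.apply_symm_apply _)
  have e2 : Nat.card {v : V // τ v = v} = Nat.card {v : V // τ' v = v} := by
    refine Nat.card_congr ⟨fun v => ⟨γ v.1, ?_⟩, fun v => ⟨γ.symm v.1, ?_⟩, fun v => ?_, fun v => ?_⟩
    · rw [hτ', ← hγρ, ← hγσ, ← hτ, v.2]
    · apply γ.injective
      rw [hτ, hγσ, hγρ, γ.apply_symm_apply, ← hτ', v.2]
    · exact Subtype.ext (γ.symm_apply_apply _)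
    · exact Subtype.ext (γ.apply_symm_apply _)
  have hw1 : ∀ {w}, τ w = w → σ w = ρ (ρ w) := fun {w} h => by
    have h' : σ (ρ w) = w := h
    conv_rhs => rw [← h']
    rw [hc, hρ]
  have hw2 : ∀ {w}, τ' w = w → σ w = ρ w := fun {w} h => by
    have h' : σ (ρ (ρ w)) = w := h
    conv_rhs => rw [← h']
    rw [← hc, hρ]
  let e : V ≃ {v : V // σ v = v} × {v : V // τ v = v} × {v : V // τ' v = v} :=
    { toFun := fun v => (⟨v * σ v * σ (σ v), hfixed σ hσ v⟩, ⟨v * τ v * τ (τ v), hfixed τ hτ3 v⟩,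
        ⟨v * τ' v * τ' (τ' v), hfixed τ' hτ'3 v⟩)
      invFun := fun w => w.1.1 * w.2.1.1 * w.2.2.1
      left_inv := fun v => by
        show v * σ v * σ (σ v) * (v * τ v * τ (τ v)) * (v * τ' v * τ' (τ' v)) = v
        have a1 := hrho (σ v)
        have a2 := hrho (σ (σ v))
        have b2 : τ' (τ' v) = σ (σ (ρ v)) := by simp only [hτ', hc, hρ]
        have b1 : τ (τ v) = σ (σ (ρ (ρ v))) := by simp only [hτ, hc]
        rw [b1, b2, hτ, hτ']
        simp only [hc]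
        calc _ = v * v * v * (σ v * ρ (σ v) * ρ (ρ (σ v))) *
              (σ (σ v) * ρ (σ (σ v)) * ρ (ρ (σ (σ v)))) := by
              simp only [mul_comm, mul_left_comm, mul_assoc, hc]
          _ = v := by rw [a1, a2, h3, mul_one, mul_one]
      right_inv := by
        rintro ⟨⟨a, ha⟩, ⟨b, hb⟩, ⟨c, hc'⟩⟩
        have ka : ∀ (f : MulAut V), f a = a → a * f a * f (f a) = a := fun f h => by
          rw [h, h, h3]
        have kb : ∀ (f : MulAut V), f b = b → b * f b * f (f b) = b := fun f h => by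
          rw [h, h, h3]
        have kc : ∀ (f : MulAut V), f c = c → c * f c * f (f c) = c := fun f h => by
          rw [h, h, h3]
        have split : ∀ (f : MulAut V), a * b * c * f (a * b * c) * f (f (a * b * c)) =
            a * f a * f (f a) * (b * f b * f (f b)) * (c * f c * f (f c)) := fun f => by
          simp only [map_mul, mul_comm, mul_left_comm, mul_assoc]
        refine Prod.ext (Subtype.ext ?_) (Prod.ext (Subtype.ext ?_) (Subtype.ext ?_)) <;>
          show _ * _ * _ = _ <;> rw [split]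
        · rw [ka σ ha, hkill σ hc b (Or.inr (hw1 hb)), hkill σ hc c (Or.inl (hw2 hc')), mul_one,
            mul_one]
        · rw [kb τ hb, hkill τ hcτ a (Or.inl (by rw [hτ, hc, ha])),
            hkill τ hcτ c (Or.inr (by rw [hτ, hc, hw2 hc'])), one_mul, mul_one]
        · rw [kc τ' hc', hkill τ' hcτ' a (Or.inr (by rw [hτ', hc, hc, ha])),
            hkill τ' hcτ' b (Or.inl (by rw [hτ', hc, hc, hw1 hb, hρ])), one_mul, one_mul] }
  rw [Nat.card_congr e, Nat.card_prod, Nat.card_prod, ← e2, ← e1, pow_succ, sq]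
  ring

namespace Setting

variable [Finite G] {z p t r : G}

theorem at_facts (S : Setting z p) (A : At z p t r) :
    t ∈ kSub z p ∧ t ∉ Q z ∧ p ∈ cz t := by
  refine ⟨mem_kSub.mpr ⟨A.tz, A.tp⟩, fun h => ?_, mem_cz.mpr A.tp.symm⟩
  rcases S.fix t h A.tp with h' | h'
  · exact A.T.z_ne_one h'
  · exact A.tne h'

/-- `p` is not in the kernel at `t`. -/
theorem p_not_ker (S : Setting z p) (F : AutFacts) (A : At z p t r) : A.T.img p ≠ 1 := by
  intro h
  obtain ⟨htK, htQ, hpt⟩ := S.at_facts A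
  have T := A.T
  obtain ⟨f, hf, i, hfi⟩ := (T.img_eq_one hpt).mp h
  have hi : r ^ i ≠ 1 := fun h' => by
    rw [h', mul_one] at hfi
    have hp2 := T.pow_Q (hfi ▸ hf : p ∈ Q t)
    have hd := orderOf_dvd_of_pow_eq_one hp2
    rw [S.ord_p] at hd
    norm_num at hd
  have hC : ∀ a ∈ Q t, Commute a p → a = 1 ∨ a = t := by
    intro a ha hc
    by_contra hcon
    push Not at hcon
    refine hi (T.zpow_p_fix ha hcon.1 hcon.2 ?_)
    have h1 : r ^ i * a * (r ^ i)⁻¹ = f⁻¹ * a * f := by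
      calc r ^ i * a * (r ^ i)⁻¹ = f⁻¹ * (f * r ^ i * a * (f * r ^ i)⁻¹) * f := by group
        _ = f⁻¹ * a * f := by rw [← hfi, mul_inv_eq_iff_eq_mul.mpr hc.symm.eq]
    rw [h1]
    simpa using T.conj_eq_of_mem (inv_mem hf) ha
  have htc : t ∈ cz z := mem_cz.mpr A.tz
  have hinvC : ∀ {a}, a ∈ cQ z t → p * a * p⁻¹ ∈ cQ z t := fun {a} ha => by
    refine mem_cQ.mpr ⟨isQ.normal S.p_z (mem_cQ.mp ha).1, ?_⟩
    have h' := (mem_cQ.mp ha).2.map (MulAut.conj p)
    simp only [MulAut.conj_apply] at h'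
    rwa [mul_inv_eq_iff_eq_mul.mpr A.tp.symm.eq] at h'
  have hmem : ∀ a ∈ cQ z t, ∃ a' ∈ Q t, ModZ z a a' := by
    intro a ha
    have ha2 := hinvC ha
    have ha3 := hinvC ha2
    set b := p * a * p⁻¹ with hb
    set c := p * b * p⁻¹ with hc
    refine ⟨b * c⁻¹, ?_, ?_⟩
    · have hcz' : b * c⁻¹ ∈ cQ z t := mul_mem ha2 (inv_mem ha3)
      have k := fun h' => T.mem_Q_of_img_one (mem_cz.mpr (mem_cQ.mp hcz').2) h' (k := 13)
      have hbt : b ∈ cz t := mem_cz.mpr (mem_cQ.mp ha2).2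
      have himg : T.img (b * c⁻¹) = 1 := by
        rw [show b * c⁻¹ = b * (p * b⁻¹ * p⁻¹) by rw [hc]; group,
          T.img_mul hbt (mul_mem (mul_mem hpt (inv_mem hbt)) (inv_mem hpt)),
          T.img_mul (mul_mem hpt (inv_mem hbt)) (inv_mem hpt), T.img_mul hpt (inv_mem hbt),
          T.img_inv hpt, T.img_inv hbt, h]
        simp
      exact k himg (S.pow_Q (mem_cQ.mp hcz').1)
    · have haQ := (mem_cQ.mp ha).1
      have hbQ := (mem_cQ.mp ha2).1
      have hcQ := (mem_cQ.mp ha3).1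
      have hw : p * (a * b * c) * p⁻¹ = b * c * a := by
        rw [show p * (a * b * c) * p⁻¹ = p * a * p⁻¹ * (p * b * p⁻¹) * (p * c * p⁻¹) by group,
          ← hb, ← hc, show p * c * p⁻¹ = p ^ 3 * a * (p ^ 3)⁻¹ by
            rw [hc, hb, pow_succ, pow_two]; group, S.p_cube, one_mul, inv_one, mul_one]
      have hwQ : a * b * c ∈ Q z := mul_mem (mul_mem haQ hbQ) hcQ
      have hfix := S.fix_mod hwQ ((S.mk_eq_iff ⟨_, isQ.normal S.p_z hwQ⟩ ⟨_, hwQ⟩).mp (by
        rw [show (⟨p * (a * b * c) * p⁻¹, isQ.normal S.p_z hwQ⟩ : ↥(Q z)) =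
          ⟨b, hbQ⟩ * ⟨c, hcQ⟩ * ⟨a, haQ⟩ from Subtype.ext hw,
          show (⟨a * b * c, hwQ⟩ : ↥(Q z)) = ⟨a, haQ⟩ * ⟨b, hbQ⟩ * ⟨c, hcQ⟩ from rfl]
        simp only [mkV, QuotientGroup.mk_mul]
        rw [S.vec_comm, mul_assoc]))
      have hinv : ∀ x : Vec z, x⁻¹ = x := fun x => inv_eq_of_mul_eq_one_right (S.vec_sq x)
      refine (S.mk_eq_iff ⟨a, haQ⟩ ⟨b * c⁻¹, mul_mem hbQ (inv_mem hcQ)⟩).mp ?_
      have h1 : mkV z (⟨a, haQ⟩ * ⟨b, hbQ⟩ * ⟨c, hcQ⟩) = 1 := by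
        rw [QuotientGroup.eq_one_iff, S.mem_center]
        exact hfix
      rw [show (⟨b * c⁻¹, mul_mem hbQ (inv_mem hcQ)⟩ : ↥(Q z)) = ⟨b, hbQ⟩ * ⟨c, hcQ⟩⁻¹ from rfl]
      simp only [mkV, QuotientGroup.mk_mul, QuotientGroup.mk_inv] at h1 ⊢
      rw [mul_assoc] at h1
      rw [eq_inv_of_mul_eq_one_left h1, hinv, hinv]
  obtain ⟨a, ha, b, hb, hab⟩ : ∃ a ∈ cQ z t, ∃ b ∈ cQ z t, ¬ Commute a b := by
    by_contra hall
    push Not at hall
    have hle : cQ z t ≤ Q z ⊓ Subgroup.centralizer (cQ z t : Set G) := fun c hc' =>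
      ⟨(mem_cQ.mp hc').1, Subgroup.mem_centralizer_iff.mpr fun d hd => (hall d hd c hc').eq⟩
    have h1 := Nat.mul_le_mul_right (Nat.card ↥(cQ z t)) (Subgroup.card_le_of_le hle)
    rw [S.card_perp_cQ htc] at h1
    have h2 : t * t = 1 := T.z_sq
    have hY : 2 ^ 9 ≤ Nat.card ↥(ySub z t) := by
      rcases S.card_inner F (S.kSub_le_inner htK) h2 htQ with ⟨-, h'⟩ | ⟨-, h'⟩ <;> rw [h']
      norm_num
    have hC8 : 2 ^ 8 ≤ Nat.card ↥(cQ z t) := by
      rcases S.card_cQ htc with h' | ⟨h', -⟩ <;> omega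
    have := Nat.mul_le_mul hC8 hC8
    omega
  obtain ⟨a', ha', haa⟩ := hmem a ha
  obtain ⟨b', hb', hbb⟩ := hmem b hb
  have haz : Commute a z := S.es.comm a (mem_cQ.mp ha).1
  have hbz : Commute b z := S.es.comm b (mem_cQ.mp hb).1
  have hz : a * b * a⁻¹ * b⁻¹ = z := by
    rcases S.es.conj a (mem_cQ.mp ha).1 b (mem_cQ.mp hb).1 with h' | h'
    · exact absurd (mul_inv_eq_iff_eq_mul.mp h') hab
    · rw [h', hbz.eq, mul_inv_cancel_right]
  have heq : ∀ {x x' y : G}, ModZ z x x' → Commute y z →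
      x * y * x⁻¹ * y⁻¹ = x' * y * x'⁻¹ * y⁻¹ := by
    rintro x x' y (rfl | rfl) hy
    · rfl
    · calc x' * z * y * (x' * z)⁻¹ * y⁻¹ = x' * (z * y * z⁻¹) * x'⁻¹ * y⁻¹ := by group
        _ = _ := by rw [mul_inv_eq_iff_eq_mul.mpr hy.symm.eq]
  have hazc : Commute a' z := by
    rcases haa with rfl | h'
    · exact haz
    · have : a' = a * z := by rw [h', mul_assoc, S.z_sq, mul_one]
      rw [this]; exact haz.mul_left (Commute.refl z)
  have hzt : z ∈ Q t := by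
    rw [← hz, heq haa hbz, show a' * b * a'⁻¹ * b⁻¹ = (b * a' * b⁻¹ * a'⁻¹)⁻¹ by group,
      heq hbb hazc]
    exact inv_mem (mul_mem (mul_mem (mul_mem hb' ha') (inv_mem hb')) (inv_mem ha'))
  rcases hC z hzt S.p_z.symm with h' | h'
  · exact S.z_ne_one h'
  · exact A.tne h'.symm

/-- `z` is the only conjugate of itself under `C(p)` in `C(z)`. -/
theorem z_isolated (S : Setting z p) (F : AutFacts) {g : G} (hg : Commute g p)
    (hz : Commute (g * z * g⁻¹) z) : g * z * g⁻¹ = z := by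
  by_contra hne
  have hT : Setting (g * z * g⁻¹) p := by
    have := S.conj g
    rwa [show g * p * g⁻¹ = p by rw [hg.eq, mul_inv_cancel_right]] at this
  have htp : Commute (g * z * g⁻¹) p := hT.p_z.symm
  have A : At z p (g * z * g⁻¹) p := ⟨hz, htp, hne, hT⟩
  exact S.p_not_ker F A A.T.img_p

/-- An axis at `t` commuting with `p`, and an element moving `p` to `p r`. -/
theorem exists_axis (S : Setting z p) (F : AutFacts) (A : At z p t r) :
    ∃ r', At z p t r' ∧ Commute p r' ∧ (∃ g, Commute g t ∧ Commute g r' ∧ g * p * g⁻¹ = p * r') ∧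
      ∃ R : Subgroup G, R ≤ cz t ∧ Nat.card ↥R = 27 ∧ r' ∈ R ∧ p ∈ R := by
  have T := A.T
  obtain ⟨-, -, hpt⟩ := S.at_facts A
  obtain ⟨R, hR, hRc, hpR⟩ := T.exists_sylow_three F hpt ⟨1, by simpa using S.p_cube⟩
  obtain ⟨R0, hR0, hR0c, hrR0⟩ := T.exists_sylow_three F T.p_mem_cz ⟨1, by simpa using T.p_cube⟩
  obtain ⟨h, hh, hmap⟩ := T.conj_sylow_three F hR hR0 hRc hR0c
  have T' : Setting t (h * r * h⁻¹) := by
    have := T.conj h
    rwa [mul_inv_eq_iff_eq_mul.mpr (mem_cz.mp hh).eq] at this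
  set r' := h * r * h⁻¹ with hr'
  have A' : At z p t r' := ⟨A.tz, A.tp, A.tne, T'⟩
  have hrR : r' ∈ R := hmap r hrR0
  have hpr : Commute p r' := (mem_kSub.mp (T'.three_le_kSub hR hRc hrR hpR)).2
  have hpP : p ∉ Subgroup.zpowers r' := fun h' =>
    S.p_not_ker F A' ((T'.three_ker hR hRc hrR hpR).mpr h')
  obtain ⟨g, hg, hgp⟩ := T'.three_exists_conj F hR hRc hrR hpR hpP 1
  rw [zpow_one] at hgp
  obtain ⟨h1, h2⟩ := mem_kSub.mp (T'.three_le_kSub hR hRc hrR hg)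
  exact ⟨r', A', hpr, ⟨g, h1, h2, hgp⟩, R, hR, hRc, hrR, hpR⟩

theorem fixed_modZ (T : Setting t r) (hp : p ^ 3 = 1) (hpt : Commute p t) {a : G}
    (h : ModZ t (p * a * p⁻¹) a) : Commute a p := by
  rcases h with h | h
  · exact (mul_inv_eq_iff_eq_mul.mp h).symm
  · exfalso
    have hpt' : p * t * p⁻¹ = t := by rw [hpt.eq, mul_inv_cancel_right]
    have h2 : p * (a * t) * p⁻¹ = a := by
      calc p * (a * t) * p⁻¹ = p * a * p⁻¹ * (p * t * p⁻¹) := by group
        _ = a := by rw [h, hpt', mul_assoc, T.z_sq, mul_one]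
    have h3 : p * (p * (p * a * p⁻¹) * p⁻¹) * p⁻¹ = a := by
      calc p * (p * (p * a * p⁻¹) * p⁻¹) * p⁻¹ = p ^ 3 * a * (p ^ 3)⁻¹ := by
            rw [pow_succ, pow_two]; group
        _ = a := by rw [hp]; group
    rw [h, h2, h] at h3
    exact T.z_ne_one (by simpa using h3)

theorem qFix_card (S : Setting z p) (F : AutFacts) (A : At z p t r) (hpr : Commute p r)
    {g : G} (hgt : Commute g t) (hgr : Commute g r) (hgp : g * p * g⁻¹ = p * r) :
    Nat.card ↥(qFix t p) = 32 := by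
  have T := A.T
  obtain ⟨-, -, hpt⟩ := S.at_facts A
  letI : CommGroup (Vec t) := { (inferInstance : Group (Vec t)) with mul_comm := T.vec_comm }
  set P : ↥(cz t) := ⟨p, hpt⟩ with hP
  set R : ↥(cz t) := ⟨r, T.p_mem_cz⟩ with hR
  set Γ : ↥(cz t) := ⟨g, mem_cz.mpr hgt⟩ with hΓ
  have app : ∀ (x y : ↥(cz t)) (v : Vec t), act t x (act t y v) = act t (x * y) v := fun x y v => by
    rw [map_mul]; rfl
  have cube : ∀ (x : ↥(cz t)), x ^ 3 = 1 → ∀ v, act t x (act t x (act t x v)) = v := fun x hx v => by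
    rw [app, app, show x * x * x = x ^ 3 by rw [pow_succ, sq], hx, map_one, MulAut.one_apply]
  have h := card_fixed_cube T.vec_sq (act t P) (act t R) (act t Γ)
    (cube P (Subtype.ext S.p_cube)) (cube R (Subtype.ext T.p_cube))
    (fun v => QuotientGroup.induction_on v fun a ha => by
      rcases T.fix_mod a.2 ((T.mk_eq_iff _ _).mp ha) with h' | h'
      · rw [show a = 1 from Subtype.ext h']; rfl
      · rw [QuotientGroup.eq_one_iff, T.mem_center]; exact Or.inr h')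
    (fun v => by rw [app, app, show P * R = R * P from Subtype.ext hpr.eq])
    (fun v => by rw [app, app, show Γ * R = R * Γ from Subtype.ext hgr.eq])
    (fun v => by
      rw [app, app, app, show Γ * P = P * R * Γ from Subtype.ext (mul_inv_eq_iff_eq_mul.mp hgp),
        mul_assoc])
  rw [T.card_vec] at h
  have h16 : Nat.card {v : Vec t // act t P v = v} = 16 :=
    (Nat.pow_left_injective (by norm_num : 3 ≠ 0) (h.symm.trans (by norm_num) :
      _ ^ 3 = 16 ^ 3))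
  let m : ↥(qFix t p) →* Vec t :=
    (QuotientGroup.mk' _).comp (Subgroup.inclusion inf_le_left)
  have hrange : Nat.card ↥m.range = 16 := by
    rw [← h16]
    refine Nat.card_congr (Equiv.subtypeEquivRight fun v => ⟨?_, ?_⟩)
    · rintro ⟨a, rfl⟩
      refine (T.mk_eq_iff _ _).mpr (Or.inl ?_)
      exact mul_inv_eq_iff_eq_mul.mpr (mem_cz.mp a.2.2).symm.eq
    · induction v using QuotientGroup.induction_on with
      | H a =>
        intro ha
        exact ⟨⟨a, a.2, mem_cz.mpr (fixed_modZ T S.p_cube (mem_cz.mp hpt)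
          ((T.mk_eq_iff _ _).mp ha))⟩, rfl⟩
  have hker : Nat.card ↥m.ker = 2 := by
    have e : (m.ker : Set ↥(qFix t p)) = {1, ⟨t, T.es.mem, mem_cz.mpr A.tp⟩} := by
      ext x
      simp only [SetLike.mem_coe, MonoidHom.mem_ker, m, MonoidHom.comp_apply,
        QuotientGroup.mk'_apply, QuotientGroup.eq_one_iff, T.mem_center, Set.mem_insert_iff,
        Set.mem_singleton_iff, Subgroup.coe_inclusion]
      exact or_congr OneMemClass.coe_eq_one
        ⟨fun hh => Subtype.ext hh, fun hh => congrArg Subtype.val hh⟩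
    rw [← SetLike.coe_sort_coe, Nat.card_coe_set_eq, e,
      Set.ncard_pair fun hh => T.z_ne_one (congrArg Subtype.val hh).symm]
  have hc := Subgroup.card_mul_index m.ker
  rw [Subgroup.index_ker, hrange, hker] at hc
  exact hc.symm

theorem qFix_nonabelian (S : Setting z p) (A : At z p t r) (h32 : Nat.card ↥(qFix t p) = 32) :
    ∃ a ∈ qFix t p, ∃ b ∈ qFix t p, a * b * a⁻¹ * b⁻¹ = t := by
  have T := A.T
  obtain ⟨-, -, hpt⟩ := S.at_facts A
  by_contra hcon
  push Not at hcon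
  have habel : ∀ a ∈ qFix t p, ∀ b ∈ qFix t p, Commute a b := by
    intro a ha b hb
    rcases T.es.conj a ha.1 b hb.1 with h | h
    · exact mul_inv_eq_iff_eq_mul.mp h
    · exact absurd (by rw [h, T.z_comm hb.1, mul_inv_cancel_right]) (hcon a ha b hb)
  obtain ⟨v, hv, hv1, hvt⟩ : ∃ v ∈ qFix t p, v ≠ 1 ∧ v ≠ t := by
    by_contra h
    push Not at h
    have hsub : (qFix t p : Set G) ⊆ {1, t} := fun v hv => by
      by_cases h1 : v = 1
      · exact Or.inl h1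
      · exact Or.inr (h v hv h1)
    have := Set.ncard_le_ncard hsub
    rw [Set.ncard_pair (Ne.symm T.z_ne_one), ← Nat.card_coe_set_eq, SetLike.coe_sort_coe, h32]
      at this
    omega
  refine (T.es.center v hv.1 fun a ha => ?_).elim hv1 hvt
  have hpt' := mem_cz.mp hpt
  have ha2 : p * a * p⁻¹ ∈ Q t := isQ.normal hpt' ha
  have ha3 : p * (p * a * p⁻¹) * p⁻¹ ∈ Q t := isQ.normal hpt' ha2
  have hvp : p * v * p⁻¹ = v := mul_inv_eq_iff_eq_mul.mpr (mem_cz.mp hv.2).symm.eq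
  have hchi : ∀ x, chi v (p * x * p⁻¹) = chi v x := fun x => by
    conv_lhs => rw [← hvp]
    exact chi_conj p v x
  set w := a * (p * a * p⁻¹) * (p * (p * a * p⁻¹) * p⁻¹) with hw
  have hwQ : w ∈ Q t := mul_mem (mul_mem ha ha2) ha3
  have hwfix : Commute w p := by
    refine fixed_modZ T S.p_cube hpt' ?_
    have e : p * w * p⁻¹ = p * a * p⁻¹ * (p * (p * a * p⁻¹) * p⁻¹) * a := by
      calc p * w * p⁻¹ = p * a * p⁻¹ * (p * (p * a * p⁻¹) * p⁻¹) * (p ^ 3 * a * (p ^ 3)⁻¹) := by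
            rw [hw, pow_succ, pow_two]; group
        _ = _ := by rw [S.p_cube]; group
    rw [e]
    rcases T.es.conj (p * a * p⁻¹ * (p * (p * a * p⁻¹) * p⁻¹)) (mul_mem ha2 ha3) a ha with h | h
    · left
      rw [mul_inv_eq_iff_eq_mul.mp h, hw]
      group
    · right
      rw [mul_inv_eq_iff_eq_mul.mp h, mul_assoc a t, ← T.z_comm (mul_mem ha2 ha3), hw]
      simp only [mul_assoc]
  have h0 : chi v w = 0 := chi_eq_zero.mpr (habel v hv w ⟨hwQ, mem_cz.mpr hwfix⟩)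
  rw [hw, T.es.chi_mul_right hv.1 (mul_mem ha ha2) ha3, T.es.chi_mul_right hv.1 ha ha2, hchi, hchi,
    CharTwo.add_self_eq_zero, zero_add, hchi] at h0
  exact (chi_eq_zero.mp h0).symm

/-- `|C(t) ∩ C(p)|` divides `2^8 · 9`. -/
theorem card_cent_dvd (S : Setting z p) (F : AutFacts) (A : At z p t r) (hpr : Commute p r)
    (h32 : Nat.card ↥(qFix t p) = 32) {R : Subgroup G} (hR : R ≤ cz t)
    (hRc : Nat.card ↥R = 27) (hrR : r ∈ R) :
    Nat.card ↥(cz t ⊓ cz p) ∣ 2 ^ 8 * 9 := by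
  have := Fact.mk Nat.prime_three
  have T := A.T
  obtain ⟨-, -, hpt⟩ := S.at_facts A
  have hy : orderOf (T.img p) = 3 :=
    orderOf_eq_prime (by rw [← T.img_pow hpt, S.p_cube, T.img_Q (one_mem _)]) (S.p_not_ker F A)
  set C := cz t ⊓ cz p with hC
  let m : ↥C →* AutM22 := T.phi.comp (Subgroup.inclusion inf_le_left)
  have hrange : m.range ≤ Subgroup.centralizer ({T.img p} : Set AutM22) := by
    rintro _ ⟨x, rfl⟩
    rw [mem_centralizer_single, show m x = T.img x from (T.img_of_mem x.2.1).symm]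
    show T.img (x : G) * T.img p = T.img p * T.img x
    rw [← T.img_mul x.2.1 hpt, ← T.img_mul hpt x.2.1, (mem_cz.mp x.2.2).eq]
  have hker : Nat.card ↥m.ker = 96 := by
    have hrC : r ∈ C := ⟨T.p_mem_cz, mem_cz.mpr hpr.symm⟩
    have hQC : qFix t p ≤ C := inf_le_inf_right _ (Q_le_cz t)
    let f : ↥(qFix t p) × ↥(Subgroup.zpowers r) → ↥m.ker := fun x =>
      ⟨⟨x.1 * x.2, mul_mem (hQC x.1.2) (Subgroup.zpowers_le.mpr hrC x.2.2)⟩, by
        obtain ⟨i, hi⟩ := Subgroup.mem_zpowers_iff.mp x.2.2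
        exact (T.phi_eq_one _).mpr ⟨x.1, x.1.2.1, i, by rw [hi]; rfl⟩⟩
    have hinj : Function.Injective f := by
      rintro ⟨a, b⟩ ⟨c, d⟩ hh
      have hh' : (a : G) * b = c * d := congrArg (fun y : ↥m.ker => (y.1 : G)) hh
      have h1 : ((c : G)⁻¹ * a) = d * (b : G)⁻¹ := by
        rw [eq_mul_inv_iff_mul_eq, mul_assoc, hh', inv_mul_cancel_left]
      obtain ⟨i, hi⟩ := Subgroup.mem_zpowers_iff.mp
        (mul_mem d.2 (inv_mem b.2) : (d : G) * (b : G)⁻¹ ∈ Subgroup.zpowers r)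
      have hone : (c : G)⁻¹ * a = 1 := by
        rw [h1, ← hi]
        exact T.zpow_mem_Q (by rw [hi, ← h1]; exact mul_mem (inv_mem c.2.1) a.2.1)
      have e1 : a = c := Subtype.ext (inv_mul_eq_one.mp hone).symm
      have e2 : b = d := Subtype.ext (mul_inv_eq_one.mp (h1.symm.trans hone)).symm
      rw [e1, e2]
    have hsurj : Function.Surjective f := by
      rintro ⟨⟨h, hh⟩, hk⟩
      obtain ⟨e, he, i, hi⟩ := (T.phi_eq_one _).mp hk
      have hi' : h = e * r ^ i := hi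
      have hep : e ∈ cz p := by
        have := (cz p).mul_mem (Subgroup.mem_inf.mp hh).2 ((cz p).inv_mem ((cz p).zpow_mem (mem_cz.mpr hpr.symm : r ∈ cz p) i))
        rwa [hi', mul_inv_cancel_right] at this
      exact ⟨(⟨e, he, hep⟩, ⟨r ^ i, Subgroup.zpow_mem_zpowers r i⟩),
        Subtype.ext (Subtype.ext hi'.symm)⟩
    rw [← Nat.card_eq_of_bijective f ⟨hinj, hsurj⟩, Nat.card_prod, h32, Nat.card_zpowers, T.ord_p]
  have hd : Nat.card ↥C ∣ 2 ^ 8 * 27 := by
    have h := Subgroup.card_mul_index m.ker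
    rw [Subgroup.index_ker, hker] at h
    rw [← h, show 2 ^ 8 * 27 = 96 * 72 by norm_num]
    exact Nat.mul_dvd_mul_left _ ((F.cent_three _ hy).1 ▸ Subgroup.card_dvd_of_le hrange)
  have hn27 : ¬ 27 ∣ Nat.card ↥C := by
    intro h27
    have hpC : p ∈ C := ⟨hpt, mem_cz.mpr (Commute.refl p)⟩
    obtain ⟨P, hP⟩ := (IsPGroup.of_card (p := 3) (n := 1)
      (by rw [Nat.card_zpowers, Subgroup.orderOf_mk, S.ord_p, pow_one]) :
        IsPGroup 3 ↥(Subgroup.zpowers (⟨p, hpC⟩ : ↥C))).exists_le_sylow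
    obtain ⟨k, hk⟩ := P.2.exists_card_eq
    have h3k : 3 ^ 3 ∣ Nat.card ↥(P : Subgroup ↥C) :=
      P.pow_dvd_card_of_pow_dvd_card (by simpa using h27)
    have hle : Nat.card ↥(P : Subgroup ↥C) ∣ 2 ^ 8 * 27 :=
      (Subgroup.card_subgroup_dvd_card _).trans hd
    rw [hk] at h3k hle
    have hk3 : k ≤ 3 := by
      by_contra hlt
      push Not at hlt
      have h4 := (Nat.pow_dvd_pow 3 hlt).trans hle
      norm_num at h4
    have hk3' : 3 ≤ k := (Nat.pow_dvd_pow_iff_le_right (by norm_num : 1 < 3)).mp h3k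
    set R2 := (P : Subgroup ↥C).map C.subtype with hR2
    have hR2c : Nat.card ↥R2 = 27 := by
      rw [hR2, Subgroup.card_map_of_injective (Subgroup.subtype_injective _), hk,
        show k = 3 by omega]
      norm_num
    have hR2t : R2 ≤ cz t := (Subgroup.map_subtype_le _).trans inf_le_left
    have hpR2 : p ∈ R2 := ⟨⟨p, hpC⟩, hP (Subgroup.mem_zpowers _), rfl⟩
    have hR2p : ∀ y ∈ R2, Commute y p := fun y hy => mem_cz.mp (Subgroup.map_subtype_le _ hy).2
    obtain ⟨h, hh, hmap⟩ := T.conj_sylow_three F hR hR2t hRc hR2c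
    obtain ⟨h', hh', hmap'⟩ : ∃ h', h' ∈ cz t ∧ ∀ y ∈ R, h * p * h⁻¹ * y = y * (h * p * h⁻¹) := by
      refine ⟨h, hh, fun y hy => ?_⟩
      have hsurj : R ≤ R2.map (MulAut.conj h).toMonoidHom := by
        refine le_of_eq (Subgroup.eq_of_le_of_card_ge ?_ ?_).symm
        · rintro _ ⟨x, hx, rfl⟩; exact hmap x hx
        · rw [Subgroup.card_map_of_injective (MulAut.conj h).injective, hR2c, hRc]
      obtain ⟨x, hx, rfl⟩ := hsurj hy
      exact ((hR2p x hx).symm.map (MulAut.conj h)).eq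
    have hmemP := T.three_centre F hR hRc hrR (hmap p hpR2) hmap'
    have himg := (T.three_ker hR hRc hrR (hmap p hpR2)).mpr hmemP
    rw [T.img_mul (mul_mem hh hpt) (inv_mem hh), T.img_mul hh hpt, T.img_inv hh,
      conj_eq_one_iff] at himg
    exact S.p_not_ker F A himg
  obtain ⟨d1, d2, hd1, hd2, hdd⟩ := Nat.dvd_mul.mp hd
  rw [← hdd]
  refine Nat.mul_dvd_mul hd1 ?_
  obtain ⟨j, hj, rfl⟩ := (Nat.dvd_prime_pow Nat.prime_three).mp (show d2 ∣ 3 ^ 3 by simpa using hd2)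
  have : j ≠ 3 := fun hj3 => hn27 (by rw [← hdd, hj3]; exact Dvd.intro_left d1 rfl)
  rw [show (9 : ℕ) = 3 ^ 2 by norm_num]
  exact Nat.pow_dvd_pow 3 (by omega)

/-- `C_K(t)`: order, and it is the whole `C(t) ∩ C(p)` unless `t ~ t z`. -/
theorem card_ck (S : Setting z p) (F : AutFacts) (A : At z p t r) :
    2 ^ 7 * 9 ∣ Nat.card ↥(kSub z p ⊓ cz t) ∧
    (z ∉ ⁅kSub z p, kSub z p⁆ → Nat.card ↥(kSub z p ⊓ cz t) = 2 ^ 8 * 9) := by
  classical
  obtain ⟨htK, htQ, hpt⟩ := S.at_facts A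
  set K := kSub z p with hK
  have htc : t ∈ cz z := mem_cz.mpr A.tz
  have ht2 : t * t = 1 := A.T.z_sq
  set a := S.img t with ha
  have hainn : a ∈ inn := (S.img_mem_inn F htc).mpr (S.kSub_le_inner htK)
  have haord : orderOf a = 2 :=
    orderOf_eq_prime (by rw [sq, ← S.img_mul htc htc, ht2, S.img_Q (one_mem _)])
      (S.img_ne_one htc ht2 htQ)
  set X0 : Subgroup ↥K := (Subgroup.centralizer ({a} : Set AutM22)).comap S.kHom with hX0
  have hX0card : Nat.card ↥X0 = 6 * 384 := by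
    let m := S.kHom.comp X0.subtype
    have hr : m.range = inn ⊓ Subgroup.centralizer ({a} : Set AutM22) := by
      ext b
      constructor
      · rintro ⟨x, rfl⟩
        exact ⟨(S.kHom_range F).le ⟨_, rfl⟩, x.2⟩
      · rintro ⟨hb, hb'⟩
        obtain ⟨k, rfl⟩ := (S.kHom_range F).ge hb
        exact ⟨⟨k, hb'⟩, rfl⟩
    have hle : S.kHom.ker ≤ X0 := fun x hx => by
      rw [hX0, Subgroup.mem_comap, MonoidHom.mem_ker.mp hx]
      exact one_mem _
    have hk : Nat.card ↥m.ker = 6 := by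
      rw [← S.card_kHom_ker]
      exact Nat.card_congr (Subgroup.subgroupOfEquivOfLe hle).toEquiv
    have h := Subgroup.card_mul_index m.ker
    rw [Subgroup.index_ker, hr, F.cent_involution a hainn haord, hk] at h
    exact h.symm
  set X := X0.map K.subtype with hX
  have hXcard : Nat.card ↥X = 6 * 384 := by
    rw [hX, Subgroup.card_map_of_injective (Subgroup.subtype_injective _), hX0card]
  have hCX : K ⊓ cz t ≤ X := fun x hx => by
    refine ⟨⟨x, hx.1⟩, ?_, rfl⟩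
    show S.kHom ⟨x, hx.1⟩ ∈ Subgroup.centralizer ({a} : Set AutM22)
    rw [S.kHom_apply, mem_centralizer_single]
    show S.img x * a = a * S.img x
    rw [ha, ← S.img_mul hx.1.1 htc, ← S.img_mul htc hx.1.1, (mem_cz.mp hx.2).eq]
  have hXt : ∀ x ∈ X, x ∈ K ∧ (x * t * x⁻¹ = t ∨ x * t * x⁻¹ = t * z) := by
    rintro _ ⟨⟨x, hxK⟩, hx, rfl⟩
    refine ⟨hxK, ?_⟩
    show x * t * x⁻¹ = t ∨ x * t * x⁻¹ = t * z
    have hx' : S.img x * a = a * S.img x := by
      have := mem_centralizer_single.mp (Subgroup.mem_comap.mp hx)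
      rw [S.kHom_apply] at this
      exact this
    have hconj : x * t * x⁻¹ ∈ K := mul_mem (mul_mem hxK htK) (inv_mem hxK)
    obtain ⟨i, hi⟩ := S.ker_kSub (mul_mem (inv_mem htK) hconj) (by
      rw [S.img_mul (inv_mem htc) hconj.1, S.img_inv htc,
        S.img_mul (mul_mem hxK.1 htc) (inv_mem hxK.1), S.img_mul hxK.1 htc, S.img_inv hxK.1,
        ← ha, hx', mul_inv_cancel_right, inv_mul_cancel])
    have hsq : x * t * x⁻¹ * (x * t * x⁻¹) = 1 := by
      rw [show x * t * x⁻¹ * (x * t * x⁻¹) = x * (t * t) * x⁻¹ by group, ht2]; group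
    have hpi : ∀ {w : G}, Commute w (p ^ i) → w * w = 1 → w * p ^ i * (w * p ^ i) = 1 →
        p ^ i = 1 := by
      intro w hw hw2 h
      rw [hw.symm.mul_mul_mul_comm, hw2, one_mul, ← zpow_add] at h
      rcases S.p_zpow_cases i with hc | hc | hc
      · exact hc
      all_goals
        exfalso
        have hne : p ≠ 1 := fun h' => by simpa [h'] using S.ord_p
        have h2' : p ^ i * p ^ i = 1 := by rw [← zpow_add]; exact h
        rw [hc] at h2'
        refine hne ?_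
      · calc p = p ^ 3 * (p * p)⁻¹ := by rw [pow_succ, pow_two]; group
          _ = 1 := by rw [S.p_cube, h2', inv_one, mul_one]
      · calc p = p * p * (p * p) * (p ^ 3)⁻¹ := by rw [pow_succ, pow_two]; group
          _ = 1 := by rw [S.p_cube, h2', inv_one, mul_one]
    have htpi : Commute t (p ^ i) := A.tp.zpow_right i
    rcases hi with hi | hi
    · left
      rw [inv_mul_eq_iff_eq_mul.mp hi] at hsq ⊢
      rw [hpi htpi ht2 hsq, mul_one]
    · right
      rw [inv_mul_eq_iff_eq_mul.mp hi, ← mul_assoc t z] at hsq ⊢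
      rw [hpi (htpi.mul_left (S.p_z.symm.zpow_right i)) (by
        rw [A.tz.symm.mul_mul_mul_comm, ht2, S.z_sq, one_mul]) hsq, mul_one]
  constructor
  · have hidx : ((K ⊓ cz t).subgroupOf X).index ≤ 2 := by
      by_cases hall : X ≤ K ⊓ cz t
      · rw [Subgroup.subgroupOf_eq_top.mpr hall, Subgroup.index_top]; omega
      · obtain ⟨b, hb, hbc⟩ := SetLike.not_le_iff_exists.mp hall
        refine le_of_eq ?_
        rw [Subgroup.index_eq_two_iff]
        refine ⟨⟨b, hb⟩, fun x => ?_⟩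
        simp only [Subgroup.mem_subgroupOf, Subgroup.coe_mul]
        by_cases hx : (x : G) ∈ K ⊓ cz t
        · exact Or.inr ⟨hx, fun hh => hbc ((Subgroup.mul_mem_cancel_left _ hx).mp hh)⟩
        · refine Or.inl ⟨⟨mul_mem (hXt _ x.2).1 (hXt _ hb).1, mem_cz.mpr ?_⟩, hx⟩
          have hb' := (hXt _ hb).2.resolve_left fun h => hbc
            ⟨(hXt _ hb).1, mem_cz.mpr (mul_inv_eq_iff_eq_mul.mp h)⟩
          have hx' := (hXt _ x.2).2.resolve_left fun h => hx
            ⟨(hXt _ x.2).1, mem_cz.mpr (mul_inv_eq_iff_eq_mul.mp h)⟩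
          refine mul_inv_eq_iff_eq_mul.mp ?_
          calc (x : G) * b * t * ((x : G) * b)⁻¹ = x * (b * t * b⁻¹) * (x : G)⁻¹ := by group
            _ = x * t * (x : G)⁻¹ * (x * z * (x : G)⁻¹) := by rw [hb']; group
            _ = t := by
              rw [hx', mul_inv_eq_iff_eq_mul.mpr (mem_kSub.mp (hXt _ x.2).1).1.eq, mul_assoc,
                S.z_sq, mul_one]
    have h := Subgroup.card_mul_index ((K ⊓ cz t).subgroupOf X)
    rw [Nat.card_congr (Subgroup.subgroupOfEquivOfLe hCX).toEquiv, hXcard] at h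
    have h0 : ((K ⊓ cz t).subgroupOf X).index ≠ 0 := Subgroup.index_ne_zero_of_finite
    rcases (show ((K ⊓ cz t).subgroupOf X).index = 1 ∨ ((K ⊓ cz t).subgroupOf X).index = 2 by
      omega) with h' | h' <;> rw [h'] at h
    · exact ⟨2, by omega⟩
    · exact ⟨1, by omega⟩
  · intro hz
    have hXC : X ≤ K ⊓ cz t := fun x hx => by
      obtain ⟨hxK, h | h⟩ := hXt x hx
      · exact ⟨hxK, mem_cz.mpr (mul_inv_eq_iff_eq_mul.mp h)⟩
      · refine absurd ?_ hz
        have : t⁻¹ * x * t⁻¹⁻¹ * x⁻¹ = z := by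
          rw [show t⁻¹ * x * t⁻¹⁻¹ * x⁻¹ = t⁻¹ * (x * t * x⁻¹) by group, h, inv_mul_cancel_left]
        rw [← this]
        exact Subgroup.commutator_mem_commutator (inv_mem htK) hxK
    rw [le_antisymm hCX hXC, hXcard]
    norm_num

/-- `z` lies in the derived group of `C(z) ∩ C(p)`. -/
theorem z_mem_derived (S : Setting z p) (F : AutFacts) (A : At z p t r) :
    z ∈ ⁅kSub z p, kSub z p⁆ := by
  classical
  obtain ⟨r', A', hpr, ⟨g, hgt, hgr, hgp⟩, R, hR, hRc, hrR, hpR⟩ := S.exists_axis F A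
  obtain ⟨htK, -, hpt⟩ := S.at_facts A'
  have T := A'.T
  set M := ⁅kSub z p, kSub z p⁆ with hM
  by_contra hz
  have h32 := S.qFix_card F A' hpr hgt hgr hgp
  have hdvd := S.card_cent_dvd F A' hpr h32 hR hRc hrR
  have hle : kSub z p ⊓ cz t ≤ cz t ⊓ cz p := fun x hx => ⟨hx.2, hx.1.2⟩
  have hfull : kSub z p ⊓ cz t = cz t ⊓ cz p := Subgroup.eq_of_le_of_card_ge hle (by
    rw [(S.card_ck F A').2 hz]
    exact Nat.le_of_dvd (by norm_num) hdvd)
  have hCK : cz t ⊓ cz p ≤ kSub z p := hfull.ge.trans inf_le_left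
  have hQC : qFix t p ≤ cz t ⊓ cz p := inf_le_inf_right _ (Q_le_cz t)
  have hQK : qFix t p ≤ kSub z p := hQC.trans hCK
  have hrK : r' ∈ kSub z p := hCK ⟨T.p_mem_cz, mem_cz.mpr hpr.symm⟩
  have htM : t ∈ M := by
    obtain ⟨a, ha, b, hb, hab⟩ := S.qFix_nonabelian A' h32
    exact hab ▸ Subgroup.commutator_mem_commutator (hQK ha) (hQK hb)
  have hQM : qFix t p ≤ M := by
    intro a ha
    have hrp : r' * p * r'⁻¹ = p := mul_inv_eq_iff_eq_mul.mpr hpr.symm.eq
    have hin : ∀ {x}, x ∈ qFix t p → r' * x * r'⁻¹ ∈ qFix t p := fun {x} hx => by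
      refine ⟨isQ.normal T.p_z hx.1, mem_cz.mpr ?_⟩
      have h := (mem_cz.mp hx.2).map (MulAut.conj r')
      simp only [MulAut.conj_apply] at h
      rwa [hrp] at h
    have hb := hin ha
    have hc := hin hb
    set b := r' * a * r'⁻¹ with hbd
    set c := r' * b * r'⁻¹ with hcd
    have hbc : b * c⁻¹ ∈ M := by
      rw [show b * c⁻¹ = b * r' * b⁻¹ * r'⁻¹ by rw [hcd]; group]
      exact Subgroup.commutator_mem_commutator (hQK hb) hrK
    have hmz : ModZ t a (b * c⁻¹) := by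
      have hw : r' * (a * b * c) * r'⁻¹ = b * c * a := by
        rw [show r' * (a * b * c) * r'⁻¹ = r' * a * r'⁻¹ * (r' * b * r'⁻¹) * (r' * c * r'⁻¹) by
          group, ← hbd, ← hcd, show r' * c * r'⁻¹ = r' ^ 3 * a * (r' ^ 3)⁻¹ by
            rw [hcd, hbd, pow_succ, pow_two]; group, T.p_cube, one_mul, inv_one, mul_one]
      have hwQ : a * b * c ∈ Q t := mul_mem (mul_mem ha.1 hb.1) hc.1
      have hfix := T.fix_mod hwQ ((T.mk_eq_iff ⟨_, isQ.normal T.p_z hwQ⟩ ⟨_, hwQ⟩).mp (by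
        rw [show (⟨r' * (a * b * c) * r'⁻¹, isQ.normal T.p_z hwQ⟩ : ↥(Q t)) =
          ⟨b, hb.1⟩ * ⟨c, hc.1⟩ * ⟨a, ha.1⟩ from Subtype.ext hw,
          show (⟨a * b * c, hwQ⟩ : ↥(Q t)) = ⟨a, ha.1⟩ * ⟨b, hb.1⟩ * ⟨c, hc.1⟩ from rfl]
        simp only [mkV, QuotientGroup.mk_mul]
        rw [T.vec_comm, mul_assoc]))
      have hinv : ∀ x : Vec t, x⁻¹ = x := fun x => inv_eq_of_mul_eq_one_right (T.vec_sq x)
      refine (T.mk_eq_iff ⟨a, ha.1⟩ ⟨b * c⁻¹, mul_mem hb.1 (inv_mem hc.1)⟩).mp ?_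
      have h1 : mkV t (⟨a, ha.1⟩ * ⟨b, hb.1⟩ * ⟨c, hc.1⟩) = 1 := by
        rw [QuotientGroup.eq_one_iff, T.mem_center]
        exact hfix
      rw [show (⟨b * c⁻¹, mul_mem hb.1 (inv_mem hc.1)⟩ : ↥(Q t)) = ⟨b, hb.1⟩ * ⟨c, hc.1⟩⁻¹ from rfl]
      simp only [mkV, QuotientGroup.mk_mul, QuotientGroup.mk_inv] at h1 ⊢
      rw [mul_assoc] at h1
      rw [eq_inv_of_mul_eq_one_left h1, hinv, hinv]
    rcases hmz with h | h <;> rw [h]
    exacts [hbc, mul_mem hbc htM]
  -- a Sylow 2-subgroup of `C(t) ∩ C(p)`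
  have := Fact.mk Nat.prime_two
  set C := cz t ⊓ cz p with hCdef
  have hCcard : Nat.card ↥C = 2 ^ 8 * 9 := by rw [← hfull, (S.card_ck F A').2 hz]
  obtain ⟨P, hP⟩ := (IsPGroup.of_card (p := 2) (n := 5) (by
    rw [Nat.card_congr (Subgroup.subgroupOfEquivOfLe hQC).toEquiv, h32]; norm_num) :
      IsPGroup 2 ↥((qFix t p).subgroupOf C)).exists_le_sylow
  have hPcard : Nat.card ↥(P : Subgroup ↥C) = 256 := by
    obtain ⟨k, hk⟩ := P.2.exists_card_eq
    have hdv := Subgroup.card_subgroup_dvd_card (P : Subgroup ↥C)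
    have h8 : 2 ^ 8 ∣ Nat.card ↥(P : Subgroup ↥C) :=
      P.pow_dvd_card_of_pow_dvd_card (by rw [hCcard]; exact dvd_mul_right _ _)
    rw [hk] at h8 hdv
    rw [hCcard] at hdv
    have hk8 : k ≤ 8 := by
      by_contra hlt
      push Not at hlt
      have := (Nat.pow_dvd_pow 2 hlt).trans hdv
      norm_num at this
    have hk8' : 8 ≤ k := (Nat.pow_dvd_pow_iff_le_right (by norm_num : 1 < 2)).mp h8
    rw [hk, show k = 8 by omega]
    norm_num
  set S2 := (P : Subgroup ↥C).map C.subtype with hS2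
  have hS2C : S2 ≤ C := Subgroup.map_subtype_le _
  have hS2t : S2 ≤ cz t := hS2C.trans inf_le_left
  have hS2card : Nat.card ↥S2 = 256 := by
    rw [hS2, Subgroup.card_map_of_injective (Subgroup.subtype_injective _), hPcard]
  have hQS : qFix t p ≤ S2 := fun x hx => ⟨⟨x, hQC hx⟩, hP hx, rfl⟩
  have hzC : z ∈ C := hfull ▸ ⟨S.z_mem_kSub, mem_cz.mpr A'.tz.symm⟩
  have hzS : z ∈ S2 := by
    refine ⟨⟨z, hzC⟩, ?_, rfl⟩
    obtain ⟨P', hP'⟩ := (IsPGroup.of_card (p := 2) (n := 1)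
      (by rw [Nat.card_zpowers, Subgroup.orderOf_mk, S.ord_z, pow_one]) :
        IsPGroup 2 ↥(Subgroup.zpowers (⟨z, hzC⟩ : ↥C))).exists_le_sylow
    obtain ⟨c, hc⟩ := MulAction.exists_smul_eq ↥C P' P
    have h2 : c * ⟨z, hzC⟩ * c⁻¹ ∈ ((c • P' : Sylow 2 ↥C) : Subgroup ↥C) :=
      Subgroup.smul_mem_pointwise_smul (⟨z, hzC⟩ : ↥C) (MulAut.conj c) _
        (hP' (Subgroup.mem_zpowers _))
    rw [hc, show c * ⟨z, hzC⟩ * c⁻¹ = (⟨z, hzC⟩ : ↥C) from Subtype.ext
      (mul_inv_eq_iff_eq_mul.mpr (mem_kSub.mp (hCK c.2)).1.eq)] at h2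
    exact h2
  have hS2p : IsPGroup 2 ↥S2 := IsPGroup.of_card (n := 8) (by rw [hS2card]; norm_num)
  have him := T.card_imgS hS2t hS2p
  have hinf : S2 ⊓ Q t = qFix t p := le_antisymm (fun x hx => ⟨hx.2, (hS2C hx.1).2⟩)
    (le_inf hQS inf_le_left)
  rw [hinf, h32, hS2card] at him
  have hy : orderOf (T.img p) = 3 := by
    have := Fact.mk Nat.prime_three
    exact orderOf_eq_prime (by rw [← T.img_pow hpt, S.p_cube, T.img_Q (one_mem _)])
      (S.p_not_ker F A')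
  have hcent : T.imgS S2 ≤ Subgroup.centralizer ({T.img p} : Set AutM22) := by
    intro a ha
    obtain ⟨x, hx, rfl⟩ := (T.mem_imgS hS2t).mp ha
    rw [mem_centralizer_single]
    show T.img x * T.img p = T.img p * T.img x
    rw [← T.img_mul (hS2t hx) hpt, ← T.img_mul hpt (hS2t hx), (mem_cz.mp (hS2C hx).2).eq]
  have hzimg : T.img z ∈ centreIn (T.imgS S2) := by
    refine ⟨(T.mem_imgS hS2t).mpr ⟨z, hzS, rfl⟩, Subgroup.mem_centralizer_iff.mpr ?_⟩
    intro a ha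
    obtain ⟨x, hx, rfl⟩ := (T.mem_imgS hS2t).mp ha
    rw [← T.img_mul (hS2t hzS) (hS2t hx), ← T.img_mul (hS2t hx) (hS2t hzS),
      (mem_kSub.mp (hCK (hS2C hx))).1.eq]
  have hder := F.cent_three_two _ hy (T.imgS S2) hcent (by omega) hzimg
  rw [imgS, ← Subgroup.map_commutator] at hder
  obtain ⟨w, hw, hwz⟩ := hder
  have hwS : (w : G) ∈ ⁅S2, S2⁆ := by
    have h := Subgroup.mem_map_of_mem (cz t).subtype hw
    rw [Subgroup.map_commutator, Subgroup.subgroupOf_map_subtype, inf_eq_left.mpr hS2t] at h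
    exact h
  have hwM : (w : G) ∈ M := Subgroup.commutator_mono (hS2C.trans hCK) (hS2C.trans hCK) hwS
  have hwS2 : (w : G) ∈ S2 := Subgroup.commutator_le.mpr
    (fun a ha b hb => mul_mem (mul_mem (mul_mem ha hb) (inv_mem ha)) (inv_mem hb)) hwS
  have hk1 : T.img ((w : G)⁻¹ * z) = 1 := by
    rw [T.img_mul (inv_mem w.2) (hS2t hzS), T.img_inv w.2, T.img_of_mem w.2, hwz, inv_mul_cancel]
  have hkS : (w : G)⁻¹ * z ∈ S2 := mul_mem (inv_mem hwS2) hzS
  obtain ⟨j, hj⟩ := hS2p ⟨_, hkS⟩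
  have hkQ : (w : G)⁻¹ * z ∈ qFix t p :=
    ⟨T.mem_Q_of_img_one (hS2t hkS) hk1 (congrArg Subtype.val hj), (hS2C hkS).2⟩
  exact hz (by simpa using mul_mem hwM (hQM hkQ))

end Setting

end Cfsg.Agent.Lib.J4Local
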