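import Cfsg.Prelude.Def_JankoFourType
import Cfsg.Agent.Lib.LargeExtraspecial.Basic
import Cfsg.Agent.Lib.J4Local.Facts

/-!
# The Janko-four type hypothesis in elementwise form
-/

set_option autoImplicit false

namespace Cfsg.Agent.Lib.J4Local

open Cfsg.Agent.Lib.LargeExtraspecial.Basic

variable {G : Type*} [Group G]

/-- The largest normal 2-subgroup of the centralizer. -/
abbrev Q (x : G) : Subgroup G := Cfsg.twoCoreOfCentralizer x

/-- The centralizer of an element. -/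
abbrev cz (x : G) : Subgroup G := Subgroup.centralizer ({x} : Set G)

theorem isQ : IsQ (Q : G → Subgroup G) := fun _ => rfl

theorem mem_cz {x c : G} : c ∈ cz x ↔ Commute c x := mem_centralizer_single

theorem Q_le_cz (x : G) : Q x ≤ cz x := fun _ h => mem_cz.mpr (isQ.commute h)

/-- Janko-four type at `z`, with `p` a generator of the subgroup of order three. -/
structure Setting (z p : G) : Prop where
  ord_z : orderOf z = 2
  es : ES (Q z) z
  card_E : Nat.card ↥(Q z) = 2 ^ 13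
  self_centralizing : ∀ c, Commute c z → (∀ e ∈ Q z, Commute e c) → c ∈ Q z
  ord_p : orderOf p = 3
  p_z : Commute p z
  fix : ∀ e ∈ Q z, Commute e p → e = 1 ∨ e = z
  exists_phi : ∃ φ : ↥(cz z) →* AutM22, Function.Surjective φ ∧
    ∀ h : ↥(cz z), φ h = 1 ↔ ∃ e ∈ Q z, ∃ i : ℤ, (h : G) = e * p ^ i
  moves : ∃ h, Commute h z ∧ h * p * h⁻¹ = p⁻¹
  derived : p ∈ ⁅cz z ⊓ cz p, cz z ⊓ cz p⁆

theorem two_three {a : G} {n : ℕ} (h2 : a ^ n = 1) (hn : ∃ k, n = 2 ^ k) {p : G} (hp : orderOf p = 3)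
    {i : ℤ} (h : a = p ^ i) : a = 1 := by
  obtain ⟨k, rfl⟩ := hn
  have h3 : a ^ 3 = 1 := by
    rw [h, ← zpow_natCast, ← zpow_mul, mul_comm, zpow_mul, zpow_natCast, ← hp, pow_orderOf_eq_one,
      one_zpow]
  have := orderOf_dvd_of_pow_eq_one h2
  have h3' := orderOf_dvd_of_pow_eq_one h3
  have : orderOf a ∣ 1 := by
    have hc : Nat.Coprime (2 ^ k) 3 := Nat.Coprime.pow_left k (by norm_num)
    exact hc ▸ Nat.dvd_gcd this h3'
  exact orderOf_eq_one_iff.mp (Nat.dvd_one.mp this)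

theorem Setting.of_with [Finite G] {z : G} {P : Subgroup G}
    (hJ : Cfsg.IsOfJankoFourTypeWith z P) : ∃ p, P = Subgroup.zpowers p ∧ Setting z p := by
  obtain ⟨hz, hE, hcard, hself, ⟨N, hEN, hNH, hnorm, hNc, ⟨hn, ⟨iso⟩⟩, hPN⟩, hP, hfix, hne, hder⟩ := hJ
  have := Fact.mk Nat.prime_three
  obtain ⟨⟨p, hpP⟩, hp⟩ := exists_prime_orderOf_dvd_card' (G := ↥P) 3 (dvd_of_eq hP.symm)
  rw [Subgroup.orderOf_mk] at hp
  have hPeq : P = Subgroup.zpowers p := by
    refine (Subgroup.eq_of_le_of_card_ge (Subgroup.zpowers_le.mpr hpP) ?_).symm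
    rw [hP, Nat.card_zpowers, hp]
  have hes : ES (Q z) z := es_base isQ hz hE
  have hcz : cz z ⊓ cz p = Subgroup.centralizer ({z} : Set G) ⊓ Subgroup.centralizer (P : Set G) := by
    rw [hPeq, Subgroup.zpowers_eq_closure, Subgroup.centralizer_closure]
  have hpz : Commute p z := mem_cz.mp (hNH (hPN hpP))
  have hmemN : ∀ h : G, h ∈ N ↔ ∃ e ∈ Q z, ∃ i : ℤ, h = e * p ^ i := by
    let f : ↥(Q z) × ↥(Subgroup.zpowers p) → ↥N := fun x =>
      ⟨x.1 * x.2, mul_mem (hEN x.1.2) ((Subgroup.zpowers_le.mpr (hPN hpP)) x.2.2)⟩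
    have hinj : Function.Injective f := by
      rintro ⟨a, b⟩ ⟨c, d⟩ hh
      have hh' : (a : G) * b = c * d := congrArg Subtype.val hh
      have h1 : ((c : G)⁻¹ * a) = d * (b : G)⁻¹ := by
        rw [eq_mul_inv_iff_mul_eq, mul_assoc, hh', inv_mul_cancel_left]
      obtain ⟨i, hi⟩ := Subgroup.mem_zpowers_iff.mp
        (mul_mem d.2 (inv_mem b.2) : (d : G) * (b : G)⁻¹ ∈ Subgroup.zpowers p)
      have hpow : ((c : G)⁻¹ * a) ^ 2 ^ 13 = 1 := by
        have := pow_card_eq_one' (x := (⟨(c : G)⁻¹ * a, mul_mem (inv_mem c.2) a.2⟩ : ↥(Q z)))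
        rw [hcard] at this
        exact congrArg Subtype.val this
      have hone := two_three hpow ⟨13, rfl⟩ hp (h1.trans hi.symm)
      have e1 : a = c := Subtype.ext (inv_mul_eq_one.mp hone).symm
      have e2 : b = d := Subtype.ext (by
        have := h1.symm.trans hone
        exact (mul_inv_eq_one.mp this).symm)
      rw [e1, e2]
    have hsurj : Function.Surjective f := by
      refine (hinj.bijective_of_nat_card_le (le_of_eq ?_)).2
      rw [Nat.card_prod, Nat.card_zpowers, hp, hNc, mul_comm]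
    intro h
    constructor
    · intro hh
      obtain ⟨⟨a, b⟩, hab⟩ := hsurj ⟨h, hh⟩
      obtain ⟨i, hi⟩ := Subgroup.mem_zpowers_iff.mp b.2
      refine ⟨a, a.2, i, ?_⟩
      rw [hi]
      exact (congrArg Subtype.val hab).symm
    · rintro ⟨e, he, i, rfl⟩
      exact mul_mem (hEN he) (zpow_mem (hPN hpP) i)
  refine ⟨p, hPeq, ⟨hz, hes, hcard, ?_, hp, hpz, ?_, ?_, ?_, ?_⟩⟩
  · intro c hc hall
    exact hself ⟨mem_cz.mpr hc, Subgroup.mem_centralizer_iff.mpr fun e he => (hall e he).eq⟩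
  · intro e he hc
    have hmem : e ∈ Cfsg.twoCoreOfCentralizer z ⊓ Subgroup.centralizer (P : Set G) := by
      refine ⟨he, ?_⟩
      rw [hPeq, Subgroup.zpowers_eq_closure, Subgroup.centralizer_closure]
      exact mem_cz.mpr hc
    rw [hfix] at hmem
    obtain ⟨k, rfl⟩ := Subgroup.mem_zpowers_iff.mp hmem
    have h2 : z ^ (2 : ℤ) = 1 := by
      rw [show (2 : ℤ) = ((2 : ℕ) : ℤ) from rfl, zpow_natCast, ← hz, pow_orderOf_eq_one]
    rcases Int.even_or_odd' k with ⟨m, rfl | rfl⟩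
    · exact Or.inl (by rw [zpow_mul, h2, one_zpow])
    · exact Or.inr (by rw [zpow_add, zpow_mul, h2, one_zpow, one_mul, zpow_one])
  · refine ⟨iso.toMonoidHom.comp (QuotientGroup.mk' (N.subgroupOf (cz z))),
      iso.surjective.comp (QuotientGroup.mk'_surjective _), fun h => ?_⟩
    rw [← hmemN]
    simp only [MonoidHom.comp_apply, MulEquiv.coe_toMonoidHom, map_eq_one_iff iso iso.injective,
      QuotientGroup.mk'_apply, QuotientGroup.eq_one_iff, Subgroup.mem_subgroupOf]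
  · by_contra hcon
    push Not at hcon
    refine hne (le_antisymm ?_ (inf_le_inf_left _ (Subgroup.centralizer_le_normalizer _)))
    rintro x ⟨hx1, hx2⟩
    refine ⟨hx1, ?_⟩
    have hxp : x * p * x⁻¹ ∈ Subgroup.zpowers p := by
      rw [← hPeq]
      exact (Subgroup.mem_normalizer_iff.mp hx2 p).mp hpP
    obtain ⟨k, hk⟩ := Subgroup.mem_zpowers_iff.mp hxp
    have h3 : p ^ (3 : ℤ) = 1 := by
      rw [show (3 : ℤ) = ((3 : ℕ) : ℤ) from rfl, zpow_natCast, ← hp, pow_orderOf_eq_one]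
    have hk3 : p ^ k = p ^ (k % 3) := by
      conv_lhs => rw [← Int.emod_add_mul_ediv k 3, zpow_add, zpow_mul, h3, one_zpow, mul_one]
    have hr : k % 3 = 0 ∨ k % 3 = 1 ∨ k % 3 = 2 := by omega
    rw [hPeq, Subgroup.zpowers_eq_closure, Subgroup.centralizer_closure]
    rcases hr with hr | hr | hr <;> rw [hk3, hr] at hk
    · have hp1 : p = 1 := by
        calc p = x⁻¹ * (x * p * x⁻¹) * x := by group
          _ = 1 := by rw [← hk, zpow_zero]; group
      rw [hp1, orderOf_one] at hp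
      norm_num at hp
    · exact mem_cz.mpr (mul_inv_eq_iff_eq_mul.mp (by simpa using hk.symm))
    · refine absurd ?_ (hcon x (mem_cz.mp hx1))
      rw [← hk, eq_inv_iff_mul_eq_one, ← zpow_add_one]
      exact h3
  · have := hder (hpP)
    rwa [← hcz] at this

theorem Setting.of_at [Finite G] {z : G} (hJ : Cfsg.IsOfJankoFourTypeAt z) :
    ∃ p, Setting z p := by
  obtain ⟨P, hP⟩ := hJ
  obtain ⟨p, -, hp⟩ := Setting.of_with hP
  exact ⟨p, hp⟩

namespace Setting

variable {z p : G}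

/-- Transport by conjugation. -/
theorem conj (S : Setting z p) (g : G) : Setting (g * z * g⁻¹) (g * p * g⁻¹) := by
  have back : ∀ {x : G}, Commute x (g * z * g⁻¹) → Commute (g⁻¹ * x * g) z := fun {x} hx => by
    simpa [mul_assoc] using hx.map (MulAut.conj g⁻¹)
  have backQ : ∀ {x : G}, x ∈ Q (g * z * g⁻¹) → g⁻¹ * x * g ∈ Q z := fun {x} hx => by
    simpa [mul_assoc] using isQ.mem_conj g⁻¹ hx
  refine ⟨?_, es_conj isQ S.es g, ?_, ?_, ?_, ?_, ?_, ?_, ?_, ?_⟩
  · exact (MulEquiv.orderOf_eq (MulAut.conj g) z).trans S.ord_z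
  · rw [← S.card_E]
    exact Nat.card_congr
      { toFun := fun x => ⟨g⁻¹ * x * g, backQ x.2⟩
        invFun := fun x => ⟨g * x * g⁻¹, isQ.mem_conj g x.2⟩
        left_inv := fun x => Subtype.ext (by dsimp; group)
        right_inv := fun x => Subtype.ext (by dsimp; group) }
  · intro c hc hall
    have := S.self_centralizing _ (back hc) fun e he => by
      simpa [mul_assoc] using (hall _ (isQ.mem_conj g he)).map (MulAut.conj g⁻¹)
    simpa [mul_assoc] using isQ.mem_conj g this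
  · exact (MulEquiv.orderOf_eq (MulAut.conj g) p).trans S.ord_p
  · exact S.p_z.map (MulAut.conj g)
  · intro e he hc
    rcases S.fix _ (backQ he) (by simpa [mul_assoc] using hc.map (MulAut.conj g⁻¹)) with h | h
    · left
      calc e = g * (g⁻¹ * e * g) * g⁻¹ := by group
        _ = 1 := by rw [h]; group
    · right
      calc e = g * (g⁻¹ * e * g) * g⁻¹ := by group
        _ = g * z * g⁻¹ := by rw [h]
  · obtain ⟨φ, hφ, hker⟩ := S.exists_phi
    let c : ↥(cz (g * z * g⁻¹)) →* ↥(cz z) :=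
      { toFun := fun x => ⟨g⁻¹ * x * g, mem_cz.mpr (back (mem_cz.mp x.2))⟩
        map_one' := Subtype.ext (by simp)
        map_mul' := fun a b => Subtype.ext (by simp [mul_assoc]) }
    refine ⟨φ.comp c, fun a => ?_, fun h => ?_⟩
    · obtain ⟨x, rfl⟩ := hφ a
      refine ⟨⟨g * x * g⁻¹, mem_cz.mpr ((mem_cz.mp x.2).map (MulAut.conj g))⟩, ?_⟩
      exact congrArg φ (Subtype.ext (by simp [c, mul_assoc]))
    · rw [MonoidHom.comp_apply, hker]
      constructor
      · rintro ⟨e, he, i, hh⟩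
        refine ⟨g * e * g⁻¹, isQ.mem_conj g he, i, ?_⟩
        rw [conj_zpow]
        have hh' : g⁻¹ * (h : G) * g = e * p ^ i := hh
        calc (h : G) = g * (g⁻¹ * h * g) * g⁻¹ := by group
          _ = _ := by rw [hh']; group
      · rintro ⟨e, he, i, hh⟩
        refine ⟨g⁻¹ * e * g, backQ he, i, ?_⟩
        show g⁻¹ * (h : G) * g = _
        rw [hh, conj_zpow]
        group
  · obtain ⟨h, hz, hh⟩ := S.moves
    refine ⟨g * h * g⁻¹, hz.map (MulAut.conj g), ?_⟩
    calc g * h * g⁻¹ * (g * p * g⁻¹) * (g * h * g⁻¹)⁻¹ = g * (h * p * h⁻¹) * g⁻¹ := by group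
      _ = _ := by rw [hh, conj_inv]
  · have hm := Subgroup.mem_map_of_mem (MulAut.conj g).toMonoidHom S.derived
    rw [Subgroup.map_commutator] at hm
    refine Subgroup.commutator_mono ?_ ?_ hm <;>
    · rintro _ ⟨x, ⟨h1, h2⟩, rfl⟩
      exact ⟨mem_cz.mpr ((mem_cz.mp h1).map (MulAut.conj g)),
        mem_cz.mpr ((mem_cz.mp h2).map (MulAut.conj g))⟩

end Setting

end Cfsg.Agent.Lib.J4Local
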