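import Cfsg.Agent.Lib.J4Local.PairT

/-!
# Conjugates of `z` in `E ∩ E_e` when no involution of `C(z) ∩ C(p)` other than `z` is conjugate to `z`
-/

set_option autoImplicit false
set_option linter.unusedSectionVars false
set_option linter.unusedVariables false

namespace Cfsg.Agent.Lib.J4Local

open Cfsg.Agent.Lib.LargeExtraspecial.Basic

variable {G : Type*} [Group G]

/-- No element of `C(z) ∩ C(p)` other than `z` is conjugate to `z`. -/
def NoZero (z p : G) : Prop := ∀ t, Commute t z → Commute t p → IsConj z t → t = z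

theorem NoZero.conj {z p : G} (h : NoZero z p) (g : G) :
    NoZero (g * z * g⁻¹) (g * p * g⁻¹) := by
  intro t h1 h2 h3
  have e := h (g⁻¹ * t * g) (by simpa [mul_assoc] using h1.map (MulAut.conj g⁻¹))
    (by simpa [mul_assoc] using h2.map (MulAut.conj g⁻¹))
    ((isConj_iff.mpr ⟨g, rfl⟩ : IsConj z (g * z * g⁻¹)).trans
      (h3.trans (isConj_iff.mpr ⟨g⁻¹, by group⟩)))
  calc t = g * (g⁻¹ * t * g) * g⁻¹ := by group
    _ = g * z * g⁻¹ := by rw [e]

theorem inner_conj {z p u : G} (g : G) (h : u ∈ inner z p) :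
    g * u * g⁻¹ ∈ inner (g * z * g⁻¹) (g * p * g⁻¹) := by
  refine ⟨h.1.map (MulAut.conj g), ?_⟩
  rw [show g * u * g⁻¹ * (g * p * g⁻¹) * (g * u * g⁻¹)⁻¹ * (g * p * g⁻¹)⁻¹ =
    g * (u * p * u⁻¹ * p⁻¹) * g⁻¹ by group]
  exact isQ.mem_conj g h.2

theorem line_conj {z p e h : G} {l : G} (hl : l ∈ line z p e) :
    h * l * h⁻¹ ∈ line (h * z * h⁻¹) (h * p * h⁻¹) (h * e * h⁻¹) := by
  have hle : line z p e ≤
      (line (h * z * h⁻¹) (h * p * h⁻¹) (h * e * h⁻¹)).comap (MulAut.conj h).toMonoidHom := by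
    rw [line, Subgroup.closure_le]
    intro w hw
    rw [SetLike.mem_coe, Subgroup.mem_comap, MulEquiv.coe_toMonoidHom, MulAut.conj_apply]
    rcases hw with rfl | rfl | rfl
    · exact z_mem_line _ _ _
    · exact e_mem_line _ _ _
    · rw [show h * (p * e * p⁻¹) * h⁻¹ = h * p * h⁻¹ * (h * e * h⁻¹) * (h * p * h⁻¹)⁻¹ by group]
      exact pe_mem_line _ _ _
  exact hle hl

theorem mem_closure_two {a b : G} (ha : a * a = 1) (hb : b * b = 1) (hab : b * a = a * b) {w : G}
    (hw : w ∈ Subgroup.closure ({a, b} : Set G)) : w = 1 ∨ w = a ∨ w = b ∨ w = a * b := by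
  have ha' : ∀ x, a * (a * x) = x := fun x => by rw [← mul_assoc, ha, one_mul]
  have hb' : ∀ x, b * (b * x) = x := fun x => by rw [← mul_assoc, hb, one_mul]
  have hab' : ∀ x, b * (a * x) = a * (b * x) := fun x => by rw [← mul_assoc, hab, mul_assoc]
  induction hw using Subgroup.closure_induction with
  | mem w hw => rcases hw with rfl | rfl <;> simp
  | one => simp
  | mul x y _ _ hx hy =>
    rcases hx with rfl | rfl | rfl | rfl <;> rcases hy with rfl | rfl | rfl | rfl <;>
      simp [mul_assoc, ha, hb, hab, ha', hb', hab']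
  | inv x _ hx =>
    rcases hx with rfl | rfl | rfl | rfl <;>
      simp [inv_eq_of_mul_eq_one_right ha, inv_eq_of_mul_eq_one_right hb, hab]

theorem mem_closure_three {a b y : G} (ha : a * a = 1) (hb : b * b = 1) (hab : b * a = a * b)
    (hy : y * y = 1) (hya : y * a = a * y) (hyb : y * b = b * y) {w : G}
    (hw : w ∈ Subgroup.closure ({a, b, y} : Set G)) :
    w ∈ Subgroup.closure ({a, b} : Set G) ∨ y * w ∈ Subgroup.closure ({a, b} : Set G) := by
  have hc : ∀ v ∈ Subgroup.closure ({a, b} : Set G), y * v = v * y := by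
    intro v hv
    rcases mem_closure_two ha hb hab hv with rfl | rfl | rfl | rfl
    exacts [by simp, hya, hyb, by rw [← mul_assoc, hya, mul_assoc, hyb, mul_assoc]]
  have hy' : ∀ x, y * (y * x) = x := fun x => by rw [← mul_assoc, hy, one_mul]
  induction hw using Subgroup.closure_induction with
  | mem w hw =>
    rcases hw with rfl | rfl | rfl
    exacts [Or.inl (Subgroup.subset_closure (by simp)), Or.inl (Subgroup.subset_closure (by simp)),
      Or.inr (by rw [hy]; exact one_mem _)]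
  | one => exact Or.inl (one_mem _)
  | mul u v _ _ hu hv =>
    rcases hu with hu | hu <;> rcases hv with hv | hv
    · exact Or.inl (mul_mem hu hv)
    · exact Or.inr (by rw [← mul_assoc, hc u hu, mul_assoc]; exact mul_mem hu hv)
    · exact Or.inr (by rw [← mul_assoc]; exact mul_mem hu hv)
    · refine Or.inl ?_
      have h := hc _ hu
      rw [hy'] at h
      rw [h, mul_assoc]
      exact mul_mem hu hv
  | inv u _ hu =>
    rcases hu with hu | hu
    · exact Or.inl (inv_mem hu)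
    · refine Or.inr ?_
      have h := hc _ (inv_mem hu)
      rw [mul_inv_rev, inv_eq_of_mul_eq_one_right hy, mul_assoc, hy, mul_one] at h
      rw [← h, ← mul_assoc y, ← mul_assoc, hy, one_mul]
      simpa [mul_inv_rev, inv_eq_of_mul_eq_one_right hy] using inv_mem hu

namespace Setting

variable [Finite G] {z p e q : G}

theorem line_invariant (S : Setting z p) (F : AutFacts) (T : Setting e q) (he : e ∈ Q z)
    (hne : e ≠ z) {x : G} (hx : x ∈ line z p e) : p * x * p⁻¹ ∈ line z p e := by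
  rw [← S.mSub_eq_line F T he hne] at hx ⊢
  exact S.mSub_invariant F T he hne hx

/-- Any centre in the line, other than `z`, defines the same line. -/
theorem line_eq_of_mem (S : Setting z p) (F : AutFacts) (T : Setting e q) (he : e ∈ Q z)
    (hne : e ≠ z) {x r : G} (X : Setting x r) (hx : x ∈ line z p e) (hxz : x ≠ z) :
    line z p x = line z p e := by
  have hxQ : x ∈ Q z := ((S.line_le_inter F T he hne) hx).1
  refine Subgroup.eq_of_le_of_card_ge ?_
    (le_of_eq ((S.card_line F T he hne).trans (S.card_line F X hxQ hxz).symm))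
  rw [line, Subgroup.closure_le]
  rintro w (rfl | rfl | rfl)
  exacts [z_mem_line _ _ _, hx, S.line_invariant F T he hne hx]

theorem isConj_mul_z (S : Setting z p) {x : G} (hx : x ∈ Q z) (h1 : x ≠ 1) (hz : x ≠ z) :
    IsConj x (x * z) := by
  obtain ⟨f, -, hf⟩ := S.es.exists_conj_ne hx h1 hz
  exact isConj_iff.mpr ⟨f, hf⟩

/-- `t * a` for `a` in `[E, t]`. -/
theorem isConj_mul_aSub (S : Setting z p) {t a : G} (ht : t ∈ cz z) (h2 : t * t = 1)
    (ha : a ∈ aSub z t) : IsConj t (t * a) ∨ IsConj (t * z) (t * a) := by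
  obtain ⟨f, hf, h | h⟩ := (S.mem_aSub ht).mp ha
  · left
    obtain ⟨g, -, hg⟩ := isConj_of_inS (z := z) h2 ⟨f, hf, rfl⟩
    exact isConj_iff.mpr ⟨g, by rw [hg, h]⟩
  · right
    obtain ⟨g, hg1, hg⟩ := isConj_of_inS (z := z) h2 ⟨f, hf, rfl⟩
    refine isConj_iff.mpr ⟨g, ?_⟩
    calc g * (t * z) * g⁻¹ = g * t * g⁻¹ * (g * z * g⁻¹) := by group
      _ = t * (t * f * t⁻¹ * f⁻¹) * (g * z * g⁻¹) := by rw [hg]
      _ = _ := by rw [S.z_comm hg1, mul_inv_cancel_right, h, mul_assoc t]

/-- A point of `T` conjugate to `z` lies on the line. -/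
theorem tSub_class (S : Setting z p) (F : AutFacts) (T : Setting e q) (he : e ∈ Q z)
    (hne : e ≠ z) (htri : Tri p e) (hn : NoZero z p) {x : G} (hx : x ∈ tSub p e)
    (hc : IsConj z x) : x ∈ line z p e := by
  by_contra hxL
  have hxQ : x ∉ Q z := fun h => hxL (S.tSub_inf F T he hne ▸ ⟨hx, h⟩)
  obtain ⟨t, ht, htx⟩ := (S.fSub_spec F T he hne htri).2 x (S.tSub_le_xSub F T he hne hx)
  have htT : t ∈ tSub p e := ht.1
  have htQ : t ∉ Q z := fun h => hxQ (by simpa using mul_mem h htx.1)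
  have hl : t⁻¹ * x ∈ line z p e := by
    have h := Subgroup.mem_inf.mpr ⟨mul_mem (inv_mem htT) hx, htx.1⟩
    rwa [S.tSub_inf F T he hne] at h
  have htX := S.tSub_le_xSub F T he hne htT
  have htz : Commute t z := (mem_xSub.mp htX).1.2
  have htp : Commute t p := mem_cz.mp ht.2
  have hla := S.line_le_aSub F T he hne htX htQ hl
  have h2 := S.tSub_sq F T he hne htT
  rcases S.isConj_mul_aSub (mem_cz.mpr htz) h2 hla with h | h <;> rw [mul_inv_cancel_left] at h
  · exact htQ (by rw [hn t htz htp (hc.trans h.symm)]; exact S.es.mem)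
  · have hz2 := hn (t * z) (htz.mul_left (Commute.refl z)) (htp.mul_left S.p_z.symm)
      (hc.trans h.symm)
    have ht1 : t = 1 := by simpa using hz2
    exact htQ (ht1 ▸ one_mem _)

theorem exists_move_line (S : Setting z p) (F : AutFacts) {c r y : G} (C : Setting c r)
    (Z : z ∈ Q c) (hzc : z ≠ c) {L : Subgroup G} (hL : L ≤ Q c) (hcL : c ∈ L) (hzL : z ∈ L)
    (hy : y ∈ L) (h8 : Nat.card ↥L = 8)
    (hgen : L ≤ Subgroup.closure {z, c, y}) : ∃ h ∈ Q c, Commute h z ∧ h * y * h⁻¹ = y * c := by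
  by_contra hcon
  push Not at hcon
  have hle : cQ c z ≤ Q c ⊓ Subgroup.centralizer (L : Set G) := by
    intro h hh
    obtain ⟨hhc, hhz⟩ := mem_cQ.mp hh
    have hhy : Commute h y := mul_inv_eq_iff_eq_mul.mp
      ((C.es.conj h hhc y (hL hy)).resolve_right (hcon h hhc hhz))
    refine ⟨hhc, Subgroup.mem_centralizer_iff.mpr fun l hl => ?_⟩
    have hl' : l ∈ cz h := by
      refine (Subgroup.closure_le (cz h)).mpr ?_ (hgen hl)
      rintro w (rfl | rfl | rfl)
      exacts [mem_cz.mpr hhz.symm, mem_cz.mpr (isQ.commute hhc).symm, mem_cz.mpr hhy.symm]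
    exact (mem_cz.mp hl').eq
  have hp := ESCount.card_perp C.es hL hcL
  rw [C.card_E, h8] at hp
  have := Subgroup.card_le_of_le hle
  rw [C.card_cQ_self S Z hzc] at this
  omega

/-- A point of `E ∩ E_e` conjugate to `z` lies on the line. -/
theorem inter_class (S : Setting z p) (F : AutFacts) (hn : NoZero z p) {g : G}
    (he : g * z * g⁻¹ ∈ Q z) (hne : g * z * g⁻¹ ≠ z) {x : G}
    (hx : x ∈ Q z ⊓ Q (g * z * g⁻¹)) (hc : IsConj z x) : x ∈ line z p (g * z * g⁻¹) := by
  set e := g * z * g⁻¹ with hedef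
  have T : Setting e (g * p * g⁻¹) := S.conj g
  set c := p * e * p⁻¹ with hcdef
  set r := p * (g * p * g⁻¹) * p⁻¹ with hrdef
  have C : Setting c r := T.conj p
  have hnC : NoZero c r := (hn.conj g).conj p
  have hzc0 : IsConj z c :=
    (isConj_iff.mpr ⟨g, rfl⟩ : IsConj z e).trans (isConj_iff.mpr ⟨p, rfl⟩)
  have hcL : c ∈ line z p e := pe_mem_line z p e
  have hcz : c ≠ z := fun h => hne (mul_left_cancel (mul_right_cancel
    (h.trans (by rw [S.p_z.eq, mul_inv_cancel_right]) : c = p * z * p⁻¹)))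
  have hcQ : c ∈ Q z := ((S.line_le_inter F T he hne) hcL).1
  have hzQc : z ∈ Q c := S.mem_swap F C hcQ hcz
  set L := line z p e with hLdef
  have hL1 : line c r z = L := (S.line_symm F C hcQ hcz).trans (S.line_eq_of_mem F T he hne C hcL hcz)
  have hLc : L ≤ Q c := hL1 ▸ (C.line_le_inter F S hzQc hcz.symm).trans inf_le_left
  obtain ⟨f, hf, htri⟩ := C.exists_tri F S hzQc hcz.symm
  set z' := f * z * f⁻¹ with hz'def
  have Z' : Setting z' (f * p * f⁻¹) := S.conj f
  have hcc : f * c * f⁻¹ = c := mul_inv_eq_iff_eq_mul.mpr (isQ.commute hf).eq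
  have hfL : ∀ {l}, l ∈ L → f * l * f⁻¹ ∈ L := by
    intro l hl
    rcases C.es.conj f hf l (hLc hl) with h | h <;> rw [h]
    exacts [hl, mul_mem hl hcL]
  have hfL' : ∀ {l}, l ∈ L → f⁻¹ * l * f ∈ L := by
    intro l hl
    rcases C.es.conj f⁻¹ (inv_mem hf) l (hLc hl) with h | h <;> rw [inv_inv] at h <;> rw [h]
    exacts [hl, mul_mem hl hcL]
  have hz'L : z' ∈ L := hfL (z_mem_line z p e)
  have hz'c : z' ≠ c := fun h => hcz.symm (mul_left_cancel (mul_right_cancel (h.trans hcc.symm)))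
  have hz'Q : z' ∈ Q c := hLc hz'L
  have hLz' : line c r z' = L :=
    (C.line_eq_of_mem F S hzQc hcz.symm Z' (hL1.symm ▸ hz'L) hz'c).trans hL1
  set y := f⁻¹ * (r * z' * r⁻¹) * f with hydef
  have hyL : y ∈ L := hfL' (hLz' ▸ pe_mem_line c r z')
  -- the property
  let R : G → Prop := fun w => ∀ x ∈ Q z ⊓ Q w, IsConj z x → x ∈ L
  have hRy : R y := by
    intro x hx hc'
    have h1 : f * x * f⁻¹ ∈ tSub r z' := by
      refine ⟨isQ.mem_conj f hx.1, ?_⟩
      have := isQ.mem_conj f hx.2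
      rwa [show f * y * f⁻¹ = r * z' * r⁻¹ by rw [hydef]; group] at this
    have h2 : IsConj c (f * x * f⁻¹) :=
      hzc0.symm.trans (hc'.trans (isConj_iff.mpr ⟨f, rfl⟩))
    have h3 := C.tSub_class F Z' hz'Q hz'c htri hnC h1 h2
    rw [hLz'] at h3
    have h4 := hfL' h3
    rwa [show f⁻¹ * (f * x * f⁻¹) * f = x by group] at h4
  have hmove : ∀ {w h : G}, R w → Commute h z → (∀ l ∈ L, h * l * h⁻¹ ∈ L) → R (h * w * h⁻¹) := by
    intro w h hw hhz hhL x hx hc'
    have hz' : h⁻¹ * z * h = z := by rw [mul_assoc, ← hhz.eq, inv_mul_cancel_left]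
    have h1 : h⁻¹ * x * h ∈ Q z ⊓ Q w := by
      refine ⟨?_, ?_⟩
      · have := isQ.mem_conj h⁻¹ hx.1
        simpa [hz'] using this
      · have := isQ.mem_conj h⁻¹ hx.2
        simpa [mul_assoc] using this
    have h2 := hhL _ (hw _ h1 (hc'.trans (isConj_iff.mpr ⟨h⁻¹, by group⟩)))
    rwa [show h * (h⁻¹ * x * h) * h⁻¹ = x by group] at h2
  -- elements of the line
  have hgen : L ≤ Subgroup.closure {z, c, y} := by
    intro l hl
    have hcom : Subgroup.closure ({c, z', r * z' * r⁻¹} : Set G) ≤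
        (Subgroup.closure ({z, c, y} : Set G)).map (MulAut.conj f).toMonoidHom := by
      rw [Subgroup.closure_le]
      rintro w (rfl | rfl | rfl)
      · exact ⟨c, Subgroup.subset_closure (by simp), hcc⟩
      · exact ⟨z, Subgroup.subset_closure (by simp), rfl⟩
      · exact ⟨y, Subgroup.subset_closure (by simp),
          show f * y * f⁻¹ = _ by rw [hydef]; group⟩
    have hl' : f * l * f⁻¹ ∈ line c r z' := hLz'.symm ▸ hfL hl
    obtain ⟨a, ha, hae⟩ := hcom hl'
    exact mul_left_cancel (mul_right_cancel (hae : f * a * f⁻¹ = f * l * f⁻¹)) ▸ ha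
  have h8 : Nat.card ↥L = 8 := S.card_line F T he hne
  have hLQ : L ≤ Q z := (S.line_le_inter F T he hne).trans inf_le_left
  have hLcomm : ∀ {a b}, a ∈ L → b ∈ L → Commute a b := fun ha hb =>
    S.comm_pair T hne (S.line_le_inter F T he hne ha) (S.line_le_inter F T he hne hb)
  have hLsq : ∀ {a}, a ∈ L → a * a = 1 := fun ha =>
    S.sq_pair T hne (S.line_le_inter F T he hne ha)
  -- `e` is `y` times an element of `⟨z, c⟩`
  have hzL : z ∈ L := z_mem_line z p e
  have hzc : c * z = z * c := (hLcomm hcL hzL).eq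
  have hP := fun {w : G} (hw : w ∈ Subgroup.closure ({z, c} : Set G)) =>
    mem_closure_two S.z_sq C.z_sq hzc hw
  have hyP : y ∉ Subgroup.closure ({z, c} : Set G) := by
    intro hy'
    have hle : L ≤ Subgroup.closure ({z, c} : Set G) := hgen.trans ((Subgroup.closure_le _).mpr (by
      rintro w (rfl | rfl | rfl)
      exacts [Subgroup.subset_closure (by simp), Subgroup.subset_closure (by simp), hy']))
    have hsub : (L : Set G) ⊆ {1, z, c, z * c} := fun w hw => by
      simpa using hP (hle hw)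
    have h1 := Set.ncard_le_ncard hsub
    rw [← Nat.card_coe_set_eq, SetLike.coe_sort_coe, h8] at h1
    have h2 := Set.ncard_insert_le (1 : G) ({z, c, z * c} : Set G)
    have h3 := Set.ncard_insert_le z ({c, z * c} : Set G)
    have h4 := Set.ncard_insert_le c ({z * c} : Set G)
    rw [Set.ncard_singleton] at h4
    omega
  have hey : e = y ∨ e = y * z ∨ e = y * c ∨ e = y * z * c := by
    rcases mem_closure_three S.z_sq C.z_sq hzc (hLsq hyL) (hLcomm hyL hzL).eq
      (hLcomm hyL hcL).eq (hgen (e_mem_line z p e)) with h | h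
    · exfalso
      rcases hP h with h | h | h | h
      · exact T.z_ne_one h
      · exact hne h
      · exact S.pe_ne T he hne h.symm
      · refine S.ne_modZ_pe he T.z_ne_one hne (Or.inr ?_)
        show c = e * z
        rw [h, mul_assoc, hzc, ← mul_assoc, S.z_sq, one_mul]
    · have he' : e = y * (y * e) := by rw [← mul_assoc, hLsq hyL, one_mul]
      rcases hP h with h | h | h | h <;> rw [h] at he'
      · exact Or.inl (he'.trans (mul_one y))
      · exact Or.inr (Or.inl he')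
      · exact Or.inr (Or.inr (Or.inl he'))
      · exact Or.inr (Or.inr (Or.inr (he'.trans (mul_assoc y z c).symm)))
  have hy1 : y ≠ 1 ∧ y ≠ z :=
    ⟨fun h => hyP (h ▸ one_mem _), fun h => hyP (h ▸ Subgroup.subset_closure (by simp))⟩
  obtain ⟨h1, hh1, hh1y⟩ := S.es.exists_conj_ne (hLQ hyL) hy1.1 hy1.2
  obtain ⟨h2, hh2, hh2z, hh2y⟩ := S.exists_move_line F C hzQc hcz.symm hLc hcL hzL hyL h8 hgen
  have hh1L : ∀ l ∈ L, h1 * l * h1⁻¹ ∈ L := by
    intro l hl
    rcases S.es.conj h1 hh1 l (hLQ hl) with h | h <;> rw [h]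
    exacts [hl, mul_mem hl hzL]
  have hh2L : ∀ l ∈ L, h2 * l * h2⁻¹ ∈ L := by
    intro l hl
    rcases C.es.conj h2 hh2 l (hLc hl) with h | h <;> rw [h]
    exacts [hl, mul_mem hl hcL]
  have R1 : R (y * z) := hh1y ▸ hmove hRy (S.es.comm h1 hh1) hh1L
  have R2 : R (y * c) := hh2y ▸ hmove hRy hh2z hh2L
  have R3 : R (y * z * c) := by
    have h3 := hmove R1 hh2z hh2L
    rwa [show h2 * (y * z) * h2⁻¹ = h2 * y * h2⁻¹ * (h2 * z * h2⁻¹) by group, hh2y,
      mul_inv_eq_iff_eq_mul.mpr hh2z.eq, mul_assoc, (hLcomm hcL hzL).eq, ← mul_assoc] at h3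
  rcases hey with h | h | h | h
  · rw [h] at hx; exact hRy x hx hc
  · rw [h] at hx; exact R1 x hx hc
  · rw [h] at hx; exact R2 x hx hc
  · rw [h] at hx; exact R3 x hx hc

/-- All seven involutions of a line are conjugate to `z`. -/
theorem line_class (S : Setting z p) (F : AutFacts) (T : Setting e q) (he : e ∈ Q z)
    (hne : e ≠ z) (hze : IsConj z e) {x : G} (hx : x ∈ line z p e) (hx1 : x ≠ 1) :
    IsConj z x := by
  set c := p * e * p⁻¹ with hc
  set d := p * c * p⁻¹ with hd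
  have h8 := S.card_line F T he hne
  have hec : IsConj z c := hze.trans (isConj_iff.mpr ⟨p, rfl⟩)
  have hed : IsConj z d := hec.trans (isConj_iff.mpr ⟨p, rfl⟩)
  have hLQ : line z p e ≤ Q z := (S.line_le_inter F T he hne).trans inf_le_left
  have hcL : c ∈ line z p e := pe_mem_line z p e
  have hdL : d ∈ line z p e := S.line_invariant F T he hne hcL
  have conjz : p * z * p⁻¹ = z := by rw [S.p_z.eq, mul_inv_cancel_right]
  have inj : ∀ {a b : G}, p * a * p⁻¹ = p * b * p⁻¹ → a = b := fun h =>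
    mul_left_cancel (mul_right_cancel h)
  have hc1 : c ≠ 1 := fun h => T.z_ne_one (inj (h.trans (by group)))
  have hd1 : d ≠ 1 := fun h => hc1 (inj (h.trans (by group)))
  have hcz : c ≠ z := fun h => hne (inj (h.trans conjz.symm))
  have hdz : d ≠ z := fun h => hcz (inj (h.trans conjz.symm))
  have ne1 := S.ne_modZ_pe he T.z_ne_one hne
  have ne2 := S.ne_modZ_pe (hLQ hcL) hc1 hcz
  have hp3 : p * d * p⁻¹ = e := by
    calc p * d * p⁻¹ = p ^ 3 * e * (p ^ 3)⁻¹ := by rw [hd, hc, pow_succ, pow_two]; group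
      _ = e := by rw [S.p_cube]; group
  have ne3 := S.ne_modZ_pe (hLQ hdL) hd1 hdz
  rw [hp3] at ne3
  have hsub : ({1, z, e, e * z, c, c * z, d, d * z} : Set G) ⊆ (line z p e : Set G) := by
    rintro w (rfl | rfl | rfl | rfl | rfl | rfl | rfl | rfl)
    exacts [one_mem _, z_mem_line _ _ _, e_mem_line _ _ _,
      mul_mem (e_mem_line _ _ _) (z_mem_line _ _ _), hcL, mul_mem hcL (z_mem_line _ _ _), hdL,
      mul_mem hdL (z_mem_line _ _ _)]
  change ¬ ModZ z c e at ne1
  change ¬ ModZ z d c at ne2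
  have key : ∀ {a b : G}, ¬ ModZ z a b → a ≠ b ∧ a ≠ b * z ∧ a * z ≠ b ∧ a * z ≠ b * z := by
    intro a b h
    refine ⟨fun h' => h (Or.inl h'), fun h' => h (Or.inr h'), fun h' => h (Or.inr ?_),
      fun h' => h (Or.inl (mul_right_cancel h'))⟩
    rw [← h', mul_assoc, S.z_sq, mul_one]
  obtain ⟨a1, a2, a3, a4⟩ := key ne1
  obtain ⟨b1, b2, b3, b4⟩ := key ne2
  obtain ⟨c1, c2, c3, c4⟩ := key ne3
  have hz1 : ∀ {a : G}, a ≠ 1 → a * z ≠ z := fun ha h => ha (by simpa using h)
  have hz2 : ∀ {a : G}, a ≠ z → a * z ≠ 1 := fun ha h =>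
    ha ((eq_inv_of_mul_eq_one_left h).trans S.es.zinv)
  have hz3 : ∀ {a : G}, a ≠ a * z := fun {a} h => S.z_ne_one (by simpa using h.symm)
  have h8' : ({1, z, e, e * z, c, c * z, d, d * z} : Set G).ncard = 8 := by
    rw [Set.ncard_insert_of_notMem (by
        simp [Ne.symm S.z_ne_one, Ne.symm T.z_ne_one, Ne.symm (hz2 hne), Ne.symm hc1,
          Ne.symm (hz2 hcz), Ne.symm hd1, Ne.symm (hz2 hdz)]),
      Set.ncard_insert_of_notMem (by
        simp [Ne.symm hne, Ne.symm (hz1 T.z_ne_one), Ne.symm hcz, Ne.symm (hz1 hc1), Ne.symm hdz,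
          Ne.symm (hz1 hd1)]),
      Set.ncard_insert_of_notMem (by
        simp [hz3, Ne.symm a1, Ne.symm a3, c1, c2]),
      Set.ncard_insert_of_notMem (by
        simp [Ne.symm a2, Ne.symm a4, c3, c4]),
      Set.ncard_insert_of_notMem (by
        simp [hz3, Ne.symm b1, Ne.symm b3]),
      Set.ncard_eq_three.mpr ⟨c * z, d, d * z, Ne.symm b2, Ne.symm b4, hz3, rfl⟩]
  have heq := Set.eq_of_subset_of_ncard_le hsub (by
    rw [h8', ← Nat.card_coe_set_eq, SetLike.coe_sort_coe, h8]) (Set.toFinite _)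
  have hmem : x ∈ ({1, z, e, e * z, c, c * z, d, d * z} : Set G) := heq ▸ hx
  rcases hmem with h | h | h | h | h | h | h | h
  · exact absurd h hx1
  · exact h ▸ IsConj.refl z
  · exact h ▸ hze
  · exact h ▸ hze.trans (S.isConj_mul_z he T.z_ne_one hne)
  · exact h ▸ hec
  · exact h ▸ hec.trans (S.isConj_mul_z (hLQ hcL) hc1 hcz)
  · exact h ▸ hed
  · exact (Set.mem_singleton_iff.mp h) ▸ hed.trans (S.isConj_mul_z (hLQ hdL) hd1 hdz)

end Setting

end Cfsg.Agent.Lib.J4Local
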