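import Cfsg.Agent.Lib.J4Local.ZeroA

/-!
# A neighbour of `z` centralising a line but outside it

The functions `w ↦ (1 + χ(v,w)) (1 + χ(pvp⁻¹,w))` on representatives `v` of the lines would be
independent if no two of the lines commuted, but they lie in a space of dimension at most 169.
-/

set_option autoImplicit false
set_option linter.unusedSectionVars false
set_option linter.unusedVariables false

namespace Cfsg.Agent.Lib.J4Local

open Cfsg.Agent.Lib.LargeExtraspecial.Basic
open scoped Pointwise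

variable {G : Type*} [Group G]

/-- Too many pairwise separated points for a space of quadratic functions. -/
theorem card_le_of_separated {ι : Type*} [Fintype ι] [DecidableEq ι]
    (A : Submodule (ZMod 2) (ι → ZMod 2)) (hA : Nat.card ↥A ≤ 2 ^ 12)
    (a b : ι → ι → ZMod 2) (ha : ∀ v, a v ∈ A) (hb : ∀ v, b v ∈ A)
    (hd : ∀ v, a v v = 0 ∧ b v v = 0) (hoff : ∀ v w, v ≠ w → a v w = 1 ∨ b v w = 1) :
    Fintype.card ι ≤ 169 := by
  classical
  have hn : Module.finrank (ZMod 2) ↥A ≤ 12 := by
    have h := Module.natCard_eq_pow_finrank (K := ZMod 2) (V := ↥A)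
    rw [Nat.card_zmod] at h
    rw [h] at hA
    exact (Nat.pow_le_pow_iff_right (by norm_num)).mp hA
  let n := Module.finrank (ZMod 2) ↥A
  let B := Module.finBasis (ZMod 2) ↥A
  let s : Finset (ι → ZMod 2) :=
    insert 1 (Finset.univ.image fun i => ((B i : ↥A) : ι → ZMod 2))
  have hscard : s.card ≤ 13 := by
    refine (Finset.card_insert_le _ _).trans ?_
    refine Nat.succ_le_succ (Finset.card_image_le.trans ?_)
    rw [Finset.card_univ, Fintype.card_fin]
    exact hn
  have hAs : A ≤ Submodule.span (ZMod 2) (s : Set (ι → ZMod 2)) := by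
    intro x hx
    have h := congrArg (Subtype.val : ↥A → ι → ZMod 2) (B.sum_repr ⟨x, hx⟩)
    simp only [Submodule.coe_sum, Submodule.coe_smul] at h
    rw [← h]
    exact Submodule.sum_mem _ fun i _ => Submodule.smul_mem _ _
      (Submodule.subset_span (by simp [s]))
  have h1 : (1 : ι → ZMod 2) ∈ Submodule.span (ZMod 2) (s : Set (ι → ZMod 2)) :=
    Submodule.subset_span (by simp [s])
  have htop : (⊤ : Submodule (ZMod 2) (ι → ZMod 2)) ≤
      Submodule.span (ZMod 2) ((s * s : Finset (ι → ZMod 2)) : Set (ι → ZMod 2)) := by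
    rw [Finset.coe_mul, ← Submodule.span_mul_span]
    intro g _
    have hg : g = ∑ v, g v • ((1 + a v) * (1 + b v)) := by
      funext w
      rw [Finset.sum_apply, Finset.sum_eq_single w]
      · simp [(hd w).1, (hd w).2]
      · intro v _ hvw
        rcases hoff v w hvw with h | h <;>
          simp [h, show (1 : ZMod 2) + 1 = 0 by decide]
      · simp
    rw [hg]
    exact Submodule.sum_mem _ fun v _ => Submodule.smul_mem _ _
      (Submodule.mul_mem_mul (add_mem h1 (hAs (ha v))) (add_mem h1 (hAs (hb v))))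
  have hfin := finrank_span_finset_le_card (R := ZMod 2) (s * s)
  rw [Set.finrank, top_le_iff.mp htop, finrank_top, Module.finrank_pi] at hfin
  refine hfin.trans (Finset.card_mul_le.trans ?_)
  calc s.card * s.card ≤ 13 * 13 := Nat.mul_le_mul hscard hscard
    _ = 169 := by norm_num

namespace Setting

variable [Finite G] {z p e q : G}

/-- The line does not depend on the element of order three. -/
theorem line_indep (S : Setting z p) {p' : G} (S' : Setting z p') (F : AutFacts)
    (T : Setting e q) (he : e ∈ Q z) (hne : e ≠ z) : line z p e = line z p' e :=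
  (S.line_symm F T he hne).symm.trans (S'.line_symm F T he hne)

/-- The functionals `w ↦ χ(x, w)`, `x ∈ E`, on a family of points of `E`. -/
noncomputable def pairing (S : Setting z p) {ι : Type*} (f : ι → G) (hf : ∀ i, f i ∈ Q z) :
    ↥(Q z) →* Multiplicative (ι → ZMod 2) where
  toFun x := Multiplicative.ofAdd fun i => chi (x : G) (f i)
  map_one' := by
    apply Multiplicative.toAdd.injective
    funext i
    exact chi_eq_zero.mpr (Commute.one_left _)
  map_mul' x y := by
    apply Multiplicative.toAdd.injective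
    funext i
    exact S.es.chi_mul_left x.2 y.2 (hf i)

theorem pairing_apply (S : Setting z p) {ι : Type*} (f : ι → G) (hf : ∀ i, f i ∈ Q z)
    (x : ↥(Q z)) (i : ι) : Multiplicative.toAdd (S.pairing f hf x) i = chi (x : G) (f i) := rfl

/-- There is a neighbour of `z` centralising the line of `e` but outside the line. -/
theorem exists_perp (S : Setting z p) (F : AutFacts) {g : G}
    (he : g * z * g⁻¹ ∈ Q z) (hne : g * z * g⁻¹ ≠ z) :
    ∃ w, w ∈ Q z ∧ IsConj z w ∧ (∀ l ∈ line z p (g * z * g⁻¹), Commute w l) ∧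
      w ∉ line z p (g * z * g⁻¹) := by
  classical
  set e := g * z * g⁻¹ with hedef
  have T : Setting e (g * p * g⁻¹) := S.conj g
  have hze : IsConj z e := isConj_iff.mpr ⟨g, rfl⟩
  by_contra hcon
  push Not at hcon
  -- the orbit of `e`
  have := Fintype.ofFinite G
  let O : Finset G := Finset.univ.filter fun w => ∃ h ∈ cz z, h * e * h⁻¹ = w
  have hO : ∀ {w}, w ∈ O → ∃ h, Commute h z ∧ h * e * h⁻¹ = w ∧ w ∈ Q z ∧ w ≠ z ∧ IsConj z w := by
    intro w hw
    obtain ⟨h, hh, rfl⟩ := (Finset.mem_filter.mp hw).2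
    refine ⟨h, mem_cz.mp hh, rfl, isQ.normal (mem_cz.mp hh) he, fun hc => hne ?_,
      hze.trans (isConj_iff.mpr ⟨h, rfl⟩)⟩
    exact mul_left_cancel (mul_right_cancel (hc.trans (show z = h * z * h⁻¹ by
      rw [(mem_cz.mp hh).eq, mul_inv_cancel_right])))
  have hOcard : 1386 ≤ O.card := by
    obtain ⟨r, hr, hst⟩ := S.card_stab F T he hne
    have hst' : Nat.card ↥(cz z ⊓ cz e) ≤ 2 ^ 12 * 3840 := by
      rw [hst]; exact Nat.mul_le_mul_left _ (Nat.le_of_dvd (by norm_num) hr)
    have horb : Nat.card ↥(cz z) ≤ O.card * Nat.card ↥(cz z ⊓ cz e) := by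
      let st := (cz z ⊓ cz e).subgroupOf (cz z)
      let m : ↥(cz z) ⧸ st → ↥O := Quotient.lift
        (fun h => ⟨(h : G) * e * (h : G)⁻¹, Finset.mem_filter.mpr ⟨Finset.mem_univ _, h, h.2, rfl⟩⟩)
        (by
          intro a b hab
          have hab' : a⁻¹ * b ∈ st := QuotientGroup.leftRel_apply.mp hab
          have hc : ((a : G)⁻¹ * b) * e * ((a : G)⁻¹ * b)⁻¹ = e :=
            mul_inv_eq_iff_eq_mul.mpr (mem_cz.mp (Subgroup.mem_subgroupOf.mp hab').2).eq
          refine Subtype.ext ?_
          show (a : G) * e * (a : G)⁻¹ = (b : G) * e * (b : G)⁻¹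
          conv_lhs => rw [← hc]
          group)
      have hm : Function.Injective m := by
        intro a b
        induction a using QuotientGroup.induction_on with
        | H a =>
          induction b using QuotientGroup.induction_on with
          | H b =>
            intro h
            have h' : (a : G) * e * (a : G)⁻¹ = (b : G) * e * (b : G)⁻¹ :=
              congrArg (fun y : ↥O => (y : G)) h
            rw [QuotientGroup.eq, Subgroup.mem_subgroupOf]
            refine ⟨(a⁻¹ * b).2, mem_cz.mpr (mul_inv_eq_iff_eq_mul.mp ?_)⟩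
            calc ((a⁻¹ * b : ↥(cz z)) : G) * e * ((a⁻¹ * b : ↥(cz z)) : G)⁻¹
                = (a : G)⁻¹ * ((b : G) * e * (b : G)⁻¹) * a := by
                  simp only [Subgroup.coe_mul, Subgroup.coe_inv]; group
              _ = e := by rw [← h']; group
      have hidx := Subgroup.card_mul_index st
      rw [Nat.card_congr (Subgroup.subgroupOfEquivOfLe (inf_le_left : cz z ⊓ cz e ≤ cz z)).toEquiv]
        at hidx
      rw [← hidx, mul_comm O.card]
      refine Nat.mul_le_mul_left _ ((Nat.card_le_card_of_injective m hm).trans (le_of_eq ?_))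
      rw [Nat.card_eq_fintype_card, Fintype.card_coe]
    have h2 := horb.trans (Nat.mul_le_mul_left _ hst')
    rw [S.card_cz F] at h2
    omega
  -- two points of the orbit commute only inside a line
  have hsep : ∀ {v w}, v ∈ O → w ∈ O → (∀ l ∈ line z p v, Commute w l) → w ∈ line z p v := by
    intro v w hv hw hc
    obtain ⟨h, hhz, rfl, hvQ, hvz, -⟩ := hO hv
    obtain ⟨k, hkz, rfl, hwQ, -, hwc⟩ := hO hw
    have hz' : h * z * h⁻¹ = z := by rw [hhz.eq, mul_inv_cancel_right]
    have S' : Setting z (h * p * h⁻¹) := by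
      have := S.conj h
      rwa [hz'] at this
    have hind : line z p (h * e * h⁻¹) = line z (h * p * h⁻¹) (h * e * h⁻¹) :=
      S.line_indep S' F (T.conj h) hvQ hvz
    have hL : ∀ l ∈ line z p e, h * l * h⁻¹ ∈ line z p (h * e * h⁻¹) := by
      intro l hl
      have := line_conj (h := h) hl
      rw [hz'] at this
      rwa [hind]
    have hm := hcon (h⁻¹ * (k * e * k⁻¹) * h) (by
        have := isQ.normal hhz.inv_left hwQ
        simpa using this)
      (hwc.trans (isConj_iff.mpr ⟨h⁻¹, by group⟩))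
      (fun l hl => by
        simpa [mul_assoc] using (hc _ (hL l hl)).map (MulAut.conj h⁻¹))
    have := hL _ hm
    rwa [show h * (h⁻¹ * (k * e * k⁻¹) * h) * h⁻¹ = k * e * k⁻¹ by group] at this
  have hline : ∀ {v}, v ∈ O → Nat.card ↥(line z p v) = 8 ∧ line z p v ≤ Q z ∧
      (∀ a ∈ line z p v, ∀ b ∈ line z p v, Commute a b) := by
    intro v hv
    obtain ⟨h, -, rfl, hvQ, hvz, -⟩ := hO hv
    exact ⟨S.card_line F (T.conj h) hvQ hvz,
      (S.line_le_inter F (T.conj h) hvQ hvz).trans inf_le_left,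
      fun a ha b hb => S.comm_pair (T.conj h) hvz (S.line_le_inter F (T.conj h) hvQ hvz ha)
        (S.line_le_inter F (T.conj h) hvQ hvz hb)⟩
  -- one point on each line
  let L := O.image (line z p)
  have hfib : O.card ≤ 8 * L.card := by
    refine Finset.card_le_mul_card_image O 8 fun M hM => ?_
    obtain ⟨v, hv, rfl⟩ := Finset.mem_image.mp hM
    have hsub : ∀ w ∈ O.filter (fun w => line z p w = line z p v), w ∈ (line z p v : Set G) := by
      intro w hw
      rw [← (Finset.mem_filter.mp hw).2]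
      exact e_mem_line z p w
    have h := Set.ncard_le_ncard (s := (↑(O.filter fun w => line z p w = line z p v) : Set G))
      (t := (line z p v : Set G)) hsub
    rwa [Set.ncard_coe_finset, ← Nat.card_coe_set_eq, SetLike.coe_sort_coe, (hline hv).1] at h
  have hrep : ∀ M : ↥L, ∃ v ∈ O, line z p v = M := fun M => Finset.mem_image.mp M.2
  choose r hrO hrL using hrep
  have hrQ : ∀ M, r M ∈ Q z := fun M => (hline (hrO M)).2.1 (e_mem_line z p _)
  let Φ := S.pairing r hrQ
  let A : Submodule (ZMod 2) (↥L → ZMod 2) :=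
    { carrier := Set.range fun x : ↥(Q z) => Multiplicative.toAdd (Φ x)
      add_mem' := by
        rintro _ _ ⟨x, rfl⟩ ⟨y, rfl⟩
        exact ⟨x * y, by simp only [map_mul, toAdd_mul]⟩
      zero_mem' := ⟨1, by simp only [map_one, toAdd_one]⟩
      smul_mem' := by
        rintro c _ ⟨x, rfl⟩
        rcases (show ∀ c : ZMod 2, c = 0 ∨ c = 1 by decide) c with rfl | rfl
        · exact ⟨1, by simp only [map_one, toAdd_one, zero_smul]⟩
        · exact ⟨x, by simp only [one_smul]⟩ }
  have hA : Nat.card ↥A ≤ 2 ^ 12 := by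
    have hker : 2 ≤ Nat.card ↥Φ.ker := by
      have hzk : (⟨z, S.es.mem⟩ : ↥(Q z)) ∈ Φ.ker := by
        rw [MonoidHom.mem_ker]
        apply Multiplicative.toAdd.injective
        funext i
        exact chi_eq_zero.mpr (S.es.comm _ (hrQ i)).symm
      by_contra hlt
      have h1 : Φ.ker = ⊥ := Subgroup.eq_bot_of_card_le _ (by omega)
      rw [h1, Subgroup.mem_bot] at hzk
      exact S.z_ne_one (congrArg Subtype.val hzk)
    have h := Subgroup.card_mul_index Φ.ker
    rw [Subgroup.index_ker, S.card_E] at h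
    have hAr : Nat.card ↥A = Nat.card ↥Φ.range := by
      refine Nat.card_congr ⟨fun x => ⟨Multiplicative.ofAdd x.1, ?_⟩,
        fun x => ⟨Multiplicative.toAdd x.1, ?_⟩, fun _ => rfl, fun _ => rfl⟩
      · obtain ⟨y, hy⟩ := x.2; exact ⟨y, by rw [← hy]; rfl⟩
      · obtain ⟨y, hy⟩ := x.2; exact ⟨y, by rw [← hy]⟩
    rw [hAr]
    nlinarith
  have hp : ∀ M, p * r M * p⁻¹ ∈ Q z := fun M => isQ.normal S.p_z (hrQ M)
  have hbound := card_le_of_separated A hA
    (fun M => Multiplicative.toAdd (Φ ⟨r M, hrQ M⟩))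
    (fun M => Multiplicative.toAdd (Φ ⟨p * r M * p⁻¹, hp M⟩))
    (fun M => ⟨_, rfl⟩) (fun M => ⟨_, rfl⟩)
    (fun M => ⟨chi_eq_zero.mpr (Commute.refl _), chi_eq_zero.mpr
      ((hline (hrO M)).2.2 _ (pe_mem_line z p _) _ (e_mem_line z p _))⟩)
    (fun M N hMN => by
      by_contra hc
      push Not at hc
      have h1 : Commute (r M) (r N) := chi_eq_zero.mp (by
        by_contra h0; exact hc.1 (ESCount.zmod_two _ h0))
      have h2 : Commute (p * r M * p⁻¹) (r N) := chi_eq_zero.mp (by
        by_contra h0; exact hc.2 (ESCount.zmod_two _ h0))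
      have hall : ∀ l ∈ line z p (r M), Commute (r N) l := by
        intro l hl
        have hle : line z p (r M) ≤ cz (r N) := by
          rw [line, Subgroup.closure_le]
          rintro w (rfl | rfl | rfl)
          exacts [mem_cz.mpr (S.es.comm _ (hrQ N)).symm, mem_cz.mpr h1, mem_cz.mpr h2]
        exact (mem_cz.mp (hle hl)).symm
      have hmem := hsep (hrO M) (hrO N) hall
      obtain ⟨h, -, hv, hvQ, hvz, -⟩ := hO (hrO M)
      obtain ⟨k, -, hw, -, hwz, -⟩ := hO (hrO N)
      rw [← hv] at hvQ hvz hmem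
      rw [← hw] at hwz hmem
      have := S.line_eq_of_mem F (T.conj h) hvQ hvz (T.conj k) hmem hwz
      rw [hv, hw] at this
      exact hMN (Subtype.ext ((hrL M).symm.trans (this.symm.trans (hrL N)))))
  rw [Fintype.card_coe] at hbound
  omega

/-- An involution of `C(z) \ O₂` conjugate to `z` and lying in the inner part at a neighbour. -/
theorem exists_middle [IsSimpleGroup G] (hG : ¬ IsMulCommutative G) (S : Setting z p)
    (F : AutFacts) (hn : NoZero z p) : ∃ g u, g * z * g⁻¹ ∈ Q z ∧ g * z * g⁻¹ ≠ z ∧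
      u ∈ xSub z p (g * z * g⁻¹) ∧ u ∉ Q z ∧ IsConj z u := by
  obtain ⟨e, he, hc, hne⟩ := exists_fused hG S F
  obtain ⟨g, rfl⟩ := isConj_iff.mp hc
  set e := g * z * g⁻¹ with hedef
  set q := g * p * g⁻¹ with hqdef
  have T : Setting e q := S.conj g
  obtain ⟨w, hw, hwc, hwcomm, hwL⟩ := S.exists_perp F he hne
  have hwe : w ∉ Q e := fun h => hwL (S.inter_class F hn he hne ⟨hw, h⟩ hwc)
  have hze : z ∈ Q e := S.mem_swap F T he hne
  have hgz : g⁻¹ * z * g⁻¹⁻¹ ∈ Q z := by
    have := isQ.mem_conj g⁻¹ hze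
    rwa [show g⁻¹ * e * g⁻¹⁻¹ = z by rw [hedef]; group] at this
  refine ⟨g⁻¹, g⁻¹ * w * g⁻¹⁻¹, hgz, fun h => hne ?_,
    mem_xSub.mpr ⟨⟨isQ.mem_conj g⁻¹ hw, ?_⟩, ?_⟩, fun h => hwe ?_,
    hwc.trans (isConj_iff.mpr ⟨g⁻¹, rfl⟩)⟩
  · calc e = g * (g⁻¹ * z * g⁻¹⁻¹) * g⁻¹ := by rw [h]
      _ = z := by group
  · have hc := (hwcomm e (e_mem_line z p e)).map (MulAut.conj g⁻¹)
    simp only [MulEquiv.coe_toMonoidHom, MulAut.conj_apply] at hc
    rwa [show g⁻¹ * e * g⁻¹⁻¹ = z by rw [hedef]; group] at hc
  · have hwi : w ∈ inner e q := by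
      rw [T.inner_iff_fix hze S.z_ne_one (Ne.symm hne) (hwcomm e (e_mem_line z p e))
        (hwcomm z (z_mem_line z p e))]
      left
      have hmem : q * z * q⁻¹ ∈ line z p e := by
        rw [← S.line_symm F T he hne]
        exact pe_mem_line e q z
      exact mul_inv_eq_iff_eq_mul.mpr (hwcomm _ hmem).eq
    have := inner_conj g⁻¹ hwi
    rwa [show g⁻¹ * e * g⁻¹⁻¹ = z by rw [hedef]; group,
      show g⁻¹ * q * g⁻¹⁻¹ = p by rw [hqdef]; group] at this
  · have := isQ.mem_conj g h
    rwa [show g * (g⁻¹ * w * g⁻¹⁻¹) * g⁻¹ = w by group] at this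

end Setting

end Cfsg.Agent.Lib.J4Local
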